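/-
Fusion systems on a Sylow 2-subgroup of `²F₄(q)` (S5262): the abstract context of an essential subgroup.
`A` is a group of automorphisms of `E ≤ P` (as functions); `f1`: elements of `N_P(E)` stabilising an invariant chain lie in `E`;
`cnt`: the counting consequence of a strongly embedded subgroup.
-/
import Cfsg.Agent.FUS.IsoOn

set_option autoImplicit false

namespace CL.RF4

open CL.Fus Subgroup
open scoped commutatorElement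

variable {Ω : Type*} [Group Ω] {P P' E B C D : Subgroup Ω} {A : Set (Ω → Ω)} {X Y W : Set Ω} {g : Ω}

/-- `X ∩ E` is invariant under `A` -/
def Iv (E : Subgroup Ω) (A : Set (Ω → Ω)) (X : Set Ω) : Prop := ∀ α ∈ A, ∀ y ∈ E, y ∈ X → α y ∈ X

/-- `Iv` for a subgroup -/
abbrev Ivs (E : Subgroup Ω) (A : Set (Ω → Ω)) (B : Subgroup Ω) : Prop := Iv E A B

/-- `g` acts trivially on `(C ∩ E) / (B ∩ E)`, both invariant -/
def St (E : Subgroup Ω) (A : Set (Ω → Ω)) (g : Ω) (B C : Subgroup Ω) : Prop :=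
  Iv E A B ∧ Iv E A C ∧ ∀ y ∈ E, y ∈ C → ⁅g, y⁆ ∈ B

/-- `g` stabilises an invariant chain from `B` to `C` -/
abbrev Ch (E : Subgroup Ω) (A : Set (Ω → Ω)) (g : Ω) (B C : Subgroup Ω) : Prop := Relation.ReflTransGen (St E A g) B C

/-- `A` consists of automorphisms of `E` and is closed under inverses -/
structure Au (E : Subgroup Ω) (A : Set (Ω → Ω)) : Prop where
  hom : ∀ α ∈ A, IsHomOn E α
  maps : ∀ α ∈ A, ∀ y ∈ E, α y ∈ E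
  inv : ∀ α ∈ A, ∃ β ∈ A, ∀ y ∈ E, β (α y) = y ∧ α (β y) = y

/-- `Ω₁ Z(E)` -/
def Om (E : Subgroup Ω) : Subgroup Ω where
  carrier := {m | m ∈ E ∧ m * m = 1 ∧ ∀ y ∈ E, m * y = y * m}
  one_mem' := ⟨one_mem _, mul_one _, fun y _ => by simp⟩
  mul_mem' {a b} ha hb := ⟨mul_mem ha.1 hb.1, by
    rw [mul_assoc, ← mul_assoc b, ← ha.2.2 b hb.1, mul_assoc, hb.2.1, mul_one, ha.2.1],
    fun y hy => by rw [mul_assoc, hb.2.2 y hy, ← mul_assoc, ha.2.2 y hy, mul_assoc]⟩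
  inv_mem' {a} ha := by rw [inv_eq_of_mul_eq_one_right ha.2.1]; exact ha

theorem mem_Om : g ∈ Om E ↔ g ∈ E ∧ g * g = 1 ∧ ∀ y ∈ E, g * y = y * g := Iff.rfl

/-- `Z(E)` -/
def Zn (E : Subgroup Ω) : Subgroup Ω where
  carrier := {m | m ∈ E ∧ ∀ y ∈ E, m * y = y * m}
  one_mem' := ⟨one_mem _, fun y _ => by simp⟩
  mul_mem' {a b} ha hb := ⟨mul_mem ha.1 hb.1, fun y hy => by rw [mul_assoc, hb.2 y hy, ← mul_assoc, ha.2 y hy, mul_assoc]⟩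
  inv_mem' {a} ha := ⟨inv_mem ha.1, fun y hy => by rw [inv_mul_eq_iff_eq_mul, ← mul_assoc, ha.2 y hy, mul_inv_cancel_right]⟩

theorem mem_Zn : g ∈ Zn E ↔ g ∈ E ∧ ∀ y ∈ E, g * y = y * g := Iff.rfl

/-- the preimage of `Ω₁ Z(E / B)` -/
def Om2 (E B : Subgroup Ω) (hB : ∀ y ∈ E, ∀ b ∈ B, y * b * y⁻¹ ∈ B) : Subgroup Ω where
  carrier := {m | m ∈ E ∧ m * m ∈ B ∧ ∀ y ∈ E, ⁅m, y⁆ ∈ B}
  one_mem' := ⟨one_mem _, by simp, fun y _ => by simp⟩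
  mul_mem' {a b} ha hb := ⟨mul_mem ha.1 hb.1, by
    rw [show a * b * (a * b) = a * ⁅b, a⁆ * a⁻¹ * (a * a * (b * b)) by simp only [commutatorElement_def]; group]
    exact mul_mem (hB a ha.1 _ (hb.2.2 a ha.1)) (mul_mem ha.2.1 hb.2.1),
    fun y hy => by
      rw [show ⁅a * b, y⁆ = a * ⁅b, y⁆ * a⁻¹ * ⁅a, y⁆ by simp only [commutatorElement_def]; group]
      exact mul_mem (hB a ha.1 _ (hb.2.2 y hy)) (ha.2.2 y hy)⟩
  inv_mem' {a} ha := ⟨inv_mem ha.1, by rw [← mul_inv_rev]; exact inv_mem ha.2.1, fun y hy => by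
    rw [show ⁅a⁻¹, y⁆ = a⁻¹ * ⁅a, y⁆⁻¹ * a⁻¹⁻¹ by simp only [commutatorElement_def]; group]
    exact hB _ (inv_mem ha.1) _ (inv_mem (ha.2.2 y hy))⟩

theorem mem_Om2 {hB : ∀ y ∈ E, ∀ b ∈ B, y * b * y⁻¹ ∈ B} :
    g ∈ Om2 E B hB ↔ g ∈ E ∧ g * g ∈ B ∧ ∀ y ∈ E, ⁅g, y⁆ ∈ B := Iff.rfl

/-- the context -/
structure Cx (P E : Subgroup Ω) (A : Set (Ω → Ω)) : Prop extends Au E A where
  le : E ≤ P
  f1 : ∀ g ∈ P, g ∈ normalizer (E : Set Ω) → Ch E A g ⊥ ⊤ → g ∈ E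
  cnt : ∀ B M : Subgroup Ω, B ≤ P → B ≤ normalizer (E : Set Ω) → (∀ b ∈ B, b * b ∈ E) →
    (∀ b ∈ B, b ∉ E → ∀ m ∈ Om E, b * m = m * b ↔ m ∈ M) → ¬ Om E ≤ M → E.relIndex B + 2 ≤ 2 * M.relIndex (Om E)

namespace Iv

theorem congr (h : Iv E A X) (e : ∀ y ∈ E, y ∈ X ↔ y ∈ Y) (hA : Au E A) : Iv E A Y :=
  fun α hα y hy hY => (e _ (hA.maps α hα y hy)).1 (h α hα y hy ((e y hy).2 hY))

theorem inter (h : Iv E A X) (h' : Iv E A Y) : Iv E A (X ∩ Y) :=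
  fun α hα y hy hY => ⟨h α hα y hy hY.1, h' α hα y hy hY.2⟩

theorem top : Iv E A (⊤ : Subgroup Ω) := fun _ _ _ _ _ => trivial

theorem mono {A' : Set (Ω → Ω)} (h : Iv E A X) (h' : A' ⊆ A) : Iv E A' X := fun α hα => h α (h' hα)

end Iv

namespace Au

variable (hA : Au E A)
include hA

theorem surj {α : Ω → Ω} (hα : α ∈ A) {y : Ω} (hy : y ∈ E) : ∃ x ∈ E, α x = y :=
  let ⟨β, hβ, e⟩ := hA.inv α hα; ⟨β y, hA.maps β hβ y hy, (e y hy).2⟩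

theorem inj {α : Ω → Ω} (hα : α ∈ A) {x y : Ω} (hx : x ∈ E) (hy : y ∈ E) (e : α x = α y) : x = y :=
  let ⟨β, _, e'⟩ := hA.inv α hα; by rw [← (e' x hx).1, e, (e' y hy).1]

theorem surj' (hX : Iv E A X) {α : Ω → Ω} (hα : α ∈ A) {y : Ω} (hy : y ∈ E) (h : y ∈ X) : ∃ x ∈ E, x ∈ X ∧ α x = y :=
  let ⟨β, hβ, e⟩ := hA.inv α hα; ⟨β y, hA.maps β hβ y hy, hX β hβ y hy h, (e y hy).2⟩

theorem iv_compl (hX : Iv E A X) : Iv E A Xᶜ := fun α hα y hy h h' =>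
  let ⟨β, hβ, e⟩ := hA.inv α hα; h ((e y hy).1 ▸ hX β hβ _ (hA.maps α hα y hy) h')

theorem iv_self : Iv E A E := fun α hα y hy _ => hA.maps α hα y hy

theorem iv_bot : Iv E A (⊥ : Subgroup Ω) := fun α hα y _ h => by
  rw [SetLike.mem_coe, mem_bot] at h ⊢; rw [h, (hA.hom α hα).map_one]

theorem iv_cent (hX : Iv E A X) : Iv E A {g | ∀ x ∈ E, x ∈ X → g * x = x * g} := fun α hα y hy h x hx hx' => by
  obtain ⟨x, h1, h2, rfl⟩ := hA.surj' hX hα hx hx'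
  rw [← hA.hom α hα hy h1, ← hA.hom α hα h1 hy, h x h1 h2]

theorem iv_comm (hX : Iv E A X) (hY : Iv E A Y) : Iv E A {g | ∀ x ∈ E, x ∈ X → ⁅g, x⁆ ∈ Y} := fun α hα y hy h x hx hx' => by
  obtain ⟨x, h1, h2, rfl⟩ := hA.surj' hX hα hx hx'
  rw [← (hA.hom α hα).map_commutator hy h1]
  exact hY α hα _ (mul_mem (mul_mem (mul_mem hy h1) (inv_mem hy)) (inv_mem h1)) (h x h1 h2)

theorem iv_sq (hY : Iv E A Y) : Iv E A {g | g * g ∈ Y} := fun α hα y hy h => by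
  rw [Set.mem_ofPred_eq, ← hA.hom α hα hy hy]; exact hY α hα _ (mul_mem hy hy) h

theorem iv_inv : Iv E A {g | g * g = 1} := fun α hα y hy h => by
  rw [Set.mem_ofPred_eq, ← hA.hom α hα hy hy, h, (hA.hom α hα).map_one]

theorem iv_brk (hX : Iv E A X) (hY : Iv E A Y) : Iv E A {z | ∃ x ∈ E, x ∈ X ∧ ∃ y ∈ E, y ∈ Y ∧ z = ⁅x, y⁆} := by
  rintro α hα _ _ ⟨x, h1, h2, y, h3, h4, rfl⟩
  exact ⟨_, hA.maps α hα x h1, hX α hα x h1 h2, _, hA.maps α hα y h3, hY α hα y h3 h4, (hA.hom α hα).map_commutator h1 h3⟩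

theorem iv_mul (hX : Iv E A X) (hY : Iv E A Y) : Iv E A {z | ∃ x ∈ E, x ∈ X ∧ ∃ y ∈ E, y ∈ Y ∧ z = x * y} := by
  rintro α hα _ _ ⟨x, h1, h2, y, h3, h4, rfl⟩
  exact ⟨_, hA.maps α hα x h1, hX α hα x h1 h2, _, hA.maps α hα y h3, hY α hα y h3 h4, hA.hom α hα h1 h3⟩

theorem iv_sqs (hX : Iv E A X) : Iv E A {z | ∃ x ∈ E, x ∈ X ∧ z = x * x} := by
  rintro α hα _ _ ⟨x, h1, h2, rfl⟩
  exact ⟨_, hA.maps α hα x h1, hX α hα x h1 h2, hA.hom α hα h1 h1⟩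

theorem iv_Zn : Iv E A (Zn E) :=
  (hA.iv_cent hA.iv_self).congr (fun _ hy => ⟨fun h => ⟨hy, fun x hx => h x hx hx⟩, fun h x hx _ => h.2 x hx⟩) hA

theorem iv_Om : Iv E A (Om E) :=
  (hA.iv_Zn.inter hA.iv_inv).congr (fun _ _ => ⟨fun h => ⟨h.1.1, h.2, h.1.2⟩, fun h => ⟨⟨h.1, h.2.2⟩, h.2.1⟩⟩) hA

theorem iv_Om2 (hB : ∀ y ∈ E, ∀ b ∈ B, y * b * y⁻¹ ∈ B) (h : Iv E A B) : Iv E A (Om2 E B hB) :=
  ((hA.iv_sq h).inter (hA.iv_comm hA.iv_self h)).congr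
    (fun _ hy => ⟨fun h => ⟨hy, h.1, fun x hx => h.2 x hx hx⟩, fun h => ⟨h.2.1, fun x hx _ => h.2.2 x hx⟩⟩) hA

/-- restriction to an invariant subgroup -/
theorem restrict {E' : Subgroup Ω} (h : E' ≤ E) (h' : Iv E A E') : Au E' A :=
  ⟨fun α hα => (hA.hom α hα).mono h, fun α hα y hy => h' α hα y (h hy) hy,
    fun α hα => let ⟨β, hβ, e⟩ := hA.inv α hα; ⟨β, hβ, fun y hy => e y (h hy)⟩⟩

/-- for finite `X`: if the inverse of `α` maps `X ∩ E` into `X`, so does `α` -/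
theorem mem_of_inv [Finite Ω] {α β : Ω → Ω} (hβ : β ∈ A) (e : ∀ y ∈ E, α (β y) = y)
    (h : ∀ y ∈ E, y ∈ X → β y ∈ X) {y : Ω} (hy : y ∈ E) (hX : y ∈ X) : α y ∈ X := by
  have h1 : Set.MapsTo β ((E : Set Ω) ∩ X) ((E : Set Ω) ∩ X) := fun x hx => ⟨hA.maps β hβ x hx.1, h x hx.1 hx.2⟩
  obtain ⟨x, hx, rfl⟩ := (((Set.toFinite _).injOn_iff_bijOn_of_mapsTo h1).1
    fun a ha b hb e => hA.inj hβ ha.1 hb.1 e).surjOn ⟨hy, hX⟩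
  rw [e x hx.1]; exact hx.2

end Au

theorem mem_normalizer_of_comm [Finite Ω] (h : ∀ y ∈ E, ⁅g, y⁆ ∈ E) : g ∈ normalizer (E : Set Ω) :=
  mem_normalizer_of_cj_mem fun y hy => by simpa [cj, commutatorElement_def] using mul_mem (h y hy) hy

theorem Ch.step (h : Ch E A g B C) (hC : Iv E A C) (hD : Iv E A D) (e : ∀ y ∈ E, y ∈ D → ⁅g, y⁆ ∈ C) : Ch E A g B D :=
  h.tail ⟨hC, hD, e⟩

theorem Ch.base (hA : Au E A) (hD : Iv E A D) (e : ∀ y ∈ E, y ∈ D → g * y = y * g) : Ch E A g ⊥ D :=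
  .single ⟨hA.iv_bot, hD, fun y hy h => mem_bot.2 (commutatorElement_eq_one_iff_mul_comm.2 (e y hy h))⟩

namespace Cx

variable (h : Cx P E A)
include h

theorem mono (h1 : E ≤ P') (h2 : P' ≤ P) : Cx P' E A :=
  { h.toAu with le := h1, f1 := fun g hg => h.f1 g (h2 hg), cnt := fun B M hB => h.cnt B M (hB.trans h2) }

/-- the last step of a chain -/
theorem mem_of_ch [Finite Ω] (hg : g ∈ P) (hc : Ch E A g ⊥ B) (hB : Iv E A B) (e : ∀ y ∈ E, ⁅g, y⁆ ∈ B)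
    (e' : ∀ y ∈ E, ⁅g, y⁆ ∈ E) : g ∈ E :=
  h.f1 g hg (mem_normalizer_of_comm e') (hc.step hB Iv.top fun y hy _ => e y hy)

theorem mem1 [Finite Ω] (hg : g ∈ P) (e : ∀ y ∈ E, g * y = y * g) : g ∈ E :=
  have e' := fun y hy => commutatorElement_eq_one_iff_mul_comm.2 (e y hy)
  h.mem_of_ch hg .refl h.iv_bot (fun y hy => mem_bot.2 (e' y hy)) fun y hy => e' y hy ▸ one_mem _

/-- the chain `1 < B < E`; `D` is any subgroup of `B ⊓ E` containing `[g, E]` -/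
theorem mem2 [Finite Ω] (hg : g ∈ P) (hB : Iv E A B) (e1 : ∀ y ∈ E, y ∈ B → g * y = y * g) (hD : D ≤ B) (hD' : D ≤ E)
    (e2 : ∀ y ∈ E, ⁅g, y⁆ ∈ D) : g ∈ E :=
  h.mem_of_ch hg (Ch.base h.toAu hB e1) hB (fun y hy => hD (e2 y hy)) fun y hy => hD' (e2 y hy)

/-- the chain `1 < B < C < E`; `D` is any subgroup of `C ⊓ E` containing `[g, E]` -/
theorem mem3 [Finite Ω] (hg : g ∈ P) (hB : Iv E A B) (hC : Iv E A C) (e1 : ∀ y ∈ E, y ∈ B → g * y = y * g)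
    (e2 : ∀ y ∈ E, y ∈ C → ⁅g, y⁆ ∈ B) (hD : D ≤ C) (hD' : D ≤ E) (e3 : ∀ y ∈ E, ⁅g, y⁆ ∈ D) : g ∈ E :=
  h.mem_of_ch hg ((Ch.base h.toAu hB e1).step hB hC e2) hC (fun y hy => hD (e3 y hy)) fun y hy => hD' (e3 y hy)

/-- the counting argument: `B E / E` has at least `|κ|²` elements, `Om E / M` at most `|κ|` -/
theorem false_of_cnt [Finite Ω] {κ : Type*} [Finite κ] (B M : Subgroup Ω) (h1 : B ≤ P) (h2 : ∀ b ∈ B, ∀ y ∈ E, ⁅b, y⁆ ∈ E)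
    (h3 : ∀ b ∈ B, b * b ∈ E) (h4 : ∀ b ∈ B, b ∉ E → ∀ m ∈ Om E, b * m = m * b ↔ m ∈ M) (h5 : ¬ Om E ≤ M)
    (ψ : κ × κ → Ω) (h6 : ∀ i, ψ i ∈ B) (h7 : ∀ i j, (ψ i)⁻¹ * ψ j ∈ E → i = j) (φ : Ω → κ)
    (h8 : ∀ m ∈ Om E, ∀ m' ∈ Om E, φ m = φ m' → m⁻¹ * m' ∈ M) : False := by
  have c := h.cnt B M h1 (fun b hb => mem_normalizer_of_comm (h2 b hb)) h3 h4 h5
  have c1 : Nat.card (κ × κ) ≤ E.relIndex B := Nat.card_le_card_of_injective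
    (fun i => (QuotientGroup.mk ⟨ψ i, h6 i⟩ : B ⧸ E.subgroupOf B)) fun i j e =>
      h7 i j ((QuotientGroup.eq (s := E.subgroupOf B)).1 e)
  have c2 : M.relIndex (Om E) ≤ Nat.card κ := Nat.card_le_card_of_injective
    (fun x : Om E ⧸ M.subgroupOf (Om E) => φ x.out) fun x y e => by
      rw [← x.out_eq, ← y.out_eq]; exact QuotientGroup.eq.2 (h8 _ x.out.2 _ y.out.2 e)
  rw [Nat.card_prod] at c1
  nlinarith [sq_nonneg ((Nat.card κ : ℤ) - 1)]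

end Cx

end CL.RF4
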