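/-
S5262: the counting argument for a strongly embedded subgroup.
-/
import Cfsg.Agent.FUS.RF4.Cx
import Cfsg.Agent.FUS.TransvSPE
import Cfsg.Agent.INV.InvCalc

set_option autoImplicit false

namespace CL.RF4.CxF

open CL.Fus Subgroup

/-- two involutions modulo `I` in different Sylow subgroups have a product of odd order modulo `I` -/
theorem odd_pair {Γ : Type*} [Group Γ] {I T X H : Subgroup Γ} [Finite X] (h : RelSPE I T X H) (hT : SylIn 2 T X)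
    (hI : X ≤ normalizer (I : Set Γ)) {a b γ : Γ} (ha : a ∈ T) (ha' : a ∉ I) (ha2 : a * a ∈ I) (hb : b ∈ T) (hb' : b ∉ I)
    (hb2 : b * b ∈ I) (hγ : γ ∈ X) (hγ' : γ ∉ H) : ∃ k, Odd k ∧ (γ * a * γ⁻¹ * b) ^ k ∈ I := by
  have hIT := h.1.le
  have hHX := h.2.1.le
  have : (I.subgroupOf X).Normal := (normal_subgroupOf_iff_le_normalizer (hIT.trans hT.le)).2 hI
  let π := QuotientGroup.mk' (I.subgroupOf X)
  have hπ : ∀ x : X, π x = 1 ↔ (x : Γ) ∈ I := fun x => QuotientGroup.eq_one_iff x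
  have cI : ∀ {x y : Γ}, x ∈ X → (x * y * x⁻¹ ∈ I ↔ y ∈ I) := fun hx => (mem_normalizer_iff.1 (hI hx) _).symm
  let s : X := ⟨γ * a * γ⁻¹, mul_mem (mul_mem hγ (hT.le ha)) (inv_mem hγ)⟩
  let c : X := ⟨b, hT.le hb⟩
  rcases Nat.even_or_odd (orderOf (π s * π c)) with ⟨m, hm⟩ | ho
  swap
  · exact ⟨_, ho, (hπ ((s * c) ^ _)).1 (by rw [map_pow, map_mul, pow_orderOf_eq_one])⟩
  exfalso
  obtain ⟨h1, h2, h3⟩ := CL.Inv.central_involution_of_even (s := π s) (t := π c)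
    (by rw [← map_mul, hπ]; exact (by rw [conj_mul]; exact (cI hγ).2 ha2 : γ * a * γ⁻¹ * (γ * a * γ⁻¹) ∈ I))
    (by rw [← map_mul, hπ]; exact hb2) (hm.trans (two_mul m).symm) (by rintro rfl; exact (orderOf_pos _).ne' hm)
  rw [← map_mul, ← map_pow] at h1 h2 h3
  generalize (s * c) ^ m = z at h1 h2 h3
  obtain ⟨h4, h5⟩ := orderOf_eq_prime_iff.1 h1
  have key : ∀ y : X, Commute (π y) (π z) → (z : Γ) * y * (z : Γ)⁻¹ * (y : Γ)⁻¹ ∈ I := fun y e =>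
    (hπ (z * y * z⁻¹ * y⁻¹)).1 (by rw [map_mul, map_mul, map_mul, ← e.eq, map_inv, map_inv]; group)
  have k1 : (z : Γ) ∈ H := h.mem_of_conj_mem hT hI z.2 hb hb' (by simpa [cj, c] using mul_mem (hIT (key c h3)) hb)
  have k2 : γ⁻¹ * z * γ ∈ H := h.mem_of_conj_mem hT hI (mul_mem (mul_mem (inv_mem hγ) z.2) hγ) ha ha' (by
    have := mul_mem (hIT ((cI (inv_mem hγ)).2 (key s h2))) ha
    simpa [cj, s, mul_assoc] using this)
  have : Finite H := finite_of_le hHX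
  obtain ⟨k, hk⟩ := hT.isPGroup ⟨_, hIT ((hπ (z ^ 2)).1 (by rw [map_pow, h4]))⟩
  obtain ⟨y, hy, e⟩ := (hT.of_le (h.le hT.le) hHX).exists_conj_le (zpowers_le.2 k1)
    (isPGroup_zpowers_of_pow_eq_one (k := k + 1) (by rw [pow_succ', pow_mul]; exact congrArg Subtype.val hk))
  have k3 := h.mem_of_conj_mem' hT hI (e _ (mem_zpowers _)) (fun e => h5 ((hπ z).2 ((cI (hHX hy)).1 e)))
    (mul_mem (inv_mem hγ) (inv_mem (hHX hy))) (by simpa [mul_assoc] using k2)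
  exact hγ' (by simpa using inv_mem (mul_mem k3 hy))

variable {Ω : Type*} [Group Ω] [Finite Ω]

theorem ncard_diff {A B : Subgroup Ω} (h : A ≤ B) : Nat.card {x // x ∈ B ∧ x ∉ A} + Nat.card A = Nat.card B :=
  Set.ncard_sdiff_add_ncard_of_subset (s := (A : Set Ω)) (t := B) h

theorem two_mul_le {A B : Subgroup Ω} (h : A < B) : 2 * Nat.card A ≤ Nat.card B := by
  obtain ⟨k, hk⟩ := card_dvd_of_le h.le
  have h1 : Nat.card A < Nat.card B := CL.Fus.card_lt_of_lt h le_rfl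
  rcases k with _ | _ | k <;> nlinarith

omit [Finite Ω] in
theorem card_rel {A B : Subgroup Ω} (h : A ≤ B) : Nat.card A * A.relIndex B = Nat.card B := by
  rw [← Nat.card_congr (subgroupOfEquivOfLe h).toEquiv]; exact card_mul_index _

theorem count {E B V M N : Subgroup Ω} {σ : Ω → Ω} (hV : ∀ v ∈ V, v * v = 1) (hM : M < V) (hσ : IsHomOn V σ)
    (hσ1 : ∀ v ∈ V, σ v ∈ V) (hσ2 : ∀ v ∈ V, σ (σ v) = v) (hN : ∀ v, v ∈ N ↔ v ∈ V ∧ σ v = v)
    (hc : Nat.card N = Nat.card M) (h1 : ∀ b ∈ B, ∀ v ∈ V, cj b v ∈ V) (h2 : ∀ b ∈ E, ∀ v ∈ V, cj b v = v)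
    (h3 : ∀ b ∈ B, b * b ∈ E) (h4 : ∀ b ∈ B, b ∉ E → ∀ v ∈ V, cj b v = v ↔ v ∈ M)
    (h5 : ∀ b ∈ B, b ∉ E → ∀ v ∈ V, σ (cj b (σ (cj b v))) = v → σ (cj b v) = v) (h6 : ¬ B ≤ E) :
    E.relIndex B + 2 ≤ 2 * M.relIndex V := by
  have inv : ∀ v ∈ V, v⁻¹ = v := fun v hv => inv_eq_of_mul_eq_one_right (hV v hv)
  have comm : ∀ a ∈ V, ∀ b ∈ V, a * b = b * a := fun a ha b hb => by
    rw [← inv _ (mul_mem ha hb), mul_inv_rev, inv a ha, inv b hb]
  have bb : ∀ b ∈ B, ∀ v ∈ V, cj b (cj b v) = v := fun b hb v hv => by rw [← cj_mul, h2 _ (h3 b hb) v hv]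
  have c1 := card_rel hM.le
  have c2 := two_mul_le hM
  have c0 : 0 < Nat.card M := Nat.card_pos
  by_cases hNM : N ≤ M
  · obtain rfl : N = M := eq_of_le_of_card_ge hNM le_rfl hc.ge
    have key : ∀ b ∈ B, b ∉ E → ∀ v ∈ V, cj b v = σ v := fun b hb hb' v hv => by
      have e1 : ∀ w ∈ V, w * σ w ∈ N := fun w hw =>
        (hN _).2 ⟨mul_mem hw (hσ1 w hw), by rw [hσ hw (hσ1 w hw), hσ2 w hw, comm _ hw _ (hσ1 w hw)]⟩
      have e2 : v * cj b v ∈ N := (h4 b hb hb' _ (mul_mem hv (h1 b hb v hv))).1 (by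
        rw [isHomOn_cj V b hv (h1 b hb v hv), bb b hb v hv, comm _ hv _ (h1 b hb v hv)])
      have hw := h1 b hb v hv
      have e3 : σ (cj b v) = v * (v * cj b v * (cj b v * σ (cj b v))) := by
        rw [mul_assoc v, ← mul_assoc (cj b v), hV _ hw, one_mul, ← mul_assoc, hV v hv, one_mul]
      have e4 := mul_mem e2 (e1 _ hw)
      generalize v * cj b v * (cj b v * σ (cj b v)) = y at e3 e4
      have e5 := h5 b hb hb' v hv (by
        rw [e3, isHomOn_cj V b hv (hM.le e4), (h4 b hb hb' y (hM.le e4)).2 e4, hσ hw (hM.le e4), e3, ((hN y).1 e4).2,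
          mul_assoc, hV y (hM.le e4), mul_one])
      rw [← hσ2 _ hw, e5]
    obtain ⟨a, ha, ha'⟩ := SetLike.not_le_iff_exists.1 h6
    have e : E.relIndex B = 2 := relIndex_eq_two_iff_exists_notMem_and.2 ⟨a, ha, ha', fun b hb => by
      by_contra! hn
      refine hM.not_ge fun v hv => (h4 _ (mul_mem hb ha) hn.1 v hv).1 ?_
      rw [cj_mul, key a ha ha' v hv, key b hb hn.2 _ (hσ1 v hv), hσ2 v hv]⟩
    nlinarith
  have c3 := two_mul_le (inf_lt_left.2 hNM)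
  have c4 := ncard_diff (inf_le_left : N ⊓ M ≤ N)
  have c5 := ncard_diff hM.le
  have c6 : Nat.card ((B ⧸ E.subgroupOf B) × {x // x ∈ N ∧ x ∉ N ⊓ M}) ≤ Nat.card {x // x ∈ V ∧ x ∉ M} := by
    refine Nat.card_le_card_of_injective (fun p => ⟨cj p.1.out p.2, h1 _ p.1.out.2 _ ((hN _).1 p.2.2.1).1, fun e => ?_⟩) ?_
    · have hv := ((hN _).1 p.2.2.1).1
      refine p.2.2.2 ⟨p.2.2.1, ?_⟩
      by_cases hb : (p.1.out : Ω) ∈ E
      · rwa [h2 _ hb _ hv] at e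
      · rwa [← bb _ p.1.out.2 _ hv, (h4 _ p.1.out.2 hb _ (hM.le e)).2 e]
    rintro ⟨q, m, hm, hm'⟩ ⟨q', m', hn, hn'⟩ e
    replace e : cj (q.out : Ω) m = cj (q'.out : Ω) m' := congrArg Subtype.val e
    have e1 : cj ((q'.out : Ω)⁻¹ * q.out) m = m' := by rw [cj_mul, e, cj_inv_cj]
    have hd := mul_mem (inv_mem q'.out.2) q.out.2
    obtain ⟨hv, hs⟩ := (hN _).1 hm
    have hE : (q'.out : Ω)⁻¹ * q.out ∈ E := by
      by_contra hE
      have e2 := h5 _ hd hE m hv (by rw [e1, ((hN _).1 hn).2, ← e1, bb _ hd m hv, hs])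
      rw [e1, ((hN _).1 hn).2] at e2
      exact hm' ⟨hm, (h4 _ hd hE m hv).1 (e1.trans e2)⟩
    rw [h2 _ hE m hv] at e1
    subst e1
    obtain rfl : q' = q := q'.out_eq.symm.trans ((QuotientGroup.eq (s := E.subgroupOf B)).2 hE |>.trans q.out_eq)
    rfl
  rw [Nat.card_prod] at c6
  change E.relIndex B * _ ≤ _ at c6
  nlinarith

end CL.RF4.CxF
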