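/-
S5262: the context of an essential subgroup; transport; the centraliser system. General 2-groups.
-/
import Cfsg.Agent.FUS.RF4.Cx
import Cfsg.Agent.FUS.CRTools
import Cfsg.Agent.FUS.KNormSat
import Cfsg.Agent.FUS.OpPrime
import Cfsg.Agent.FUS.RF4.CxF1

set_option autoImplicit false
set_option linter.unusedSectionVars false

namespace CL.RF4

open CL.Fus Subgroup Cfsg Cfsg.FusionSystem
open scoped commutatorElement

variable {Ω : Type*} [Group Ω] {P E : Subgroup Ω} {A : Set (Ω → Ω)}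

theorem commutator_mem_of {x y : Ω} (hx : x ∈ P) (hy : y ∈ P) : ⁅x, y⁆ ∈ P :=
  mul_mem (mul_mem (mul_mem hx hy) (inv_mem hx)) (inv_mem hy)

theorem CxF.au_of (N : Subgroup (MulAut E)) : Au E {f | ∃ α ∈ N, f = autFun α} :=
  ⟨by rintro _ ⟨α, -, rfl⟩; exact isHomOn_autFun α, by rintro _ ⟨α, -, rfl⟩ y hy; exact autFun_mem α hy, by
    rintro _ ⟨α, hα, rfl⟩
    exact ⟨_, ⟨α⁻¹, inv_mem hα, rfl⟩, fun y hy => ⟨autFun_inv_autFun α hy, autFun_autFun_inv α hy⟩⟩⟩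

theorem CxF.rel_img {θ θ' : Ω → Ω} (e : IsoOn P P θ θ') {K H : Subgroup Ω} (hK : K ≤ P) (hH : H ≤ P) :
    (img θ K).relIndex (img θ H) = K.relIndex H := by
  rw [← map_subgroupOf_eq_img (φ := e.hom.toHom) (fun _ => rfl) hK, ← map_subgroupOf_eq_img (φ := e.hom.toHom) (fun _ => rfl) hH,
    relIndex_map_map_of_injective _ _ fun x y h => Subtype.ext (e.injOn x.2 y.2 h), relIndex_subgroupOf hH]

/-- transport along an automorphism of `P` (membership in `img θ E`: `IsoOn.mem_img_iff`, `map_mem_img_iff`).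
Proof. Pull a chain back by `B ↦ img θ' (B ⊓ P)` (`Relation.ReflTransGen.lift`), add the last step `P → ⊤`; in `cnt` use `img θ' B`, `img θ' (M ⊓ P)`;
`Om (img θ E) = img θ (Om E)`; `relIndex` through cardinalities (`IsoOn.card_img`, `img_inf`). -/
theorem Cx.transport [Finite Ω] (h : Cx P E A) {θ θ' : Ω → Ω} (e : IsoOn P P θ θ') :
    Cx P (img θ E) {β | ∃ α ∈ A, β = θ ∘ α ∘ θ'} := by
  have m1 : ∀ {y}, y ∈ img θ E ↔ y ∈ P ∧ θ' y ∈ E := e.mem_img_iff h.le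
  have m2 : ∀ {y}, y ∈ E → θ y ∈ img θ E := mem_img_of_mem θ
  have pb : ∀ {B : Subgroup Ω} {y}, y ∈ img θ' (B ⊓ P) ↔ y ∈ P ∧ θ y ∈ B := fun {B y} => by
    rw [e.symm.mem_img_iff inf_le_right]
    exact and_congr_right fun hy => and_iff_left (e.maps y hy)
  have iv : ∀ {B : Subgroup Ω}, Iv (img θ E) {β | ∃ α ∈ A, β = θ ∘ α ∘ θ'} B → Iv E A (img θ' (B ⊓ P)) :=
    fun hB α hα y hy hy' => pb.2 ⟨h.le (h.maps α hα y hy), by
      simpa [e.left y (h.le hy)] using hB _ ⟨α, hα, rfl⟩ _ (m2 hy) (pb.1 hy').2⟩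
  have om : Om (img θ E) = img θ (Om E) := by
    ext m
    rw [e.mem_img_iff (P := Om E) fun y hy => h.le hy.1, mem_Om, mem_Om, m1]
    refine ⟨fun ⟨⟨h1, h2⟩, h3, h4⟩ => ⟨h1, h2, by rw [← e.symm.map_mul h1 h1, h3, e.symm.map_one], fun y hy => ?_⟩,
      fun ⟨h1, h2, h3, h4⟩ => ⟨⟨h1, h2⟩, (e.symm.eq_one_iff (mul_mem h1 h1)).1 (by rw [e.symm.map_mul h1 h1, h3]), fun y hy => ?_⟩⟩
    · have h5 := e.maps y (h.le hy)
      rw [← e.left y (h.le hy), ← e.symm.map_mul h1 h5, ← e.symm.map_mul h5 h1, h4 _ (m2 hy)]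
    · obtain ⟨h5, h6⟩ := m1.1 hy
      rw [← e.symm.eq_iff (mul_mem h1 h5) (mul_mem h5 h1), e.symm.map_mul h1 h5, e.symm.map_mul h5 h1, h4 _ h6]
  refine ⟨⟨?_, ?_, ?_⟩, e.img_le h.le, fun g hg hn hc => m1.2 ⟨hg, h.f1 _ (e.maps' g hg) ?_ ?_⟩, fun B M hB hn h1 h2 h3 => ?_⟩
  · rintro _ ⟨α, hα, rfl⟩ x hx y hy
    obtain ⟨x1, x2⟩ := m1.1 hx
    obtain ⟨y1, y2⟩ := m1.1 hy
    simp only [Function.comp, e.symm.map_mul x1 y1, h.hom α hα x2 y2,
      e.map_mul (h.le (h.maps α hα _ x2)) (h.le (h.maps α hα _ y2))]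
  · rintro _ ⟨α, hα, rfl⟩ y hy
    exact m2 (h.maps α hα _ (m1.1 hy).2)
  · rintro _ ⟨α, hα, rfl⟩
    obtain ⟨β, hβ, k⟩ := h.inv α hα
    refine ⟨_, ⟨β, hβ, rfl⟩, fun y hy => ?_⟩
    obtain ⟨y1, y2⟩ := m1.1 hy
    simp only [Function.comp, e.left _ (h.le (h.maps α hα _ y2)), e.left _ (h.le (h.maps β hβ _ y2)), k _ y2,
      e.right y y1, and_self]
  · exact (e.map_mem_normalizer_iff h.le (e.maps' g hg)).1 (by rwa [e.right g hg])
  · have h1 : Ch E A (θ' g) (img θ' (⊥ ⊓ P)) (img θ' (⊤ ⊓ P)) := hc.lift (fun B => img θ' (B ⊓ P)) fun B C k =>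
      ⟨iv k.1, iv k.2.1, fun y hy hy' => pb.2 ⟨commutator_mem_of (e.maps' g hg) (h.le hy), by
        rw [e.hom.map_commutator (e.maps' g hg) (h.le hy), e.right g hg]; exact k.2.2 _ (m2 hy) (pb.1 hy').2⟩⟩
    rw [bot_inf_eq, e.symm.img_bot, top_inf_eq, e.symm.img_eq] at h1
    exact h1.step (fun α hα y hy _ => h.le (h.maps α hα y hy)) Iv.top fun y hy _ =>
      commutator_mem_of (e.maps' g hg) (h.le hy)
  have hO : Om E ≤ P := fun y hy => h.le hy.1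
  have mB : ∀ {b}, b ∈ img θ' B ↔ b ∈ P ∧ θ b ∈ B := e.symm.mem_img_iff hB
  have := h.cnt (img θ' B) (img θ' (M ⊓ P)) (e.symm.img_le hB)
    (fun b hb => (e.map_mem_normalizer_iff h.le (mB.1 hb).1).1 (hn (mB.1 hb).2))
    (fun b hb => (e.map_mem_img_iff h.le (mul_mem (mB.1 hb).1 (mB.1 hb).1)).1 (by
      rw [e.map_mul (mB.1 hb).1 (mB.1 hb).1]; exact h1 _ (mB.1 hb).2))
    (fun b hb hb' m hm => by
      obtain ⟨b1, b2⟩ := mB.1 hb
      rw [pb, and_iff_right (hO hm), ← h2 _ b2 (mt (e.map_mem_img_iff h.le b1).1 hb') _ (om ▸ mem_img_of_mem θ hm),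
        ← e.map_mul b1 (hO hm), ← e.map_mul (hO hm) b1, e.eq_iff (mul_mem b1 (hO hm)) (mul_mem (hO hm) b1)])
    fun k => h3 (om ▸ img_le_iff.2 fun m hm => (pb.1 (k hm)).2)
  rwa [← CxF.rel_img e h.le (e.symm.img_le hB), ← CxF.rel_img e (e.symm.img_le inf_le_right) hO, e.img_img' hB,
    e.img_img' inf_le_right, ← om, ← inf_relIndex_right (M ⊓ P), inf_assoc,
    inf_eq_right.2 (show Om (img θ E) ≤ P from fun y hy => e.img_le h.le hy.1), inf_relIndex_right] at this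

variable {S : Subgroup Ω} [Finite Ω] {F : FusionSystem S}

/-- the `F`-automorphisms of `E` as functions -/
def fa (F : FusionSystem S) (E : Subgroup Ω) : Set (Ω → Ω) := {f | ∃ α ∈ F.autGroup E, f = autFun α}

theorem au_fa (F : FusionSystem S) (E : Subgroup Ω) : Au E (fa F E) := CxF.au_of _

/-- translation to the chains of `FUS/NormalSub` (first alternative of `StabStep`; apply the hypothesis to `y⁻¹`) -/
theorem Ch.stabStep {g : Ω} (hn : g ∈ normalizer (E : Set Ω)) {N : Subgroup (MulAut E)} {B C : Subgroup Ω}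
    (h : Ch E {f | ∃ α ∈ N, f = autFun α} g B C) : Relation.ReflTransGen (StabStep 2 N (cjAut E g hn)) B C :=
  Relation.ReflTransGen.mono (fun _ _ k => .inl ⟨fun α hα => k.1 _ ⟨α, hα, rfl⟩, fun α hα => k.2.1 _ ⟨α, hα, rfl⟩, fun y hy hy' => by
    simpa [autFun_cjAut hn hy, cj, commutatorElement_def, mul_assoc] using inv_mem (k.2.2 _ (inv_mem hy) (inv_mem hy'))⟩) _ _ h

/-- Proof. `f1`: `mem_of_chain` with `isRadical_of_essential`, `Ch.stabStep`.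
`cnt`: `X = Aut_F(E)`, `I = Inn E`, `T = Aut_S(E)`, `H` with `RelSPE I T X H` (`exists_relSPE_of_essential`), `V = Om E`, `M₁ = M ⊓ V < V`, so `|V : M₁| ≥ 2`; `I` acts trivially on `V`.
If `B ≤ E` the left side is `3`. Else `b₀ ∈ B ∖ E`, `γ ∈ X ∖ H`, `s = γ c_{b₀} γ⁻¹`. Fact: a 2-element `z ∈ H ∖ I` and `x ∈ X` with `x z x⁻¹ ∈ H` give `x ∈ H` (conjugate both into `T`
inside `H`, `mem_of_conj_mem_of_normalizers`); so `s ∉ H`. For `b ∈ B ∖ E`, `s c_b` has odd order modulo `I` (in `X / I` two involutions with product of even order `2k` both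
commute with `z = (s c_b)^k ≠ 1`; then `z ∈ H`, then `s ∈ H`). So a vector fixed by `(s c_b)²` is fixed by `s c_b`. `N = C_V(s) = γ M₁`, `|N| = |M₁|`.
The sets `c_b(N) ∖ M₁`, `b ∈ B / (B ⊓ E)`, are disjoint subsets of `V ∖ M₁` (`m ∈ N`, `c_b m ∈ N`, `b ∉ E` give `(s c_b)² m = m`, so `c_b m = s m = m`, `m ∈ M₁`) of size `|N| - |N ⊓ M₁|`.
If `N ≠ M₁` this is `≥ |M₁| / 2`, whence the claim. If `N = M₁`: `[V, s] ≤ N`, `[V, c_b] ≤ M₁` (involutions), so `(s c_b)² = 1` on `V`, so `s = c_b` on `V` for every `b ∈ B ∖ E`;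
`b, b' ∈ B ∖ E` give `c_{b b'} = 1` on `V`, so `b b' ∈ E` and the index is `2`. -/
theorem cx_of_essential (hS : IsPGroup 2 S) (hF : F.IsSaturated 2) (hE : F.IsEssential 2 E) : Cx S E (fa F E) := by
  have hES : E ≤ S := hE.1.1
  have hc := centralizerIn_le_of_isCentric hE.1
  refine ⟨au_fa F E, hES, fun g hg hn k => mem_of_chain hS hc (isRadical_of_essential hS hF hE) hg hn le_top (k.stabStep hn),
    fun B M hB hn h1 h2 h3 => ?_⟩
  have hM : M ⊓ Om E < Om E := inf_lt_right.2 h3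
  rw [← inf_relIndex_right M]
  by_cases h6 : B ≤ E
  · have c1 := CxF.card_rel hM.le
    have c2 := CxF.two_mul_le hM
    have c0 : 0 < Nat.card (M ⊓ Om E : Subgroup Ω) := Nat.card_pos
    rw [relIndex_eq_one.2 h6]
    nlinarith
  obtain ⟨a, ha, ha'⟩ := SetLike.not_le_iff_exists.1 h6
  obtain ⟨H, hH⟩ := exists_relSPE_of_essential hS hF hE
  obtain ⟨γ, hγ, hγ'⟩ := SetLike.exists_of_lt hH.2.1
  have iv : ∀ α ∈ F.autGroup E, ∀ v ∈ Om E, autFun α v ∈ Om E := fun α hα v hv =>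
    (au_fa F E).iv_Om _ ⟨α, hα, rfl⟩ v hv.1 hv
  have cX : ∀ b (hb : b ∈ B), cjAut E b (hn hb) ∈ F.autGroup E := fun b hb => cjAut_mem_autGroup F hES (hB hb) _
  have cI : ∀ b (hb : b ∈ B), cjAut E b (hn hb) ∈ Inn E ↔ b ∈ E := fun b hb => cjAut_mem_inn_iff hES hc (hB hb) _
  have c2 : ∀ b (hb : b ∈ B), cjAut E b (hn hb) * cjAut E b (hn hb) ∈ Inn E := fun b hb => by
    rw [← cjAut_mul]; exact (cI _ (mul_mem hb hb)).2 (h1 b hb)
  have k2 : ∀ b ∈ E, ∀ v ∈ Om E, cj b v = v := fun b hb v hv => cj_eq_self_iff.2 (hv.2.2 b hb).symm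
  have k4 : ∀ b ∈ B, b ∉ E → ∀ v ∈ Om E, cj b v = v ↔ v ∈ M ⊓ Om E := fun b hb hb' v hv => by
    rw [cj_eq_self_iff, h2 b hb hb' v hv, mem_inf, and_iff_left hv]
  have kI : ∀ α ∈ Inn E, ∀ v ∈ Om E, autFun α v = v := fun α hα v hv => by
    obtain ⟨g, hg, e⟩ := mem_inn_iff.1 hα
    rw [e hv.1, k2 g hg v hv]
  have hs : γ * cjAut E a (hn ha) * γ⁻¹ ∈ F.autGroup E := mul_mem (mul_mem hγ (cX a ha)) (inv_mem hγ)
  have hγE := mor_autFun hES hγ
  have hle : M ⊓ Om E ≤ E := fun y hy => hy.2.1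
  refine CxF.count (σ := autFun (γ * cjAut E a (hn ha) * γ⁻¹)) (N := img (autFun γ) (M ⊓ Om E)) (fun v hv => hv.2.1) hM
    ((isHomOn_autFun _).mono fun y hy => hy.1) (iv _ hs) (fun v hv => ?_) (fun v => ?_) (hγE.mono hle).card_img
    (fun b hb v hv => autFun_cjAut (hn hb) hv.1 ▸ iv _ (cX b hb) v hv) k2 h1 k4 (fun b hb hb' v hv e => ?_) h6
  · rw [← autFun_mul _ _ hv.1, conj_mul]
    exact kI _ ((mem_normalizer_iff.1 (autGroup_le_normalizer_inn F E hγ) _).1 (c2 a ha)) v hv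
  · refine ⟨fun hv => ?_, fun ⟨hv, e⟩ => ?_⟩
    · obtain ⟨m, hm, rfl⟩ := (hγE.mono hle).mem_img.1 hv
      refine ⟨iv _ hγ m hm.2, ?_⟩
      rw [← autFun_mul _ _ (hle hm), inv_mul_cancel_right, autFun_mul _ _ (hle hm), autFun_cjAut _ (hle hm),
        (k4 a ha ha' m hm.2).2 hm]
    · have h5 := iv _ (inv_mem hγ) v hv
      rw [← autFun_autFun_inv γ hv.1]
      refine mem_img_of_mem _ ((k4 a ha ha' _ h5).1 ?_)
      rw [← autFun_cjAut (hn ha) h5.1]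
      nth_rw 2 [← e]
      rw [← autFun_mul _ _ hv.1, ← autFun_mul _ _ hv.1]; simp only [mul_assoc, inv_mul_cancel_left]
  · obtain ⟨k, ⟨j, rfl⟩, hk⟩ := CxF.odd_pair hH (sylIn_of_fullyNormalized hS hF hE.2.1) (autGroup_le_normalizer_inn F E)
      (cjAut_mem_autInducedBy (hB ha) _) (mt (cI a ha).1 ha') (c2 a ha) (cjAut_mem_autInducedBy (hB hb) _)
      (mt (cI b hb).1 hb') (c2 b hb) hγ hγ'
    have e1 : ∀ w ∈ E, autFun (γ * cjAut E a (hn ha) * γ⁻¹) (cj b w) =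
        autFun (γ * cjAut E a (hn ha) * γ⁻¹ * cjAut E b (hn hb)) w := fun w hw => by
      rw [autFun_mul _ (cjAut _ _ _) hw, autFun_cjAut _ hw]
    rw [e1 v hv.1, e1 _ (autFun_mem _ hv.1), ← autFun_mul _ _ hv.1, ← pow_two] at e
    have e2 := kI _ hk v hv
    rwa [pow_succ', autFun_mul _ _ hv.1, pow_mul, autFun_pow_of_fix hv.1 e, ← e1 v hv.1] at e2

/-- If `V ⊴ S`, `V ≤ E` is invariant under `Aut_F(E)` and `C_F(V)` has no essential subgroups, then `C_S(V) ≤ E`.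
Proof. `D = centSys F V` is saturated (`fullyNormalized_of_normal`, `fullyCentralized_of_fullyNormalized`, `centSys_saturated`); every morphism of `D` extends to `C = C_S(V)`
(`exists_extend_top_of_no_essential`). If `C ≰ E` take `g ∈ C ⊓ N(E) ∖ E` (`exists_mem_normalizer_not_mem_of_not_le`). `E₀ = E ⊓ C` is invariant. `L = {α ∈ Aut_F(E) | ∃ c ∈ C, α = c_c on E₀}` is normal in
`Aut_F(E)`: WARNING first show it for `K = {α | α = 1 on V}`: `α ∈ K` restricted to `E₀` is a morphism of `D` (`V ≤ E₀` if `V` is abelian; in general use `E₀ ⊔ V`), extends to `α'` on `C`, `α c_c α⁻¹ = c_{α' c}` on `E₀`.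
So `L ⊴ K ⊴ Aut_F(E)`. `L` is a 2-group: `α = c_c` on `E₀` gives `α^(2^n) = 1` on `E₀`, and `α ∈ K` is trivial on `E / E₀` (`(α y)⁻¹ y` centralises `V`), so `α^(2^(n+1))`... has 2-power order
(`β = 1` on `E₀`, `β y = y d`, `d ∈ E₀`, `β^k y = y d^k`). Hence `c_g ∈ L ≤ O₂(K) ≤ O₂(Aut_F E) = Inn E` (`isRadical_of_essential`), `g ∈ E` (`cjAut_mem_inn_iff`). -/
theorem cent_le_of_inv (hS : IsPGroup 2 S) (hF : F.IsSaturated 2) (hE : F.IsEssential 2 E) {V : Subgroup Ω} (hV : V ≤ E)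
    (hc : ∀ x ∈ V, ∀ y ∈ V, x * y = y * x) (hn : S ≤ normalizer (V : Set Ω)) (hi : Iv E (fa F E) V)
    (h : ∀ D : FusionSystem (centralizerIn S V), D.IsSaturated 2 → ∀ E', ¬ D.IsEssential 2 E') : centralizerIn S V ≤ E := by
  have hES : E ≤ S := hE.1.1
  set C := centralizerIn S V with hC
  have mC : ∀ {y}, y ∈ C ↔ y ∈ S ∧ ∀ v ∈ V, v * y = y * v := Iff.rfl
  have hD := centSys_saturated hS hF (fullyCentralized_of_fullyNormalized hS hF (fullyNormalized_of_normal F (hV.trans hES) hn))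
  by_contra hle
  obtain ⟨g, hg, hgn, hgE⟩ := exists_mem_normalizer_not_mem_of_not_le hS hES (centralizerIn_le S V)
    (CL.Fus.le_normalizer_inf (hES.trans le_normalizer) (CL.Fus.le_normalizer_centralizer (hES.trans hn))) hle
  let K : Subgroup (MulAut E) := F.autGroup E ⊓ ⨅ v : V, fixElt E v (hV v.2)
  have mK : ∀ {α}, α ∈ K ↔ α ∈ F.autGroup E ∧ ∀ v ∈ V, autFun α v = v := fun {α} => by
    simp only [K, mem_inf, mem_iInf, Subtype.forall]; rfl
  have KC : ∀ α ∈ K, ∀ y ∈ E, y ∈ C → autFun α y ∈ C := fun α hα y hy k => mC.2 ⟨hES (autFun_mem α hy), fun v hv => by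
    rw [← (mK.1 hα).2 v hv, ← isHomOn_autFun α (hV hv) hy, ← isHomOn_autFun α hy (hV hv), k.2 v hv]⟩
  let L : Subgroup (MulAut E) :=
    { carrier := {α | α ∈ K ∧ ∃ c ∈ C, ∀ y ∈ E, y ∈ C → autFun α y = cj c y}
      one_mem' := ⟨one_mem _, 1, one_mem _, fun y hy _ => by rw [autFun_one hy, cj_one]⟩
      mul_mem' := fun {a b} ⟨ha, c, hc, e⟩ ⟨hb, d, hd, e'⟩ => ⟨mul_mem ha hb, c * d, mul_mem hc hd, fun y hy k => by
        rw [autFun_mul _ _ hy, e _ (autFun_mem b hy) (KC b hb y hy k), e' y hy k, cj_mul]⟩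
      inv_mem' := fun {a} ⟨ha, c, hc, e⟩ => ⟨inv_mem ha, c⁻¹, inv_mem hc, fun y hy k => by
        have := e _ (autFun_mem a⁻¹ hy) (KC _ (inv_mem ha) y hy k)
        rw [autFun_autFun_inv a hy] at this
        nth_rw 2 [this]
        rw [cj_inv_cj]⟩ }
  have hp : IsPGroup 2 L := isPGroup_of_forall_coprime fun α ⟨hα, c, hc', e⟩ ho => mulAut_ext_autFun fun y hy => by
    rw [autFun_one hy]
    refine autFun_eq_of_coprime (A := C) (hS.to_le hES) ho (fun z hz k => ?_) hy (mC.2 ⟨mul_mem (inv_mem (hES hy))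
      (hES (autFun_mem α hy)), fun v hv => ?_⟩)
    · obtain ⟨n, hn'⟩ := hS ⟨c, hc'.1⟩
      have e1 : ∀ j : ℕ, autFun (α ^ j) z = cj (c ^ j) z := fun j => by
        induction j with
        | zero => rw [pow_zero, pow_zero, autFun_one hz, cj_one]
        | succ j ih => rw [pow_succ', autFun_mul _ _ hz, e _ (autFun_mem _ hz) (KC _ (pow_mem hα j) z hz k), ih, pow_succ', cj_mul]
      have e2 : α ^ 2 ^ n ∈ fixElt E z hz := by
        change _ = _
        rw [e1, show c ^ 2 ^ n = 1 from congrArg Subtype.val hn', cj_one]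
      exact zpowers_le.2 e2 (mem_zpowers_pow_iff.2 (Nat.Coprime.pow_left n ho.symm))
    · have e1 := (mK.1 hα).2 _ (cj_mem_of_mem_normalizer (hn (hES hy)) hv)
      rw [(isHomOn_autFun α).map_cj hy (hV hv), (mK.1 hα).2 v hv, cj, cj] at e1
      calc v * (y⁻¹ * autFun α y) = y⁻¹ * (y * v * y⁻¹) * autFun α y := by group
        _ = _ := by rw [← e1]; group
  have hKL : K ≤ normalizer (L : Set (MulAut E)) := le_normalizer_iff.2 fun κ hκ α ⟨hα, c, hc', e⟩ => by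
    obtain ⟨κ', h1, h2⟩ := exists_extend_top_of_no_essential (hS.to_le (centralizerIn_le S V)) hD (h _ hD)
      (mor_centSys.2 ⟨inf_le_right, autFun κ, (mor_autFun hES (mK.1 hκ).1).mono (sup_le (inf_le_left : E ⊓ C ≤ E) hV),
        fun _ _ => rfl, (mK.1 hκ).2⟩)
    refine ⟨mul_mem (mul_mem hκ hα) (inv_mem hκ), κ' c, h1.map_mem hc', fun y hy k => ?_⟩
    have y1 := autFun_mem κ⁻¹ hy
    have y2 := KC _ (inv_mem hκ) y hy k
    rw [autFun_mul _ _ hy, autFun_mul _ _ y1, ← h2 ⟨autFun_mem α y1, KC α hα _ y1 y2⟩, e _ y1 y2, h1.map_cj hc' y2,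
      h2 ⟨y1, y2⟩, autFun_autFun_inv κ hy]
  have hXK : F.autGroup E ≤ normalizer (K : Set (MulAut E)) := le_normalizer_iff.2 fun γ hγ κ hκ =>
    mK.2 ⟨mul_mem (mul_mem hγ (mK.1 hκ).1) (inv_mem hγ), fun v hv => by
      rw [autFun_mul _ _ (hV hv), autFun_mul _ _ (autFun_mem _ (hV hv)),
        (mK.1 hκ).2 _ (hi _ ⟨_, inv_mem hγ, rfl⟩ v (hV hv) hv), autFun_autFun_inv γ (hV hv)]⟩
  have h1 : cjAut E g hgn ∈ L := ⟨mK.2 ⟨cjAut_mem_autGroup F hES hg.1 _, fun v hv => by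
    rw [autFun_cjAut hgn (hV hv), cj_eq_of_mem_centralizer hg.2 hv]⟩, g, hg, fun y hy _ => autFun_cjAut hgn hy⟩
  have h2 := le_map_pCore ((CL.Fus.map_pCore_le K).trans inf_le_left) (fun γ hγ => mem_normalizer_iff.2 fun α =>
    (equiv_mem_map_pCore_iff (MulAut.conj γ) fun a => (mem_normalizer_iff.1 (hXK hγ) a).symm).symm) (CL.Fus.isPGroup_map_pCore K)
    (le_map_pCore (N := L) (fun _ k => k.1) hKL hp h1)
  rw [(isRadical_of_essential hS hF hE).2] at h2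
  exact hgE ((cjAut_mem_inn_iff hES (centralizerIn_le_of_isCentric hE.1) hg.1 hgn).1 h2)

/-- `P ⊴ S` centric, `X ⊴ S`. If every `s ∈ S` stabilises a chain invariant under the automorphisms of `P` that leave `X ⊓ P` invariant, these extend to `S`.
Proof. `N = Aut_F(P) ⊓ stabAut P X` contains `Aut_S(P)` and the automorphism of `f` (`Mor.exists_aut`, finiteness); `A = {autFun α | α ∈ N}`; `Ch.stabStep` (cut the chain at `⊤ ≥ P`:
`mem_pCore_of_chain` only needs `P ≤ B`); then as `CL.S4F.le_normalizer_of_chain`, `CL.S4F.exists_ext_top` (FUS/S4/Tools, 10 lines; import or copy). -/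
theorem ext_of_chain (hS : IsPGroup 2 S) (hF : F.IsSaturated 2) (hP : F.IsCentric P) (hn : S ≤ normalizer (P : Set Ω))
    {X : Subgroup Ω} (hX : S ≤ normalizer (X : Set Ω))
    (h : ∀ A, Au P A → Iv P A X → ∀ s ∈ S, Ch P A s ⊥ ⊤) {f : Ω → Ω} (hf : Mor F P f) (h1 : ∀ x ∈ P, f x ∈ P)
    (h2 : ∀ x ∈ P, x ∈ X → f x ∈ X) : ∃ g, Mor F S g ∧ Set.EqOn g f P := by
  obtain ⟨α, hα, e⟩ := hf.exists_aut (hf.img_eq_self h1)
  have hT := sylIn_of_fullyNormalized hS hF (fullyNormalized_of_normal F hP.1 hn)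
  set N := F.autGroup P ⊓ stabAut P X with hN
  have hαN : α ∈ N := ⟨hα, fun x hx => e hx ▸ ⟨fun k => by
    have h3 : img f (P ⊓ X) = P ⊓ X := (hf.mono inf_le_left).img_eq_self fun y hy => ⟨h1 y hy.1, h2 y hy.1 hy.2⟩
    exact ((hf.mem_img_iff inf_le_left hx).1 (h3.symm ▸ ⟨h1 x hx, k⟩)).2, h2 x hx⟩⟩
  have hTN : autInducedBy S P ≤ N := le_inf hT.le fun β hβ x hx => by
    obtain ⟨s, hs, e'⟩ := mem_autInducedBy_iff.1 hβ
    rw [e' hx]
    exact (mem_normalizer_iff.1 (hX hs) x).symm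
  have hO := hT.eq_of_le ((CL.Fus.map_pCore_le N).trans inf_le_left) (CL.Fus.isPGroup_map_pCore N) fun β hβ => by
    obtain ⟨s, hs, hs', rfl⟩ := mem_autInducedBy_iff_cjAut.1 hβ
    exact mem_pCore_of_chain (hS.to_le hP.1) (hTN hβ) le_top
      ((h _ (CxF.au_of N) (by rintro _ ⟨γ, hγ, rfl⟩ y hy k; exact (hγ.2 y hy).2 k) s hs).stabStep hs')
  have h3 := le_normalizer_map_pCore (p := 2) N hαN
  rw [hO] at h3
  obtain ⟨g, hg, e'⟩ := exists_extend_of_isCentric hS hF (mor_autFun hP.1 hα) hP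
  exact ⟨g, hg.mono fun s hs => (mem_Nphi_autFun_iff hP.1 hα).2 ⟨hs, hn hs,
    (mem_normalizer_iff.1 h3 _).1 (cjAut_mem_autInducedBy hs (hn hs))⟩, e'.trans e⟩

end CL.RF4
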