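/-
S5262: coordinate subgroups of `U σ`.
For a normal coordinate subgroup `B`: `div_mem_B` (`g h⁻¹ ∈ B` iff the other coordinates agree) and `comm_mem_B` (use it instead of expanding a commutator).
-/
import Cfsg.Agent.INV.RF.Defs

set_option autoImplicit false
set_option linter.unusedSimpArgs false
set_option linter.unusedSectionVars false

namespace CL.RF4

open CL.RF CL.RF.U
open scoped commutatorElement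

variable {K : Type*} [Field K] {σ : K →+* K} [T : Tits σ] {g h : U σ}

/-- `Z = V₄` -/
def sZ : Subgroup (U σ) where
  carrier := {g | g.a1 = 0 ∧ g.b2 = 0 ∧ g.c2 = 0 ∧ g.a3 = 0 ∧ g.b4 = 0 ∧ g.a5 = 0 ∧ g.b6 = 0 ∧ g.c6 = 0 ∧ g.a7 = 0 ∧ g.b8 = 0 ∧ g.c8 = 0}
  mul_mem' {a b} ha hb := by simp only [Set.mem_ofPred_eq] at *; usimp; simp [*]
  one_mem' := ⟨rfl, rfl, rfl, rfl, rfl, rfl, rfl, rfl, rfl, rfl, rfl⟩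
  inv_mem' {a} ha := by simp only [Set.mem_ofPred_eq] at *; usimp; simp [*]

theorem mem_sZ : g ∈ sZ ↔ g.a1 = 0 ∧ g.b2 = 0 ∧ g.c2 = 0 ∧ g.a3 = 0 ∧ g.b4 = 0 ∧ g.a5 = 0 ∧ g.b6 = 0 ∧ g.c6 = 0 ∧ g.a7 = 0 ∧ g.b8 = 0 ∧ g.c8 = 0 := Iff.rfl

theorem div_mem_sZ : g * h⁻¹ ∈ sZ ↔ g.a1 = h.a1 ∧ g.b2 = h.b2 ∧ g.c2 = h.c2 ∧ g.a3 = h.a3 ∧ g.b4 = h.b4 ∧ g.a5 = h.a5 ∧ g.b6 = h.b6 ∧ g.c6 = h.c6 ∧ g.a7 = h.a7 ∧ g.b8 = h.b8 ∧ g.c8 = h.c8 := by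
  have := T.char
  refine ⟨fun e => ?_, fun ⟨e0, e1, e2, e3, e4, e5, e6, e7, e8, e9, e10⟩ => ?_⟩
  · obtain ⟨b, rfl⟩ : ∃ b, g = b * h := ⟨g * h⁻¹, by simp⟩
    rw [mul_inv_cancel_right] at e
    obtain ⟨e0, e1, e2, e3, e4, e5, e6, e7, e8, e9, e10⟩ := mem_sZ.1 e
    usimp; simp [*]
  · rw [mem_sZ]; usimp; simp only [e0, e1, e2, e3, e4, e5, e6, e7, e8, e9, e10]; and_intros <;> grind

theorem comm_mem_sZ : ⁅g, h⁆ ∈ sZ ↔ (g * h).a1 = (h * g).a1 ∧ (g * h).b2 = (h * g).b2 ∧ (g * h).c2 = (h * g).c2 ∧ (g * h).a3 = (h * g).a3 ∧ (g * h).b4 = (h * g).b4 ∧ (g * h).a5 = (h * g).a5 ∧ (g * h).b6 = (h * g).b6 ∧ (g * h).c6 = (h * g).c6 ∧ (g * h).a7 = (h * g).a7 ∧ (g * h).b8 = (h * g).b8 ∧ (g * h).c8 = (h * g).c8 := by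
  rw [← div_mem_sZ, commutatorElement_def, mul_inv_rev, mul_assoc]

instance : (sZ (σ := σ)).Normal := ⟨fun h e g => by
  have := T.char
  obtain ⟨e0, e1, e2, e3, e4, e5, e6, e7, e8, e9, e10⟩ := mem_sZ.1 e
  have k : ⁅g, h⁆ ∈ sZ := by rw [comm_mem_sZ]; usimp; simp only [e0, e1, e2, e3, e4, e5, e6, e7, e8, e9, e10]; and_intros <;> grind
  simpa [commutatorElement_def] using mul_mem k e⟩

/-- `V₆` -/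
def sV6 : Subgroup (U σ) where
  carrier := {g | g.a1 = 0 ∧ g.b2 = 0 ∧ g.c2 = 0 ∧ g.a3 = 0 ∧ g.b4 = 0 ∧ g.c4 = 0 ∧ g.a5 = 0 ∧ g.b6 = 0 ∧ g.a7 = 0 ∧ g.b8 = 0 ∧ g.c8 = 0}
  mul_mem' {a b} ha hb := by simp only [Set.mem_ofPred_eq] at *; usimp; simp [*]
  one_mem' := ⟨rfl, rfl, rfl, rfl, rfl, rfl, rfl, rfl, rfl, rfl, rfl⟩
  inv_mem' {a} ha := by simp only [Set.mem_ofPred_eq] at *; usimp; simp [*]

theorem mem_sV6 : g ∈ sV6 ↔ g.a1 = 0 ∧ g.b2 = 0 ∧ g.c2 = 0 ∧ g.a3 = 0 ∧ g.b4 = 0 ∧ g.c4 = 0 ∧ g.a5 = 0 ∧ g.b6 = 0 ∧ g.a7 = 0 ∧ g.b8 = 0 ∧ g.c8 = 0 := Iff.rfl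

/-- `V = V₄ V₆` -/
def sV : Subgroup (U σ) where
  carrier := {g | g.a1 = 0 ∧ g.b2 = 0 ∧ g.c2 = 0 ∧ g.a3 = 0 ∧ g.b4 = 0 ∧ g.a5 = 0 ∧ g.b6 = 0 ∧ g.a7 = 0 ∧ g.b8 = 0 ∧ g.c8 = 0}
  mul_mem' {a b} ha hb := by simp only [Set.mem_ofPred_eq] at *; usimp; simp [*]
  one_mem' := ⟨rfl, rfl, rfl, rfl, rfl, rfl, rfl, rfl, rfl, rfl⟩
  inv_mem' {a} ha := by simp only [Set.mem_ofPred_eq] at *; usimp; simp [*]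

theorem mem_sV : g ∈ sV ↔ g.a1 = 0 ∧ g.b2 = 0 ∧ g.c2 = 0 ∧ g.a3 = 0 ∧ g.b4 = 0 ∧ g.a5 = 0 ∧ g.b6 = 0 ∧ g.a7 = 0 ∧ g.b8 = 0 ∧ g.c8 = 0 := Iff.rfl

theorem div_mem_sV : g * h⁻¹ ∈ sV ↔ g.a1 = h.a1 ∧ g.b2 = h.b2 ∧ g.c2 = h.c2 ∧ g.a3 = h.a3 ∧ g.b4 = h.b4 ∧ g.a5 = h.a5 ∧ g.b6 = h.b6 ∧ g.a7 = h.a7 ∧ g.b8 = h.b8 ∧ g.c8 = h.c8 := by
  have := T.char
  refine ⟨fun e => ?_, fun ⟨e0, e1, e2, e3, e4, e5, e6, e7, e8, e9⟩ => ?_⟩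
  · obtain ⟨b, rfl⟩ : ∃ b, g = b * h := ⟨g * h⁻¹, by simp⟩
    rw [mul_inv_cancel_right] at e
    obtain ⟨e0, e1, e2, e3, e4, e5, e6, e7, e8, e9⟩ := mem_sV.1 e
    usimp; simp [*]
  · rw [mem_sV]; usimp; simp only [e0, e1, e2, e3, e4, e5, e6, e7, e8, e9]; and_intros <;> grind

theorem comm_mem_sV : ⁅g, h⁆ ∈ sV ↔ (g * h).a1 = (h * g).a1 ∧ (g * h).b2 = (h * g).b2 ∧ (g * h).c2 = (h * g).c2 ∧ (g * h).a3 = (h * g).a3 ∧ (g * h).b4 = (h * g).b4 ∧ (g * h).a5 = (h * g).a5 ∧ (g * h).b6 = (h * g).b6 ∧ (g * h).a7 = (h * g).a7 ∧ (g * h).b8 = (h * g).b8 ∧ (g * h).c8 = (h * g).c8 := by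
  rw [← div_mem_sV, commutatorElement_def, mul_inv_rev, mul_assoc]

instance : (sV (σ := σ)).Normal := ⟨fun h e g => by
  have := T.char
  obtain ⟨e0, e1, e2, e3, e4, e5, e6, e7, e8, e9⟩ := mem_sV.1 e
  have k : ⁅g, h⁆ ∈ sV := by rw [comm_mem_sV]; usimp; simp only [e0, e1, e2, e3, e4, e5, e6, e7, e8, e9]; and_intros <;> grind
  simpa [commutatorElement_def] using mul_mem k e⟩

/-- `Z₃ = V U₅` -/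
def sZ3 : Subgroup (U σ) where
  carrier := {g | g.a1 = 0 ∧ g.b2 = 0 ∧ g.c2 = 0 ∧ g.a3 = 0 ∧ g.b4 = 0 ∧ g.b6 = 0 ∧ g.a7 = 0 ∧ g.b8 = 0 ∧ g.c8 = 0}
  mul_mem' {a b} ha hb := by simp only [Set.mem_ofPred_eq] at *; usimp; simp [*]
  one_mem' := ⟨rfl, rfl, rfl, rfl, rfl, rfl, rfl, rfl, rfl⟩
  inv_mem' {a} ha := by simp only [Set.mem_ofPred_eq] at *; usimp; simp [*]

theorem mem_sZ3 : g ∈ sZ3 ↔ g.a1 = 0 ∧ g.b2 = 0 ∧ g.c2 = 0 ∧ g.a3 = 0 ∧ g.b4 = 0 ∧ g.b6 = 0 ∧ g.a7 = 0 ∧ g.b8 = 0 ∧ g.c8 = 0 := Iff.rfl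

theorem div_mem_sZ3 : g * h⁻¹ ∈ sZ3 ↔ g.a1 = h.a1 ∧ g.b2 = h.b2 ∧ g.c2 = h.c2 ∧ g.a3 = h.a3 ∧ g.b4 = h.b4 ∧ g.b6 = h.b6 ∧ g.a7 = h.a7 ∧ g.b8 = h.b8 ∧ g.c8 = h.c8 := by
  have := T.char
  refine ⟨fun e => ?_, fun ⟨e0, e1, e2, e3, e4, e5, e6, e7, e8⟩ => ?_⟩
  · obtain ⟨b, rfl⟩ : ∃ b, g = b * h := ⟨g * h⁻¹, by simp⟩
    rw [mul_inv_cancel_right] at e
    obtain ⟨e0, e1, e2, e3, e4, e5, e6, e7, e8⟩ := mem_sZ3.1 e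
    usimp; simp [*]
  · rw [mem_sZ3]; usimp; simp only [e0, e1, e2, e3, e4, e5, e6, e7, e8]; and_intros <;> grind

theorem comm_mem_sZ3 : ⁅g, h⁆ ∈ sZ3 ↔ (g * h).a1 = (h * g).a1 ∧ (g * h).b2 = (h * g).b2 ∧ (g * h).c2 = (h * g).c2 ∧ (g * h).a3 = (h * g).a3 ∧ (g * h).b4 = (h * g).b4 ∧ (g * h).b6 = (h * g).b6 ∧ (g * h).a7 = (h * g).a7 ∧ (g * h).b8 = (h * g).b8 ∧ (g * h).c8 = (h * g).c8 := by
  rw [← div_mem_sZ3, commutatorElement_def, mul_inv_rev, mul_assoc]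

instance : (sZ3 (σ := σ)).Normal := ⟨fun h e g => by
  have := T.char
  obtain ⟨e0, e1, e2, e3, e4, e5, e6, e7, e8⟩ := mem_sZ3.1 e
  have k : ⁅g, h⁆ ∈ sZ3 := by rw [comm_mem_sZ3]; usimp; simp only [e0, e1, e2, e3, e4, e5, e6, e7, e8]; and_intros <;> grind
  simpa [commutatorElement_def] using mul_mem k e⟩

/-- `Z₄ = Z₃ U₃` -/
def sZ4 : Subgroup (U σ) where
  carrier := {g | g.a1 = 0 ∧ g.b2 = 0 ∧ g.c2 = 0 ∧ g.b4 = 0 ∧ g.b6 = 0 ∧ g.a7 = 0 ∧ g.b8 = 0 ∧ g.c8 = 0}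
  mul_mem' {a b} ha hb := by simp only [Set.mem_ofPred_eq] at *; usimp; simp [*]
  one_mem' := ⟨rfl, rfl, rfl, rfl, rfl, rfl, rfl, rfl⟩
  inv_mem' {a} ha := by simp only [Set.mem_ofPred_eq] at *; usimp; simp [*]

theorem mem_sZ4 : g ∈ sZ4 ↔ g.a1 = 0 ∧ g.b2 = 0 ∧ g.c2 = 0 ∧ g.b4 = 0 ∧ g.b6 = 0 ∧ g.a7 = 0 ∧ g.b8 = 0 ∧ g.c8 = 0 := Iff.rfl

theorem div_mem_sZ4 : g * h⁻¹ ∈ sZ4 ↔ g.a1 = h.a1 ∧ g.b2 = h.b2 ∧ g.c2 = h.c2 ∧ g.b4 = h.b4 ∧ g.b6 = h.b6 ∧ g.a7 = h.a7 ∧ g.b8 = h.b8 ∧ g.c8 = h.c8 := by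
  have := T.char
  refine ⟨fun e => ?_, fun ⟨e0, e1, e2, e3, e4, e5, e6, e7⟩ => ?_⟩
  · obtain ⟨b, rfl⟩ : ∃ b, g = b * h := ⟨g * h⁻¹, by simp⟩
    rw [mul_inv_cancel_right] at e
    obtain ⟨e0, e1, e2, e3, e4, e5, e6, e7⟩ := mem_sZ4.1 e
    usimp; simp [*]
  · rw [mem_sZ4]; usimp; simp only [e0, e1, e2, e3, e4, e5, e6, e7]; and_intros <;> grind

theorem comm_mem_sZ4 : ⁅g, h⁆ ∈ sZ4 ↔ (g * h).a1 = (h * g).a1 ∧ (g * h).b2 = (h * g).b2 ∧ (g * h).c2 = (h * g).c2 ∧ (g * h).b4 = (h * g).b4 ∧ (g * h).b6 = (h * g).b6 ∧ (g * h).a7 = (h * g).a7 ∧ (g * h).b8 = (h * g).b8 ∧ (g * h).c8 = (h * g).c8 := by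
  rw [← div_mem_sZ4, commutatorElement_def, mul_inv_rev, mul_assoc]

instance : (sZ4 (σ := σ)).Normal := ⟨fun h e g => by
  have := T.char
  obtain ⟨e0, e1, e2, e3, e4, e5, e6, e7⟩ := mem_sZ4.1 e
  have k : ⁅g, h⁆ ∈ sZ4 := by rw [comm_mem_sZ4]; usimp; simp only [e0, e1, e2, e3, e4, e5, e6, e7]; and_intros <;> grind
  simpa [commutatorElement_def] using mul_mem k e⟩

/-- `W = V₂ Z₄` -/
def sW : Subgroup (U σ) where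
  carrier := {g | g.a1 = 0 ∧ g.b2 = 0 ∧ g.b4 = 0 ∧ g.b6 = 0 ∧ g.a7 = 0 ∧ g.b8 = 0 ∧ g.c8 = 0}
  mul_mem' {a b} ha hb := by simp only [Set.mem_ofPred_eq] at *; usimp; simp [*]
  one_mem' := ⟨rfl, rfl, rfl, rfl, rfl, rfl, rfl⟩
  inv_mem' {a} ha := by simp only [Set.mem_ofPred_eq] at *; usimp; simp [*]

theorem mem_sW : g ∈ sW ↔ g.a1 = 0 ∧ g.b2 = 0 ∧ g.b4 = 0 ∧ g.b6 = 0 ∧ g.a7 = 0 ∧ g.b8 = 0 ∧ g.c8 = 0 := Iff.rfl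

theorem div_mem_sW : g * h⁻¹ ∈ sW ↔ g.a1 = h.a1 ∧ g.b2 = h.b2 ∧ g.b4 = h.b4 ∧ g.b6 = h.b6 ∧ g.a7 = h.a7 ∧ g.b8 = h.b8 ∧ g.c8 = h.c8 := by
  have := T.char
  refine ⟨fun e => ?_, fun ⟨e0, e1, e2, e3, e4, e5, e6⟩ => ?_⟩
  · obtain ⟨b, rfl⟩ : ∃ b, g = b * h := ⟨g * h⁻¹, by simp⟩
    rw [mul_inv_cancel_right] at e
    obtain ⟨e0, e1, e2, e3, e4, e5, e6⟩ := mem_sW.1 e
    usimp; simp [*]
  · rw [mem_sW]; usimp; simp only [e0, e1, e2, e3, e4, e5, e6]; and_intros <;> grind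

theorem comm_mem_sW : ⁅g, h⁆ ∈ sW ↔ (g * h).a1 = (h * g).a1 ∧ (g * h).b2 = (h * g).b2 ∧ (g * h).b4 = (h * g).b4 ∧ (g * h).b6 = (h * g).b6 ∧ (g * h).a7 = (h * g).a7 ∧ (g * h).b8 = (h * g).b8 ∧ (g * h).c8 = (h * g).c8 := by
  rw [← div_mem_sW, commutatorElement_def, mul_inv_rev, mul_assoc]

instance : (sW (σ := σ)).Normal := ⟨fun h e g => by
  have := T.char
  obtain ⟨e0, e1, e2, e3, e4, e5, e6⟩ := mem_sW.1 e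
  have k : ⁅g, h⁆ ∈ sW := by rw [comm_mem_sW]; usimp; simp only [e0, e1, e2, e3, e4, e5, e6]; and_intros <;> grind
  simpa [commutatorElement_def] using mul_mem k e⟩

/-- `W'' = Z₄ U₇` -/
def sW2 : Subgroup (U σ) where
  carrier := {g | g.a1 = 0 ∧ g.b2 = 0 ∧ g.c2 = 0 ∧ g.b4 = 0 ∧ g.b6 = 0 ∧ g.b8 = 0 ∧ g.c8 = 0}
  mul_mem' {a b} ha hb := by simp only [Set.mem_ofPred_eq] at *; usimp; simp [*]
  one_mem' := ⟨rfl, rfl, rfl, rfl, rfl, rfl, rfl⟩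
  inv_mem' {a} ha := by simp only [Set.mem_ofPred_eq] at *; usimp; simp [*]

theorem mem_sW2 : g ∈ sW2 ↔ g.a1 = 0 ∧ g.b2 = 0 ∧ g.c2 = 0 ∧ g.b4 = 0 ∧ g.b6 = 0 ∧ g.b8 = 0 ∧ g.c8 = 0 := Iff.rfl

theorem div_mem_sW2 : g * h⁻¹ ∈ sW2 ↔ g.a1 = h.a1 ∧ g.b2 = h.b2 ∧ g.c2 = h.c2 ∧ g.b4 = h.b4 ∧ g.b6 = h.b6 ∧ g.b8 = h.b8 ∧ g.c8 = h.c8 := by
  have := T.char
  refine ⟨fun e => ?_, fun ⟨e0, e1, e2, e3, e4, e5, e6⟩ => ?_⟩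
  · obtain ⟨b, rfl⟩ : ∃ b, g = b * h := ⟨g * h⁻¹, by simp⟩
    rw [mul_inv_cancel_right] at e
    obtain ⟨e0, e1, e2, e3, e4, e5, e6⟩ := mem_sW2.1 e
    usimp; simp [*]
  · rw [mem_sW2]; usimp; simp only [e0, e1, e2, e3, e4, e5, e6]; and_intros <;> grind

theorem comm_mem_sW2 : ⁅g, h⁆ ∈ sW2 ↔ (g * h).a1 = (h * g).a1 ∧ (g * h).b2 = (h * g).b2 ∧ (g * h).c2 = (h * g).c2 ∧ (g * h).b4 = (h * g).b4 ∧ (g * h).b6 = (h * g).b6 ∧ (g * h).b8 = (h * g).b8 ∧ (g * h).c8 = (h * g).c8 := by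
  rw [← div_mem_sW2, commutatorElement_def, mul_inv_rev, mul_assoc]

instance : (sW2 (σ := σ)).Normal := ⟨fun h e g => by
  have := T.char
  obtain ⟨e0, e1, e2, e3, e4, e5, e6⟩ := mem_sW2.1 e
  have k : ⁅g, h⁆ ∈ sW2 := by rw [comm_mem_sW2]; usimp; simp only [e0, e1, e2, e3, e4, e5, e6]; and_intros <;> grind
  simpa [commutatorElement_def] using mul_mem k e⟩

/-- `R = W U₄ = C(W)` -/
def sR : Subgroup (U σ) where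
  carrier := {g | g.a1 = 0 ∧ g.b2 = 0 ∧ g.b6 = 0 ∧ g.a7 = 0 ∧ g.b8 = 0 ∧ g.c8 = 0}
  mul_mem' {a b} ha hb := by simp only [Set.mem_ofPred_eq] at *; usimp; simp [*]
  one_mem' := ⟨rfl, rfl, rfl, rfl, rfl, rfl⟩
  inv_mem' {a} ha := by simp only [Set.mem_ofPred_eq] at *; usimp; simp [*]

theorem mem_sR : g ∈ sR ↔ g.a1 = 0 ∧ g.b2 = 0 ∧ g.b6 = 0 ∧ g.a7 = 0 ∧ g.b8 = 0 ∧ g.c8 = 0 := Iff.rfl

theorem div_mem_sR : g * h⁻¹ ∈ sR ↔ g.a1 = h.a1 ∧ g.b2 = h.b2 ∧ g.b6 = h.b6 ∧ g.a7 = h.a7 ∧ g.b8 = h.b8 ∧ g.c8 = h.c8 := by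
  have := T.char
  refine ⟨fun e => ?_, fun ⟨e0, e1, e2, e3, e4, e5⟩ => ?_⟩
  · obtain ⟨b, rfl⟩ : ∃ b, g = b * h := ⟨g * h⁻¹, by simp⟩
    rw [mul_inv_cancel_right] at e
    obtain ⟨e0, e1, e2, e3, e4, e5⟩ := mem_sR.1 e
    usimp; simp [*]
  · rw [mem_sR]; usimp; simp only [e0, e1, e2, e3, e4, e5]; and_intros <;> grind

theorem comm_mem_sR : ⁅g, h⁆ ∈ sR ↔ (g * h).a1 = (h * g).a1 ∧ (g * h).b2 = (h * g).b2 ∧ (g * h).b6 = (h * g).b6 ∧ (g * h).a7 = (h * g).a7 ∧ (g * h).b8 = (h * g).b8 ∧ (g * h).c8 = (h * g).c8 := by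
  rw [← div_mem_sR, commutatorElement_def, mul_inv_rev, mul_assoc]

instance : (sR (σ := σ)).Normal := ⟨fun h e g => by
  have := T.char
  obtain ⟨e0, e1, e2, e3, e4, e5⟩ := mem_sR.1 e
  have k : ⁅g, h⁆ ∈ sR := by rw [comm_mem_sR]; usimp; simp only [e0, e1, e2, e3, e4, e5]; and_intros <;> grind
  simpa [commutatorElement_def] using mul_mem k e⟩

/-- `A₇ = W U₇` -/
def sA7 : Subgroup (U σ) where
  carrier := {g | g.a1 = 0 ∧ g.b2 = 0 ∧ g.b4 = 0 ∧ g.b6 = 0 ∧ g.b8 = 0 ∧ g.c8 = 0}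
  mul_mem' {a b} ha hb := by simp only [Set.mem_ofPred_eq] at *; usimp; simp [*]
  one_mem' := ⟨rfl, rfl, rfl, rfl, rfl, rfl⟩
  inv_mem' {a} ha := by simp only [Set.mem_ofPred_eq] at *; usimp; simp [*]

theorem mem_sA7 : g ∈ sA7 ↔ g.a1 = 0 ∧ g.b2 = 0 ∧ g.b4 = 0 ∧ g.b6 = 0 ∧ g.b8 = 0 ∧ g.c8 = 0 := Iff.rfl

theorem div_mem_sA7 : g * h⁻¹ ∈ sA7 ↔ g.a1 = h.a1 ∧ g.b2 = h.b2 ∧ g.b4 = h.b4 ∧ g.b6 = h.b6 ∧ g.b8 = h.b8 ∧ g.c8 = h.c8 := by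
  have := T.char
  refine ⟨fun e => ?_, fun ⟨e0, e1, e2, e3, e4, e5⟩ => ?_⟩
  · obtain ⟨b, rfl⟩ : ∃ b, g = b * h := ⟨g * h⁻¹, by simp⟩
    rw [mul_inv_cancel_right] at e
    obtain ⟨e0, e1, e2, e3, e4, e5⟩ := mem_sA7.1 e
    usimp; simp [*]
  · rw [mem_sA7]; usimp; simp only [e0, e1, e2, e3, e4, e5]; and_intros <;> grind

theorem comm_mem_sA7 : ⁅g, h⁆ ∈ sA7 ↔ (g * h).a1 = (h * g).a1 ∧ (g * h).b2 = (h * g).b2 ∧ (g * h).b4 = (h * g).b4 ∧ (g * h).b6 = (h * g).b6 ∧ (g * h).b8 = (h * g).b8 ∧ (g * h).c8 = (h * g).c8 := by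
  rw [← div_mem_sA7, commutatorElement_def, mul_inv_rev, mul_assoc]

instance : (sA7 (σ := σ)).Normal := ⟨fun h e g => by
  have := T.char
  obtain ⟨e0, e1, e2, e3, e4, e5⟩ := mem_sA7.1 e
  have k : ⁅g, h⁆ ∈ sA7 := by rw [comm_mem_sA7]; usimp; simp only [e0, e1, e2, e3, e4, e5]; and_intros <;> grind
  simpa [commutatorElement_def] using mul_mem k e⟩

/-- `A₁ = U₁ W` -/
def sA1 : Subgroup (U σ) where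
  carrier := {g | g.b2 = 0 ∧ g.b4 = 0 ∧ g.b6 = 0 ∧ g.a7 = 0 ∧ g.b8 = 0 ∧ g.c8 = 0}
  mul_mem' {a b} ha hb := by simp only [Set.mem_ofPred_eq] at *; usimp; simp [*]
  one_mem' := ⟨rfl, rfl, rfl, rfl, rfl, rfl⟩
  inv_mem' {a} ha := by simp only [Set.mem_ofPred_eq] at *; usimp; simp [*]

theorem mem_sA1 : g ∈ sA1 ↔ g.b2 = 0 ∧ g.b4 = 0 ∧ g.b6 = 0 ∧ g.a7 = 0 ∧ g.b8 = 0 ∧ g.c8 = 0 := Iff.rfl

/-- `R U₇` -/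
def sRA : Subgroup (U σ) where
  carrier := {g | g.a1 = 0 ∧ g.b2 = 0 ∧ g.b6 = 0 ∧ g.b8 = 0 ∧ g.c8 = 0}
  mul_mem' {a b} ha hb := by simp only [Set.mem_ofPred_eq] at *; usimp; simp [*]
  one_mem' := ⟨rfl, rfl, rfl, rfl, rfl⟩
  inv_mem' {a} ha := by simp only [Set.mem_ofPred_eq] at *; usimp; simp [*]

theorem mem_sRA : g ∈ sRA ↔ g.a1 = 0 ∧ g.b2 = 0 ∧ g.b6 = 0 ∧ g.b8 = 0 ∧ g.c8 = 0 := Iff.rfl

theorem div_mem_sRA : g * h⁻¹ ∈ sRA ↔ g.a1 = h.a1 ∧ g.b2 = h.b2 ∧ g.b6 = h.b6 ∧ g.b8 = h.b8 ∧ g.c8 = h.c8 := by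
  have := T.char
  refine ⟨fun e => ?_, fun ⟨e0, e1, e2, e3, e4⟩ => ?_⟩
  · obtain ⟨b, rfl⟩ : ∃ b, g = b * h := ⟨g * h⁻¹, by simp⟩
    rw [mul_inv_cancel_right] at e
    obtain ⟨e0, e1, e2, e3, e4⟩ := mem_sRA.1 e
    usimp; simp [*]
  · rw [mem_sRA]; usimp; simp only [e0, e1, e2, e3, e4]; and_intros <;> grind

theorem comm_mem_sRA : ⁅g, h⁆ ∈ sRA ↔ (g * h).a1 = (h * g).a1 ∧ (g * h).b2 = (h * g).b2 ∧ (g * h).b6 = (h * g).b6 ∧ (g * h).b8 = (h * g).b8 ∧ (g * h).c8 = (h * g).c8 := by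
  rw [← div_mem_sRA, commutatorElement_def, mul_inv_rev, mul_assoc]

instance : (sRA (σ := σ)).Normal := ⟨fun h e g => by
  have := T.char
  obtain ⟨e0, e1, e2, e3, e4⟩ := mem_sRA.1 e
  have k : ⁅g, h⁆ ∈ sRA := by rw [comm_mem_sRA]; usimp; simp only [e0, e1, e2, e3, e4]; and_intros <;> grind
  simpa [commutatorElement_def] using mul_mem k e⟩

/-- `W U₆ U₇` -/
def sA67 : Subgroup (U σ) where
  carrier := {g | g.a1 = 0 ∧ g.b2 = 0 ∧ g.b4 = 0 ∧ g.b8 = 0 ∧ g.c8 = 0}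
  mul_mem' {a b} ha hb := by simp only [Set.mem_ofPred_eq] at *; usimp; simp [*]
  one_mem' := ⟨rfl, rfl, rfl, rfl, rfl⟩
  inv_mem' {a} ha := by simp only [Set.mem_ofPred_eq] at *; usimp; simp [*]

theorem mem_sA67 : g ∈ sA67 ↔ g.a1 = 0 ∧ g.b2 = 0 ∧ g.b4 = 0 ∧ g.b8 = 0 ∧ g.c8 = 0 := Iff.rfl

/-- `U₁ U₂ W` -/
def sA12 : Subgroup (U σ) where
  carrier := {g | g.b4 = 0 ∧ g.b6 = 0 ∧ g.a7 = 0 ∧ g.b8 = 0 ∧ g.c8 = 0}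
  mul_mem' {a b} ha hb := by simp only [Set.mem_ofPred_eq] at *; usimp; simp [*]
  one_mem' := ⟨rfl, rfl, rfl, rfl, rfl⟩
  inv_mem' {a} ha := by simp only [Set.mem_ofPred_eq] at *; usimp; simp [*]

theorem mem_sA12 : g ∈ sA12 ↔ g.b4 = 0 ∧ g.b6 = 0 ∧ g.a7 = 0 ∧ g.b8 = 0 ∧ g.c8 = 0 := Iff.rfl

/-- `J ⊓ Q` -/
def sJQ : Subgroup (U σ) where
  carrier := {g | g.a1 = 0 ∧ g.b2 = 0 ∧ g.b8 = 0 ∧ g.c8 = 0}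
  mul_mem' {a b} ha hb := by simp only [Set.mem_ofPred_eq] at *; usimp; simp [*]
  one_mem' := ⟨rfl, rfl, rfl, rfl⟩
  inv_mem' {a} ha := by simp only [Set.mem_ofPred_eq] at *; usimp; simp [*]

theorem mem_sJQ : g ∈ sJQ ↔ g.a1 = 0 ∧ g.b2 = 0 ∧ g.b8 = 0 ∧ g.c8 = 0 := Iff.rfl

theorem div_mem_sJQ : g * h⁻¹ ∈ sJQ ↔ g.a1 = h.a1 ∧ g.b2 = h.b2 ∧ g.b8 = h.b8 ∧ g.c8 = h.c8 := by
  have := T.char
  refine ⟨fun e => ?_, fun ⟨e0, e1, e2, e3⟩ => ?_⟩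
  · obtain ⟨b, rfl⟩ : ∃ b, g = b * h := ⟨g * h⁻¹, by simp⟩
    rw [mul_inv_cancel_right] at e
    obtain ⟨e0, e1, e2, e3⟩ := mem_sJQ.1 e
    usimp; simp [*]
  · rw [mem_sJQ]; usimp; simp only [e0, e1, e2, e3]; and_intros <;> grind

theorem comm_mem_sJQ : ⁅g, h⁆ ∈ sJQ ↔ (g * h).a1 = (h * g).a1 ∧ (g * h).b2 = (h * g).b2 ∧ (g * h).b8 = (h * g).b8 ∧ (g * h).c8 = (h * g).c8 := by
  rw [← div_mem_sJQ, commutatorElement_def, mul_inv_rev, mul_assoc]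

instance : (sJQ (σ := σ)).Normal := ⟨fun h e g => by
  have := T.char
  obtain ⟨e0, e1, e2, e3⟩ := mem_sJQ.1 e
  have k : ⁅g, h⁆ ∈ sJQ := by rw [comm_mem_sJQ]; usimp; simp only [e0, e1, e2, e3]; and_intros <;> grind
  simpa [commutatorElement_def] using mul_mem k e⟩

/-- `J = C(Z₃)` -/
def sJ : Subgroup (U σ) where
  carrier := {g | g.a1 = 0 ∧ g.b2 = 0 ∧ g.b8 = 0}
  mul_mem' {a b} ha hb := by simp only [Set.mem_ofPred_eq] at *; usimp; simp [*]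
  one_mem' := ⟨rfl, rfl, rfl⟩
  inv_mem' {a} ha := by simp only [Set.mem_ofPred_eq] at *; usimp; simp [*]

theorem mem_sJ : g ∈ sJ ↔ g.a1 = 0 ∧ g.b2 = 0 ∧ g.b8 = 0 := Iff.rfl

theorem div_mem_sJ : g * h⁻¹ ∈ sJ ↔ g.a1 = h.a1 ∧ g.b2 = h.b2 ∧ g.b8 = h.b8 := by
  have := T.char
  refine ⟨fun e => ?_, fun ⟨e0, e1, e2⟩ => ?_⟩
  · obtain ⟨b, rfl⟩ : ∃ b, g = b * h := ⟨g * h⁻¹, by simp⟩
    rw [mul_inv_cancel_right] at e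
    obtain ⟨e0, e1, e2⟩ := mem_sJ.1 e
    usimp; simp [*]
  · rw [mem_sJ]; usimp; simp only [e0, e1, e2]; and_intros <;> grind

theorem comm_mem_sJ : ⁅g, h⁆ ∈ sJ ↔ (g * h).a1 = (h * g).a1 ∧ (g * h).b2 = (h * g).b2 ∧ (g * h).b8 = (h * g).b8 := by
  rw [← div_mem_sJ, commutatorElement_def, mul_inv_rev, mul_assoc]

instance : (sJ (σ := σ)).Normal := ⟨fun h e g => by
  have := T.char
  obtain ⟨e0, e1, e2⟩ := mem_sJ.1 e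
  have k : ⁅g, h⁆ ∈ sJ := by rw [comm_mem_sJ]; usimp; simp only [e0, e1, e2]; and_intros <;> grind
  simpa [commutatorElement_def] using mul_mem k e⟩

/-- `Q ⊓ Q'` -/
def sQQ : Subgroup (U σ) where
  carrier := {g | g.a1 = 0 ∧ g.b8 = 0 ∧ g.c8 = 0}
  mul_mem' {a b} ha hb := by simp only [Set.mem_ofPred_eq] at *; usimp; simp [*]
  one_mem' := ⟨rfl, rfl, rfl⟩
  inv_mem' {a} ha := by simp only [Set.mem_ofPred_eq] at *; usimp; simp [*]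

theorem mem_sQQ : g ∈ sQQ ↔ g.a1 = 0 ∧ g.b8 = 0 ∧ g.c8 = 0 := Iff.rfl

theorem div_mem_sQQ : g * h⁻¹ ∈ sQQ ↔ g.a1 = h.a1 ∧ g.b8 = h.b8 ∧ g.c8 = h.c8 := by
  have := T.char
  refine ⟨fun e => ?_, fun ⟨e0, e1, e2⟩ => ?_⟩
  · obtain ⟨b, rfl⟩ : ∃ b, g = b * h := ⟨g * h⁻¹, by simp⟩
    rw [mul_inv_cancel_right] at e
    obtain ⟨e0, e1, e2⟩ := mem_sQQ.1 e
    usimp; simp [*]
  · rw [mem_sQQ]; usimp; simp only [e0, e1, e2]; and_intros <;> grind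

theorem comm_mem_sQQ : ⁅g, h⁆ ∈ sQQ ↔ (g * h).a1 = (h * g).a1 ∧ (g * h).b8 = (h * g).b8 ∧ (g * h).c8 = (h * g).c8 := by
  rw [← div_mem_sQQ, commutatorElement_def, mul_inv_rev, mul_assoc]

instance : (sQQ (σ := σ)).Normal := ⟨fun h e g => by
  have := T.char
  obtain ⟨e0, e1, e2⟩ := mem_sQQ.1 e
  have k : ⁅g, h⁆ ∈ sQQ := by rw [comm_mem_sQQ]; usimp; simp only [e0, e1, e2]; and_intros <;> grind
  simpa [commutatorElement_def] using mul_mem k e⟩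

/-- `F₈ ⊓ Q'` -/
def sPh : Subgroup (U σ) where
  carrier := {g | g.a1 = 0 ∧ g.b8 = 0}
  mul_mem' {a b} ha hb := by simp only [Set.mem_ofPred_eq] at *; usimp; simp [*]
  one_mem' := ⟨rfl, rfl⟩
  inv_mem' {a} ha := by simp only [Set.mem_ofPred_eq] at *; usimp; simp [*]

theorem mem_sPh : g ∈ sPh ↔ g.a1 = 0 ∧ g.b8 = 0 := Iff.rfl

theorem div_mem_sPh : g * h⁻¹ ∈ sPh ↔ g.a1 = h.a1 ∧ g.b8 = h.b8 := by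
  have := T.char
  refine ⟨fun e => ?_, fun ⟨e0, e1⟩ => ?_⟩
  · obtain ⟨b, rfl⟩ : ∃ b, g = b * h := ⟨g * h⁻¹, by simp⟩
    rw [mul_inv_cancel_right] at e
    obtain ⟨e0, e1⟩ := mem_sPh.1 e
    usimp; simp [*]
  · rw [mem_sPh]; usimp; simp only [e0, e1]; and_intros <;> grind

theorem comm_mem_sPh : ⁅g, h⁆ ∈ sPh ↔ (g * h).a1 = (h * g).a1 ∧ (g * h).b8 = (h * g).b8 := by
  rw [← div_mem_sPh, commutatorElement_def, mul_inv_rev, mul_assoc]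

instance : (sPh (σ := σ)).Normal := ⟨fun h e g => by
  have := T.char
  obtain ⟨e0, e1⟩ := mem_sPh.1 e
  have k : ⁅g, h⁆ ∈ sPh := by rw [comm_mem_sPh]; usimp; simp only [e0, e1]; and_intros <;> grind
  simpa [commutatorElement_def] using mul_mem k e⟩

/-- `F₈` -/
def sF8 : Subgroup (U σ) where
  carrier := {g | g.b8 = 0}
  mul_mem' {a b} ha hb := by simp only [Set.mem_ofPred_eq] at *; usimp; simp [*]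
  one_mem' := rfl
  inv_mem' {a} ha := by simp only [Set.mem_ofPred_eq] at *; usimp; simp [*]

theorem mem_sF8 : g ∈ sF8 ↔ g.b8 = 0 := Iff.rfl

theorem div_mem_sF8 : g * h⁻¹ ∈ sF8 ↔ g.b8 = h.b8 := by
  have := T.char
  refine ⟨fun e => ?_, fun e0 => ?_⟩
  · obtain ⟨b, rfl⟩ : ∃ b, g = b * h := ⟨g * h⁻¹, by simp⟩
    rw [mul_inv_cancel_right] at e
    obtain e0 := mem_sF8.1 e
    usimp; simp [*]
  · rw [mem_sF8]; usimp; simp only [e0]; and_intros <;> grind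

theorem comm_mem_sF8 : ⁅g, h⁆ ∈ sF8 ↔ (g * h).b8 = (h * g).b8 := by
  rw [← div_mem_sF8, commutatorElement_def, mul_inv_rev, mul_assoc]

instance : (sF8 (σ := σ)).Normal := ⟨fun h e g => by
  have := T.char
  obtain e0 := mem_sF8.1 e
  have k : ⁅g, h⁆ ∈ sF8 := by rw [comm_mem_sF8]; usimp; simp only [e0]; and_intros <;> grind
  simpa [commutatorElement_def] using mul_mem k e⟩

/-- `T₅ = C(U₅)` -/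
def sT5 : Subgroup (U σ) where
  carrier := {g | g.b2 = 0 ∧ g.b8 = 0}
  mul_mem' {a b} ha hb := by simp only [Set.mem_ofPred_eq] at *; usimp; simp [*]
  one_mem' := ⟨rfl, rfl⟩
  inv_mem' {a} ha := by simp only [Set.mem_ofPred_eq] at *; usimp; simp [*]

theorem mem_sT5 : g ∈ sT5 ↔ g.b2 = 0 ∧ g.b8 = 0 := Iff.rfl

/-- `E₈` -/
def sE8 : Subgroup (U σ) where
  carrier := {g | g.a1 = 0 ∧ g.b2 = 0}
  mul_mem' {a b} ha hb := by simp only [Set.mem_ofPred_eq] at *; usimp; simp [*]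
  one_mem' := ⟨rfl, rfl⟩
  inv_mem' {a} ha := by simp only [Set.mem_ofPred_eq] at *; usimp; simp [*]

theorem mem_sE8 : g ∈ sE8 ↔ g.a1 = 0 ∧ g.b2 = 0 := Iff.rfl

/-- `B₁` -/
def sB1 : Subgroup (U σ) where
  carrier := {g | g.a1 = 0 ∧ g.b2 = 0 ∧ g.c2 = 0 ∧ g.b6 = 0 ∧ g.b8 = 0}
  mul_mem' {a b} ha hb := by simp only [Set.mem_ofPred_eq] at *; usimp; simp [*]
  one_mem' := ⟨rfl, rfl, rfl, rfl, rfl⟩
  inv_mem' {a} ha := by simp only [Set.mem_ofPred_eq] at *; usimp; simp [*]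

theorem mem_sB1 : g ∈ sB1 ↔ g.a1 = 0 ∧ g.b2 = 0 ∧ g.c2 = 0 ∧ g.b6 = 0 ∧ g.b8 = 0 := Iff.rfl

/-- `C(x₁ a)` -/
def sC1 : Subgroup (U σ) where
  carrier := {g | g.b4 = 0 ∧ g.b6 = 0 ∧ g.c6 = 0 ∧ g.a7 = 0 ∧ g.b8 = 0 ∧ g.c8 = 0}
  mul_mem' {a b} ha hb := by simp only [Set.mem_ofPred_eq] at *; usimp; simp [*]
  one_mem' := ⟨rfl, rfl, rfl, rfl, rfl, rfl⟩
  inv_mem' {a} ha := by simp only [Set.mem_ofPred_eq] at *; usimp; simp [*]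

theorem mem_sC1 : g ∈ sC1 ↔ g.b4 = 0 ∧ g.b6 = 0 ∧ g.c6 = 0 ∧ g.a7 = 0 ∧ g.b8 = 0 ∧ g.c8 = 0 := Iff.rfl

/-- `U₄ V₆` -/
def sB4 : Subgroup (U σ) where
  carrier := {g | g.a1 = 0 ∧ g.b2 = 0 ∧ g.c2 = 0 ∧ g.a3 = 0 ∧ g.a5 = 0 ∧ g.b6 = 0 ∧ g.a7 = 0 ∧ g.b8 = 0 ∧ g.c8 = 0}
  mul_mem' {a b} ha hb := by simp only [Set.mem_ofPred_eq] at *; usimp; simp [*]
  one_mem' := ⟨rfl, rfl, rfl, rfl, rfl, rfl, rfl, rfl, rfl⟩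
  inv_mem' {a} ha := by simp only [Set.mem_ofPred_eq] at *; usimp; simp [*]

theorem mem_sB4 : g ∈ sB4 ↔ g.a1 = 0 ∧ g.b2 = 0 ∧ g.c2 = 0 ∧ g.a3 = 0 ∧ g.a5 = 0 ∧ g.b6 = 0 ∧ g.a7 = 0 ∧ g.b8 = 0 ∧ g.c8 = 0 := Iff.rfl

instance : (Q' (σ := σ)).Normal := ⟨fun h e g => by
  have := T.char
  rw [mem_Q'] at *; usimp; grind⟩

instance : (Q (σ := σ)).Normal := ⟨fun h e g => by
  have := T.char
  rw [mem_Q] at *; usimp; grind⟩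

/-- unfold memberships in coordinate subgroups -/
scoped macro "msimp" loc:(Lean.Parser.Tactic.location)? : tactic => `(tactic| simp only [SetLike.mem_coe, comm_mem_sZ, comm_mem_sV, comm_mem_sZ3, comm_mem_sZ4, comm_mem_sW, comm_mem_sW2, comm_mem_sR, comm_mem_sA7, comm_mem_sRA, comm_mem_sJQ, comm_mem_sJ, comm_mem_sQQ, comm_mem_sPh, comm_mem_sF8,
  mem_sZ, mem_sV6, mem_sV, mem_sZ3, mem_sZ4, mem_sW, mem_sW2, mem_sR, mem_sA7, mem_sA1, mem_sRA, mem_sA67, mem_sA12, mem_sJQ, mem_sJ, mem_sQQ, mem_sPh, mem_sF8, mem_sT5, mem_sE8, mem_sB1, mem_sC1, mem_sB4, U.mem_Q, U.mem_Q'] $[$loc]?)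

theorem sZ_eq : sZ = U.Z (σ := σ) := by
  ext g; rw [mem_sZ, mem_Z]
  exact ⟨fun h => ⟨g.c4, by usimp; tauto⟩, by rintro ⟨c, rfl⟩; usimp⟩

theorem sV_eq : sV = U.V (σ := σ) := by
  ext g; rw [mem_sV, mem_V]
  exact ⟨fun h => ⟨g.c4, g.c6, by vsimp; tauto⟩, by rintro ⟨c, a, rfl⟩; vsimp⟩

theorem isPGroup_U [Finite K] : IsPGroup 2 (U σ) := by
  have := T.char
  have := Fintype.ofFinite K
  obtain ⟨n, -, e⟩ := FiniteField.card K 2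
  exact IsPGroup.of_card (n := n * 12) (by rw [card_eq, Nat.card_eq_fintype_card, e, pow_mul])

end CL.RF4
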