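/-
S5262: field automorphisms and diagonal automorphisms of `U σ`.
-/
import Cfsg.Agent.FUS.RF4.Sub
import Cfsg.Agent.FUS.Iso

set_option autoImplicit false
set_option linter.unusedSimpArgs false
set_option linter.unusedSectionVars false

namespace CL.RF4

open CL.Fus CL.RF CL.RF.U Subgroup Cfsg

variable {K : Type*} [Field K] [Finite K] {σ : K →+* K} [T : Tits σ]

omit T in
theorem map_σ (ρ : K ≃+* K) (a : K) : ρ (σ a) = σ (ρ a) := by
  by_cases ha : a = 0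
  · simp [ha]
  obtain ⟨m, hm⟩ := (Units.map σ.toMonoidHom).map_cyclic
  have e : ∀ x : Kˣ, σ x = (x : K) ^ m := fun x => by simpa using congrArg Units.val (hm x)
  have e1 := e (Units.mk0 a ha)
  have e2 := e (Units.mk0 (ρ a) (by simpa using ha))
  simp only [Units.val_mk0] at e1 e2
  rw [e1, e2, map_zpow₀]

/-- a field automorphism acting on the coordinates -/
@[simps] def frf (ρ : K → K) (g : U σ) : U σ :=
  ⟨ρ g.a1, ρ g.b2, ρ g.c2, ρ g.a3, ρ g.b4, ρ g.c4, ρ g.a5, ρ g.b6, ρ g.c6, ρ g.a7, ρ g.b8, ρ g.c8⟩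

/-- `usimp` with `frf` -/
scoped macro "fsimp" loc:(Lean.Parser.Tactic.location)? : tactic => `(tactic| (
  (try simp only [U.ext_iff, frf_a1, frf_b2, frf_c2, frf_a3, frf_b4, frf_c4, frf_a5, frf_b6, frf_c6, frf_a7, frf_b8, frf_c8] $[$loc]?)
  (try usimp $[$loc]?)
  (try simp only [frf_a1, frf_b2, frf_c2, frf_a3, frf_b4, frf_c4, frf_a5, frf_b6, frf_c6, frf_a7, frf_b8, frf_c8, map_σ,
    and_self] $[$loc]?)))

/-- field automorphisms -/
def fr : RingAut K →* MulAut (U σ) where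
  toFun ρ :=
    { toFun := frf ρ
      invFun := frf ρ.symm
      left_inv := fun g => by ext <;> simp
      right_inv := fun g => by ext <;> simp
      map_mul' := fun g h => by fsimp }
  map_one' := rfl
  map_mul' _ _ := rfl

@[simp] theorem fr_apply (ρ : RingAut K) (g : U σ) : fr ρ g = frf ρ g := rfl

/-- a field automorphism acting on units -/
def ru (ρ : RingAut K) : Kˣ →* Kˣ := Units.map (ρ : K →* K)

@[simp] theorem ru_val (ρ : RingAut K) (s : Kˣ) : (ru ρ s : K) = ρ s := rfl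

/-- a field automorphism acting on the torus -/
def rt (ρ : RingAut K) (t : Kˣ × Kˣ) : Kˣ × Kˣ := (ru ρ t.1, ru ρ t.2)

theorem fr_tor (ρ : RingAut K) (t : Kˣ × Kˣ) (g : U σ) : fr ρ (tor t g) = tor (rt ρ t) (fr ρ g) := by
  simp only [fr_apply, tor_apply, rt, ru_val]; fsimp

theorem fr_w1 (ρ : RingAut K) (g : U σ) : fr ρ (w1 g) = w1 (fr ρ g) := by simp only [fr_apply]; fsimp

theorem fr_w8 (ρ : RingAut K) (g : U σ) : fr ρ (w8 g) = w8 (fr ρ g) := by simp only [fr_apply]; fsimp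

/-- diagonal times field automorphisms -/
def dd (t : Kˣ × Kˣ) (ρ : RingAut K) : MulAut (U σ) := tor t * fr ρ

theorem dd_apply (t : Kˣ × Kˣ) (ρ : RingAut K) (g : U σ) : dd t ρ g = tr (t.1 : K) t.2 (frf ρ g) := rfl

theorem dd_one (t : Kˣ × Kˣ) : (dd t 1 : MulAut (U σ)) = tor t := by rw [dd, map_one, mul_one]

theorem one_dd (ρ : RingAut K) : (dd 1 ρ : MulAut (U σ)) = fr ρ := by rw [dd, map_one, one_mul]

theorem dd_mul (t t' : Kˣ × Kˣ) (ρ ρ' : RingAut K) : (dd t ρ * dd t' ρ' : MulAut (U σ)) = dd (t * rt ρ t') (ρ * ρ') :=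
  MulEquiv.ext fun g => by simp only [dd, map_mul, MulAut.mul_apply, fr_tor]

/-- the group of the `dd t ρ` -/
def D0 (σ : K →+* K) [Tits σ] : Subgroup (MulAut (U σ)) where
  carrier := {α | ∃ t ρ, α = dd t ρ}
  one_mem' := ⟨1, 1, by rw [dd_one, map_one]⟩
  mul_mem' := by rintro _ _ ⟨t, ρ, rfl⟩ ⟨t', ρ', rfl⟩; exact ⟨_, _, dd_mul ..⟩
  inv_mem' := by
    rintro _ ⟨t, ρ, rfl⟩
    refine ⟨rt ρ⁻¹ t⁻¹, ρ⁻¹, inv_eq_of_mul_eq_one_right ?_⟩
    rw [dd_mul, mul_inv_cancel, dd_one, show rt ρ (rt ρ⁻¹ t⁻¹) = t⁻¹ from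
      Prod.ext (Units.ext (ρ.apply_symm_apply _)) (Units.ext (ρ.apply_symm_apply _)), mul_inv_cancel, map_one]

/-- the automorphisms of `S` in `F` are in standard position -/
def Std (F : FusionSystem (⊤ : Subgroup (U σ))) : Prop := ∀ f, Mor F ⊤ f → ∃ u t ρ, ∀ g, f g = cj u (dd t ρ g)

end CL.RF4
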