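/-
S5262: involutions of `U σ`; essential subgroups, part A. Coordinates: `msimp`, `usimp`, `have := T.char; grind` (split conjunctions with `and_intros` first).
Leading terms of `[g, h]` (symmetrise): `b2 : a1 b8`, `c2 : a1 b4, σa1 b6, σb2 b2`, `a3 : b2 b4, c2 b8, a1 σb6, σa1 a7`, `b4 : σa1 c8, σb2 b8`,
`c4 : a1 c6, a3 b6, b2 a5, c2 a7, σa3 b8, σb4 b4, σc2 c8`, `a5 : b4 b6, c2 c8, a1 σa7, a3 σb8, σb2 a7`, `b6 : a1 c8, b2 σb8`, `c6 : a3 c8, a5 b8, b4 a7, b2 σa7, c2 σc8, σb6 b6`,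
`a7 : b2 c8, b6 b8, a1 σc8`, `c8 : σb8 b8`. `t ↦ t σt` is bijective (`Tits.norm_inj`, `Tits.norm_surj`), `σ` is bijective.
-/
import Cfsg.Agent.FUS.RF4.Sub
import Cfsg.Agent.FUS.RF4.CxF
import Cfsg.Agent.INV.RF.BrA

set_option autoImplicit false
set_option linter.unusedSimpArgs false
set_option linter.unusedSectionVars false
set_option linter.unusedTactic false
set_option linter.unreachableTactic false
set_option linter.unnecessarySeqFocus false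
set_option linter.unusedVariables false

namespace CL.RF4

open CL.Fus CL.RF CL.RF.U Subgroup
open scoped commutatorElement

variable {K : Type*} [Field K] [Finite K] {σ : K →+* K} [T : Tits σ] {P E : Subgroup (U σ)} {A : Set (U σ → U σ)} {g : U σ}

/-- substitute vanishing coordinates -/
scoped macro "zs" " [" ts:Lean.Parser.Tactic.simpLemma,* "]" loc:(Lean.Parser.Tactic.location)? : tactic =>
  `(tactic| try simp only [$ts,*, map_zero, mul_zero, zero_mul, add_zero, zero_add, ne_eq, OfNat.ofNat_ne_zero,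
    not_false_eq_true, zero_pow, and_self, true_and, and_true] $[$loc]?)

theorem nz {b : K} (h : σ b * b = 0) : b = 0 := Tits.norm_eq_zero σ (mul_comm b _ ▸ h)

omit T in
theorem sz {b : K} (h : σ b = 0) : b = 0 := (map_eq_zero σ).1 h

omit T in
theorem sn {b : K} (h : b ≠ 0) : σ b ≠ 0 := (map_ne_zero σ).2 h

theorem inv_b8 (h : g * g = 1) : g.b8 = 0 := by
  have := T.char
  have e := congrArg U.c8 h
  usimp at e; exact nz (σ := σ) (by grind)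

theorem inv_J (h : g * g = 1) (h1 : g.a1 = 0) : g ∈ sJ := by
  have := T.char
  have e := congrArg U.c2 h
  usimp at e; zs [h1] at e
  exact ⟨h1, nz (σ := σ) (by grind), inv_b8 h⟩

theorem inv_JQ (h : g * g = 1) (h1 : g ∈ sJQ) : g.b4 = 0 ∧ g.b6 = 0 ∧ g.c2 * g.a7 = 0 := by
  have := T.char
  obtain ⟨e1, e2, e3, e4⟩ := h1
  have k1 := congrArg U.c6 h
  have k2 := congrArg U.a5 h
  have k3 := congrArg U.c4 h
  usimp at k1 k2 k3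
  zs [e1, e2, e3, e4] at k1 k2 k3
  have h4 : g.b4 = 0 := by
    by_contra h4
    have h6 : g.b6 = 0 := by grind
    have h7 : g.a7 = 0 := by grind
    exact h4 (nz (σ := σ) (by grind))
  have h6 : g.b6 = 0 := nz (σ := σ) (by grind)
  exact ⟨h4, h6, by grind⟩

theorem inv_c8 (h : g * g = 1) : g.a1 * g.c8 = 0 := by
  have := T.char
  have e := congrArg U.b6 h
  usimp at e; zs [inv_b8 h] at e; grind

theorem sq_cj (s : U σ) (h : g * g = 1) : s * g * s⁻¹ * (s * g * s⁻¹) = 1 := by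
  rw [conj_mul, h, mul_one, mul_inv_cancel]

theorem ex_cj {x : U σ} (s : U σ) (h : ∃ s' : U σ, s' * (s * g * s⁻¹) * s'⁻¹ = x) : ∃ s' : U σ, s' * g * s'⁻¹ = x :=
  let ⟨s', e⟩ := h; ⟨s' * s, by rw [← e]; group⟩

theorem inv_A1 (h : g * g = 1) (h1 : g.a1 ≠ 0) (h2 : g.b2 = 0) (h6 : g.b6 = 0) :
    g = ⟨g.a1, 0, g.c2, g.a3, 0, g.c4, g.a5, 0, 0, 0, 0, 0⟩ := by
  have := T.char
  have h8 := inv_b8 h
  have h9 : g.c8 = 0 := by have := inv_c8 h; grind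
  have k1 := congrArg U.c2 h
  have k2 := congrArg U.a3 h
  have k3 := congrArg U.c4 h
  have := sn (σ := σ) h1
  usimp at k1 k2 k3
  zs [h2, h6, h8, h9] at k1 k2 k3
  have h4 : g.b4 = 0 := by grind
  have h7 : g.a7 = 0 := by grind
  zs [h4, h7] at k3
  have h5 : g.c6 = 0 := by grind
  ext <;> simp [*]

/-- `b8 = c8 = 0`; conjugate by `y8` (kills `b2, b6`, then `b4 = a7 = 0`), by `y4 b' · y6 b · x7 t` (kills `c2, a3, a5`), by `y6 0 c` (kills `c4`; `c6 = 0`). -/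
theorem inv_x1 (h : g * g = 1) (h1 : g.a1 ≠ 0) : ∃ s : U σ, s * g * s⁻¹ = x1 g.a1 := by
  have := T.char
  generalize ha : g.a1 = a at h1
  have k4 : ∀ c4 : K, ∃ s : U σ, s * ⟨a, 0, 0, 0, 0, c4, 0, 0, 0, 0, 0, 0⟩ * s⁻¹ = x1 a := fun c =>
    ⟨y6 0 (c / a), by usimp; grind⟩
  have k0 : ∀ g : U σ, g * g = 1 → g.a1 = a → g.b2 = 0 → g.b6 = 0 → g.a5 = 0 → g.a3 = 0 → g.c2 = 0 →
      ∃ s : U σ, s * g * s⁻¹ = x1 a := fun g h e1 e2 e3 e4 e5 e6 => by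
    rw [inv_A1 h (e1 ▸ h1) e2 e3, e1, e4, e5, e6]; exact k4 _
  have k1 : ∀ g : U σ, g * g = 1 → g.a1 = a → g.b2 = 0 → g.b6 = 0 → g.a5 = 0 → g.a3 = 0 →
      ∃ s : U σ, s * g * s⁻¹ = x1 a := fun g h e1 e2 e3 e4 e5 => by
    refine ex_cj (y4 (g.c2 / a) 0) (k0 _ (sq_cj _ h) ?_ ?_ ?_ ?_ ?_ ?_) <;>
      rw [inv_A1 h (e1 ▸ h1) e2 e3] <;> usimp <;> grind
  have k2 : ∀ g : U σ, g * g = 1 → g.a1 = a → g.b2 = 0 → g.b6 = 0 → g.a5 = 0 →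
      ∃ s : U σ, s * g * s⁻¹ = x1 a := fun g h e1 e2 e3 e4 => by
    obtain ⟨b, hb⟩ := Tits.surj σ (g.a3 / a)
    refine ex_cj (y6 b 0) (k1 _ (sq_cj _ h) ?_ ?_ ?_ ?_ ?_) <;>
      rw [inv_A1 h (e1 ▸ h1) e2 e3] <;> usimp <;> grind
  have k3 : ∀ g : U σ, g * g = 1 → g.a1 = a → g.b2 = 0 → g.b6 = 0 →
      ∃ s : U σ, s * g * s⁻¹ = x1 a := fun g h e1 e2 e3 => by
    obtain ⟨b, hb⟩ := Tits.surj σ (g.a5 / a)
    refine ex_cj (x7 b) (k2 _ (sq_cj _ h) ?_ ?_ ?_ ?_) <;>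
      rw [inv_A1 h (e1 ▸ h1) e2 e3] <;> usimp <;> grind
  have k5 : ∀ g : U σ, g * g = 1 → g.a1 = a → g.b2 = 0 → ∃ s : U σ, s * g * s⁻¹ = x1 a := fun g h e1 e2 => by
    have h8 := inv_b8 h
    have h9 : g.c8 = 0 := by have := inv_c8 h; grind
    refine ex_cj (y8 0 (g.b6 / a)) (k3 _ (sq_cj _ h) ?_ ?_ ?_) <;> usimp <;> zs [h8, h9, e2] <;> grind
  have h8 := inv_b8 h
  refine ex_cj (y8 (g.b2 / a) 0) (k5 _ (sq_cj _ h) ?_ ?_) <;> usimp <;> grind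

theorem cent_x1 {a : K} (ha : a ≠ 0) : x1 a * g = g * x1 a ↔ g ∈ sC1 := by
  have := T.char
  have := sn (σ := σ) ha
  refine ⟨fun h => ?_, fun ⟨e1, e2, e3, e4, e5, e6⟩ => by usimp; zs [e1, e2, e3, e4, e5, e6]; and_intros <;> grind⟩
  usimp at h
  obtain ⟨-, k1, k2, k3, k4, k5, k6, k7, -⟩ := h
  have h8 : g.b8 = 0 := by grind
  have h9 : g.c8 = 0 := by grind
  zs [h8, h9] at k2 k3 k5 k6
  have h7 : g.a7 = 0 := sz (σ := σ) (by grind)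
  have h6 : g.b6 = 0 := sz (σ := σ) (by grind)
  have h4 : g.b4 = 0 := by grind
  exact ⟨h4, h6, by grind, h7, h8, h9⟩

/-- `c8 ≠ 0`: kill `b6`, then `c2 = b4 = a3 = 0`. `c8 = 0`: `inv_JQ`; if `a7 ≠ 0` kill `a3`. -/
theorem inv_W (h : g * g = 1) (h1 : g ∈ sJ) : g ∈ sW ∨ ∃ a, w1 (x1 a * g * (x1 a)⁻¹) ∈ sW := by
  have := T.char
  obtain ⟨e1, e2, e3⟩ := h1
  by_cases h8 : g.c8 = 0
  · obtain ⟨h4, h6, h7⟩ := inv_JQ h ⟨e1, e2, e3, h8⟩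
    by_cases h9 : g.a7 = 0
    · exact Or.inl ⟨e1, e2, h4, h6, h9, e3, h8⟩
    obtain ⟨a, ha⟩ := Tits.surj σ (g.a3 / g.a7)
    have h2 : g.c2 = 0 := by grind
    refine Or.inr ⟨a, ?_⟩
    msimp; usimp; zs [e1, e2, e3, h8, h4, h6, h2]; and_intros <;> grind
  have key : ∀ g : U σ, g * g = 1 → g.a1 = 0 → g.c8 ≠ 0 → g.b6 = 0 → w1 g ∈ sW := fun g h e1 h8 h6 => by
    obtain ⟨-, e2, e3⟩ := inv_J h e1
    have k1 := congrArg U.c6 h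
    have k2 := congrArg U.a5 h
    have k3 := congrArg U.c4 h
    usimp at k1 k2 k3
    zs [e1, e2, e3, h6] at k1 k2 k3
    have h2 : g.c2 = 0 := by grind
    zs [h2] at k1 k3
    have h4 : g.b4 = 0 := nz (σ := σ) (by grind)
    have h3 : g.a3 = 0 := by grind
    msimp; usimp; simp [*]
  refine Or.inr ⟨g.b6 / g.c8, key _ (sq_cj _ h) ?_ ?_ ?_⟩ <;> usimp <;> zs [e1, e2, e3] <;> grind

/-- the ovoid -/
theorem sq_Q (h : g * g ∈ sZ) (h1 : g ∈ Q) : g ∈ sR ∨ g ∈ sA7 ∨ g.a1 ≠ 0 ∧ ∃ b c, y8 b c * g * (y8 b c)⁻¹ ∈ sA1 := by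
  have := T.char
  have key : ∀ g : U σ, g * g ∈ sZ → g ∈ Q → g.a1 ≠ 0 → g.b2 = 0 → g.b6 = 0 → g ∈ sA1 := fun g h ⟨e1, e2⟩ h1 h2 h6 => by
    have := sn (σ := σ) h1
    obtain ⟨-, -, k1, k2, -⟩ := h
    usimp at k1 k2
    zs [e1, e2, h2, h6] at k1 k2
    exact ⟨h2, by grind, h6, by grind, e1, e2⟩
  obtain ⟨e1, e2⟩ := h1
  by_cases ha : g.a1 = 0
  · obtain ⟨-, -, k1, k2, -, k3, -, k4, -⟩ := h
    usimp at k1 k2 k3 k4
    zs [e1, e2, ha] at k1 k2 k3 k4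
    have h2 : g.b2 = 0 := nz (σ := σ) (by grind)
    zs [h2] at k3 k4
    by_cases h4 : g.b4 = 0
    · exact Or.inr (Or.inl ⟨ha, h2, h4, nz (σ := σ) (by grind), e1, e2⟩)
    have h6 : g.b6 = 0 := by grind
    exact Or.inl ⟨ha, h2, h6, by grind, e1, e2⟩
  refine Or.inr (Or.inr ⟨ha, g.b2 / g.a1, (g.b6 + g.b2 * σ (g.b2 / g.a1)) / g.a1 + g.b2 / g.a1 * σ (g.b2 / g.a1), key _ ?_ ?_ ?_ ?_ ?_⟩)
  · rw [conj_mul]; exact Normal.conj_mem inferInstance _ h _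
  · exact Normal.conj_mem inferInstance _ (show g ∈ Q from ⟨e1, e2⟩) _
  all_goals generalize hb : g.b2 / g.a1 = b; usimp; zs [e1, e2]; grind

/-- `[W, e] = Z` for `e ∈ Q ∖ R` -/
theorem exists_comm_W {e z : U σ} (h : e ∈ Q) (h' : e ∉ sR) (hz : z ∈ sZ) : ∃ w : U σ, w ∈ sW ∧ z = ⁅w, e⁆ := by
  have := T.char
  obtain ⟨e1, e2⟩ := h
  rw [sZ_eq] at hz
  obtain ⟨c, rfl⟩ := hz
  have k : ∀ w : U σ, w ∈ sW → e.a1 * w.c6 + w.a3 * e.b6 + e.b2 * w.a5 + w.c2 * e.a7 = c → ∃ w : U σ, w ∈ sW ∧ y4 0 c = ⁅w, e⁆ :=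
    fun w hw k => ⟨w, hw, (comm_eq (by
      obtain ⟨f1, f2, f3, f4, f5, f6, f7⟩ := hw
      usimp; zs [e1, e2, f1, f2, f3, f4, f5, f6, f7]; and_intros <;> grind)).symm⟩
  by_cases h1 : e.a1 = 0; swap
  · exact k (y6 0 (c / e.a1)) (by msimp; usimp) (by usimp; grind)
  by_cases h2 : e.b2 = 0; swap
  · exact k (x5 (c / e.b2)) (by msimp; usimp) (by usimp; grind)
  by_cases h6 : e.b6 = 0; swap
  · exact k (x3 (c / e.b6)) (by msimp; usimp) (by usimp; grind)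
  by_cases h7 : e.a7 = 0; swap
  · exact k (y2 0 (c / e.a7)) (by msimp; usimp) (by usimp; grind)
  exact absurd ⟨h1, h2, h6, h7, e1, e2⟩ h'

theorem comm_Z' {z : U σ} (hz : z ∈ sZ) (g : U σ) : z * g = g * z := by
  rw [sZ_eq] at hz; obtain ⟨c, rfl⟩ := hz; exact (comm_Z c g).symm

theorem sq_W {w : U σ} (hw : w ∈ sW) : w * w = 1 := by
  have := T.char
  obtain ⟨e1, e2, e3, e4, e5, e6, e7⟩ := hw
  usimp; zs [e1, e2, e3, e4, e5, e6, e7]; and_intros <;> grind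

theorem comm_RW {w : U σ} (hg : g ∈ sR) (hw : w ∈ sW) : g * w = w * g := by
  have := T.char
  obtain ⟨e1, e2, e3, e4, e5, e6, e7⟩ := hw
  obtain ⟨f1, f2, f3, f4, f5, f6⟩ := hg
  usimp; zs [e1, e2, e3, e4, e5, e6, e7, f1, f2, f3, f4, f5, f6]; and_intros <;> grind

theorem brk_QW {w : U σ} (hg : g ∈ Q) (hw : w ∈ sW) : ⁅g, w⁆ ∈ sZ := by
  have := T.char
  obtain ⟨e1, e2, e3, e4, e5, e6, e7⟩ := hw
  obtain ⟨f1, f2⟩ := hg
  msimp; usimp; zs [e1, e2, e3, e4, e5, e6, e7, f1, f2]; and_intros <;> grind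

theorem brk_symm {B : Subgroup (U σ)} {g h : U σ} (e : ⁅g, h⁆ ∈ B) : ⁅h, g⁆ ∈ B := by
  rw [← commutatorElement_inv]; exact inv_mem e

theorem brk_QQ {k : U σ} (hg : g ∈ Q) (hk : k ∈ Q) : ⁅g, k⁆ ∈ sW := by
  have := T.char
  obtain ⟨e1, e2⟩ := hk
  obtain ⟨f1, f2⟩ := hg
  msimp; usimp; zs [e1, e2, f1, f2]; and_intros <;> grind

theorem brk_RR {k : U σ} (hg : g ∈ sR) (hk : k ∈ sR) : ⁅g, k⁆ ∈ sZ := by
  have := T.char
  obtain ⟨e1, e2, e3, e4, e5, e6⟩ := hk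
  obtain ⟨f1, f2, f3, f4, f5, f6⟩ := hg
  msimp; usimp; zs [e1, e2, e3, e4, e5, e6, f1, f2, f3, f4, f5, f6]; and_intros <;> grind

theorem brk_V {v : U σ} (hv : v ∈ sV) (g : U σ) : ⁅v, g⁆ ∈ sZ := by
  have := T.char
  obtain ⟨e1, e2, e3, e4, e5, e6, e7, e8, e9, e10⟩ := hv
  msimp; usimp; zs [e1, e2, e3, e4, e5, e6, e7, e8, e9, e10]; and_intros <;> grind

theorem comm_VQ' {v : U σ} (hv : v ∈ sV) (hg : g ∈ Q') : v * g = g * v := by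
  have := T.char
  obtain ⟨e1, e2, e3, e4, e5, e6, e7, e8, e9, e10⟩ := hv
  usimp; zs [e1, e2, e3, e4, e5, e6, e7, e8, e9, e10, mem_Q'.1 hg]; and_intros <;> grind

theorem comm_Z3J {v : U σ} (hv : v ∈ sZ3) (hg : g ∈ sJ) : v * g = g * v := by
  have := T.char
  obtain ⟨e1, e2, e3, e4, e5, e6, e7, e8, e9⟩ := hv
  obtain ⟨f1, f2, f3⟩ := hg
  usimp; zs [e1, e2, e3, e4, e5, e6, e7, e8, e9, f1, f2, f3]; and_intros <;> grind

theorem mem_R_of_comm (h : ∀ w ∈ sW, g * w = w * g) (hg : g ∈ Q) : g ∈ sR := by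
  have := T.char
  obtain ⟨f1, f2⟩ := hg
  have k1 := congrArg U.c4 (h (y6 0 1) (by msimp; usimp))
  have k2 := congrArg U.c4 (h (x5 1) (by msimp; usimp))
  have k3 := congrArg U.c4 (h (x3 1) (by msimp; usimp))
  have k4 := congrArg U.c4 (h (y2 0 1) (by msimp; usimp))
  usimp at k1 k2 k3 k4; zs [f1, f2] at k1 k2 k3 k4
  exact ⟨by grind, by grind, by grind, by grind, f1, f2⟩

theorem W_of_R (h : g * g = 1) (hg : g ∈ sR) : g ∈ sW :=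
  let ⟨e1, e2, e3, e4, e5, e6⟩ := hg; ⟨e1, e2, (inv_JQ h ⟨e1, e2, e5, e6⟩).1, e3, e4, e5, e6⟩

theorem Z_le_V : sZ ≤ sV (σ := σ) := fun g h => by msimp at h ⊢; tauto
theorem V_le_Z3 : sV ≤ sZ3 (σ := σ) := fun g h => by msimp at h ⊢; tauto
theorem Z3_le_Z4 : sZ3 ≤ sZ4 (σ := σ) := fun g h => by msimp at h ⊢; tauto
theorem Z4_le_W : sZ4 ≤ sW (σ := σ) := fun g h => by msimp at h ⊢; tauto
theorem Z4_le_W2 : sZ4 ≤ sW2 (σ := σ) := fun g h => by msimp at h ⊢; tauto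
theorem Z3_le_W : sZ3 ≤ sW (σ := σ) := Z3_le_Z4.trans Z4_le_W
theorem V_le_W : sV ≤ sW (σ := σ) := V_le_Z3.trans Z3_le_W
theorem Z_le_W : sZ ≤ sW (σ := σ) := Z_le_V.trans V_le_W
theorem W_le_R : sW ≤ sR (σ := σ) := fun g h => by msimp at h ⊢; tauto
theorem R_le_Q : sR ≤ Q (σ := σ) := fun _ h => h.2.2.2.2
theorem R_le_Q' : sR ≤ Q' (σ := σ) := fun _ h => h.1
theorem W_le_Q : sW ≤ Q (σ := σ) := W_le_R.trans R_le_Q

theorem mem_Om_img {Ω : Type*} [Group Ω] {P E : Subgroup Ω} {θ θ' : Ω → Ω} (e : IsoOn P P θ θ') (hE : E ≤ P) {m : Ω}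
    (hm : m ∈ Om E) : θ m ∈ Om (img θ E) :=
  ⟨mem_img_of_mem θ hm.1, by rw [← e.map_mul (hE hm.1) (hE hm.1), hm.2.1, e.map_one], fun _ hy' => by
    obtain ⟨y, hy, rfl⟩ := (e.mem_img hE).1 hy'
    rw [← e.map_mul (hE hm.1) (hE hy), ← e.map_mul (hE hy) (hE hm.1), hm.2.2 y hy]⟩

theorem isoOn_cj [P.Normal] (s : U σ) : IsoOn P P (cj s) (cj s⁻¹) :=
  ⟨isHomOn_cj P s, fun _ h => Normal.conj_mem ‹_› _ h s, fun _ h => Normal.conj_mem ‹_› _ h s⁻¹, fun x _ => cj_inv_cj s x,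
    fun x _ => cj_cj_inv s x⟩

theorem isoOn_w1 : IsoOn (Q' (σ := σ)) Q' w1 w1 :=
  ⟨fun _ h _ h' => w1_mul h h', fun _ _ => rfl, fun _ _ => rfl, fun _ h => w1_w1 h, fun _ h => w1_w1 h⟩

theorem isoOn_w8 : IsoOn (Q (σ := σ)) Q w8 w8 :=
  ⟨fun _ h _ h' => w8_mul h.1 h.2 h'.1 h'.2, fun _ _ => ⟨rfl, rfl⟩, fun _ _ => ⟨rfl, rfl⟩, fun _ h => w8_w8 h.1 h.2,
    fun _ h => w8_w8 h.1 h.2⟩

theorem Cx.Z_le (h : Cx ⊤ E A) : sZ ≤ Om E := fun z hz =>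
  ⟨h.mem1 trivial fun y _ => comm_Z' hz y, sq_W (Z_le_W hz), fun y _ => comm_Z' hz y⟩

theorem Cx.no_x1 (h : Cx ⊤ E A) {a : K} (ha : a ≠ 0) (hm : x1 a ∈ Om E) : False := by
  have := T.char
  have hE : E ≤ sC1 := fun y hy => (cent_x1 ha).1 (hm.2.2 y hy)
  have hZ : sZ ≤ E := fun z hz => (h.Z_le hz).1
  refine h.false_of_cnt sB4 Q' le_top (fun b hb y hy => h.mem1 trivial fun x hx => ?_) (fun b hb => hZ ?_)
    (fun b hb hb' m hm => ?_) (fun k => ha (k hm)) (fun i : K × K => y4 i.1 0 * y6 0 i.2) (fun i => by msimp; usimp)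
    (fun i j k => ?_) U.a1 fun m _ m' _ e => ?_
  · obtain ⟨e1, e2, e3, e4, e5, e6⟩ := hE hy
    obtain ⟨f1, f2, f3, f4, f5, f6⟩ := hE hx
    obtain ⟨g1, g2, g3, g4, g5, g6, g7, g8, g9⟩ := hb
    have k := brk_QQ (g := b) ⟨g8, g9⟩ ⟨e5, e6⟩
    have k5 : ⁅b, y⁆.a5 = 0 := by usimp; zs [e1, e2, e3, e4, e5, e6, g1, g2, g3, g4, g5, g6, g7, g8, g9]; grind
    have k6 : ⁅b, y⁆.c6 = 0 := by usimp; zs [e1, e2, e3, e4, e5, e6, g1, g2, g3, g4, g5, g6, g7, g8, g9]; grind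
    generalize ⁅b, y⁆ = c at k k5 k6
    obtain ⟨k1, k2, k3, k4, k7, k8, k9⟩ := k
    usimp; zs [f1, f2, f3, f4, f5, f6, k1, k2, k3, k4, k5, k6, k7, k8, k9]; and_intros <;> grind
  · obtain ⟨g1, g2, g3, g4, g5, g6, g7, g8, g9⟩ := hb
    msimp; usimp; zs [g1, g2, g3, g4, g5, g6, g7, g8, g9]; and_intros <;> grind
  · obtain ⟨g1, g2, g3, g4, g5, g6, g7, g8, g9⟩ := hb
    obtain ⟨e1, e2, e3, e4, e5, e6⟩ := hE hm.1
    refine ⟨fun k => ?_, fun k => comm_RW ⟨g1, g2, g6, g7, g8, g9⟩ ⟨k, (inv_J hm.2.1 k).2.1, e1, e2, e4, e5, e6⟩⟩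
    by_contra h1
    rw [mem_Q'] at h1
    have k1 := congrArg U.c2 k
    have k2 := congrArg U.c4 k
    usimp at k1 k2; zs [e1, e2, e3, e4, e5, e6, g1, g2, g3, g4, g5, g6, g7, g8, g9] at k1 k2
    have g10 : b.b4 = 0 := by grind
    exact hb' (hZ ⟨g1, g2, g3, g4, g10, g5, g6, by grind, g7, g8, g9⟩)
  · obtain ⟨e1, -, e3, -⟩ := hE k
    usimp at e1 e3
    exact Prod.ext (by grind) (by grind)
  · rw [mem_Q']; usimp; grind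

/-- Proof. Let `v ∈ V ∖ E`. `[v, E] ≤ Z ≤ Om E`, so by `mem2` some `m ∈ Om E` does not commute with `v`: `m.a1 ≠ 0`. `inv_x1` and `Cx.transport` along `cj s`: it suffices to refute
`Cx ⊤ E A` with `x1 a ∈ Om E`, `a ≠ 0`. `E ≤ sC1`; the elements with only `a1, c2, a3, c4` are central in `sC1`, so lie in `E` (`mem1`) and in `Om E` if involutions (`x1 a`). `false_of_cnt` with `B = sB4`,
`M = Q'`, `ψ (b, c) = y4 b 0 * y6 0 c`, `φ = a1`: `[B, E]` has only `c2, a3, c4`; `m ∈ Om E` has `b2 = 0`; `b ∈ B ∖ E` has `(b4, c6) ≠ 0`, and commutes with `m` iff `m.a1 = 0`. -/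
theorem Cx.V_le (h : Cx ⊤ E A) : sV ≤ E := fun v hv => by
  refine h.mem2 trivial h.iv_Om (fun m _ hm => comm_VQ' hv ?_) h.Z_le (fun z hz => (h.Z_le hz).1) fun y _ => brk_V hv y
  by_contra h1
  obtain ⟨s, hs⟩ := inv_x1 hm.2.1 h1
  exact (h.transport (isoOn_cj s)).no_x1 h1 (hs ▸ mem_Om_img (isoOn_cj s) le_top hm)

/-- `W = Om E`; `[R, R] ≤ Z`; `mem2`. -/
theorem Cx.eq_R (h : Cx P E A) (hR : sR ≤ P) (h1 : sW ≤ E) (h2 : E ≤ sR) : E = sR ∧ Ivs E A sW := by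
  have hW : Ivs E A sW := h.iv_Om.congr (fun y hy => ⟨fun k => W_of_R k.2.1 (h2 hy),
    fun k => ⟨hy, sq_W k, fun x hx => (comm_RW (h2 hx) k).symm⟩⟩) h.toAu
  exact ⟨le_antisymm h2 fun r hr => h.mem2 (hR hr) hW (fun y _ hy => comm_RW hr hy) Z_le_W (Z_le_W.trans h1)
    fun y hy => brk_RR hr (h2 hy), hW⟩

/-- Proof. If `E ≤ R`: `E = R` and `Z` is the set of squares (`iv_sqs`). Else let `β ∈ A` with inverse `α`, `e ∈ E ∖ R`. If `α w ∉ W` for some `w ∈ W`, then the involution `α w` is not in `R`,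
`z = [w', α w]` (`exists_comm_W`), `β z = [β w', w] ∈ [Q, W] ≤ Z`. Otherwise `β W ≤ W` (`Au.mem_of_inv`) and `β [w, e] ∈ [W, Q] ≤ Z`. -/
theorem Cx.iv_Z_of_W (h : Cx P E A) (hR : sR ≤ P) (h1 : sW ≤ E) (h2 : E ≤ Q) : Ivs E A sZ := by
  have := T.char
  by_cases h3 : E ≤ sR
  · refine (h.iv_sqs h.iv_self).congr (fun y hy => ⟨?_, fun k => ?_⟩) h.toAu
    · rintro ⟨x, hx, -, rfl⟩
      obtain ⟨e1, e2, e3, e4, e5, e6⟩ := h3 hx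
      msimp; usimp; zs [e1, e2, e3, e4, e5, e6]; and_intros <;> grind
    · rw [sZ_eq] at k
      obtain ⟨c, rfl⟩ := k
      obtain ⟨b, rfl⟩ := Tits.norm_surj σ c
      have hb : y4 b 0 ∈ E := (h.eq_R hR h1 h3).1 ▸ (by msimp; usimp)
      exact ⟨_, hb, hb, by usimp; grind⟩
  obtain ⟨e, he, he'⟩ := SetLike.not_le_iff_exists.1 h3
  intro β hβ z _ hz
  obtain ⟨α, hα, k⟩ := h.inv β hβ
  by_cases h4 : ∀ w ∈ E, w ∈ (sW (σ := σ) : Set (U σ)) → α w ∈ (sW (σ := σ) : Set (U σ))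
  · obtain ⟨w, hw, rfl⟩ := exists_comm_W (h2 he) he' hz
    rw [(h.hom β hβ).map_commutator (h1 hw) he]
    exact brk_symm (brk_QW (h2 (h.maps β hβ e he)) (h.mem_of_inv hα (fun y hy => (k y hy).2) h4 (h1 hw) hw))
  push Not at h4
  obtain ⟨w, hw, hw', h4⟩ := h4
  obtain ⟨w', hw1, rfl⟩ := exists_comm_W (h2 (h.maps α hα w hw)) (fun r => h4 (W_of_R (h.iv_inv α hα w hw (sq_W hw')) r)) hz
  rw [(h.hom β hβ).map_commutator (h1 hw1) (h.maps α hα w hw), (k w hw).2]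
  exact brk_QW (h2 (h.maps β hβ _ (h1 hw1))) hw'

theorem Cx.no_y4 (h : Cx P E A) (hR : sR ≤ P) (h1 : sW ≤ E) (h2 : E ≤ Q) (h3 : ∀ y ∈ E, y.b4 = 0)
    (h4 : ∀ y ∈ E, ∀ x ∈ E, ⁅(y4 1 0 : U σ), y⁆ * x = x * ⁅(y4 1 0 : U σ), y⁆) : False := by
  have hg : (y4 1 0 : U σ) ∈ sR := by msimp; usimp
  refine one_ne_zero (h3 _ (h.mem2 (hR hg) h.iv_Zn (fun y hy k => comm_RW hg ?_) le_rfl (fun y hy => hy.1) fun y hy =>
    ⟨h1 (brk_QQ (R_le_Q hg) (h2 hy)), h4 y hy⟩))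
  obtain ⟨e1, e2, e3, e4, e5, e6⟩ := mem_R_of_comm (fun w hw => k.2 w (h1 hw)) (h2 hy)
  exact ⟨e1, e2, h3 y hy, e3, e4, e5, e6⟩

theorem Cx.no_A1 (h : Cx ⊤ E A) (h1 : sW ≤ E) (h2 : E ≤ Q) {y : U σ} (hy : y ∈ sA1) (ha : y.a1 ≠ 0)
    (e : ∀ x ∈ E, ⁅y, x⁆ ∈ sZ) : False := by
  have := T.char
  obtain ⟨f1, f2, f3, f4, f5, f6⟩ := hy
  have hE : E ≤ sA12 := fun x hx => by
    obtain ⟨e1, e2⟩ := h2 hx
    obtain ⟨-, -, k1, k2, -, k3, -⟩ := comm_mem_sZ.1 (e x hx)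
    usimp at k1 k2 k3; zs [e1, e2, f1, f2, f3, f4, f5, f6] at k1 k2 k3
    have h7 : x.a7 = 0 := sz (σ := σ) (by grind)
    have h6 : x.b6 = 0 := sz (σ := σ) (by grind)
    exact ⟨by grind, h6, h7, e1, e2⟩
  refine h.no_y4 le_top h1 h2 (fun x hx => (hE hx).1) fun y hy x hx => ?_
  obtain ⟨e1, e2, e3, e4, e5⟩ := hE hy
  obtain ⟨g1, g2, g3, g4, g5⟩ := hE hx
  have k := brk_QQ (g := y4 1 0) ⟨rfl, rfl⟩ ⟨e4, e5⟩
  have k5 : ⁅(y4 1 0 : U σ), y⁆.a5 = 0 := by usimp; zs [e1, e2, e3, e4, e5]; grind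
  have k6 : ⁅(y4 1 0 : U σ), y⁆.c6 = 0 := by usimp; zs [e1, e2, e3, e4, e5]; grind
  generalize ⁅(y4 1 0 : U σ), y⁆ = c at k k5 k6
  obtain ⟨k1, k2, k3, k4, k7, k8, k9⟩ := k
  usimp; zs [g1, g2, g3, g4, g5, k1, k2, k3, k4, k5, k6, k7, k8, k9]; and_intros <;> grind

/-- Proof. `Z ≤ E` (`mem1`), `W ≤ E` (`mem2`, `[W, Q] ≤ Z`). If `W` is invariant, `mem3` with `Z < W` (`[Q, Q] ≤ W`) gives the claim. Else `Y = {y | y² ∈ Z, [y, E] ≤ Z} ⊇ W` is invariant, so there is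
`y ∈ Y ⊓ E ∖ W`; `sq_Q`. (i) `y ∈ R`: `b4 ≠ 0` and `[y, E] ≤ Z` force `E ≤ R`, `W` invariant (`eq_R`). (ii) `y ∈ A₇`: `E ≤ sA67`; `Z₃ ≤ Zn E ≤ W`, `[y4 1 0, E] ≤ Z₃`, so `y4 1 0 ∈ E` (`mem2`, `B = Zn E`), absurd.
(iii) `P = ⊤`; after `Cx.transport` along `cj (y8 b c)` (it fixes `Z, W, Q`) `y ∈ A₁ ∖ W`, `E ≤ sA12` (`a5`: `a7 = 0`, `a3`: `b6 = 0`, `c2`: `b4 = 0`); elements with only `c2, a3, c4` are in `Zn E ≤ W` and contain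
`[y4 1 0, E]`; again `y4 1 0 ∈ E`, absurd. -/
theorem Cx.Q_le (h : Cx P E A) (hP : P = ⊤ ∨ P = Q') (hZ : Ivs E A sZ) (h2 : E ≤ Q) : Q ⊓ P ≤ E := by
  have := T.char
  have hR : sR ≤ P := by rcases hP with rfl | rfl; exacts [le_top, R_le_Q']
  have h0 : sZ ≤ E := fun z hz => h.mem1 (hR (W_le_R (Z_le_W hz))) fun y _ => comm_Z' hz y
  have h1 : sW ≤ E := fun w hw => h.mem2 (hR (W_le_R hw)) hZ (fun y _ hy => (comm_Z' hy w).symm) le_rfl h0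
    fun y hy => brk_symm (brk_QW (h2 hy) hw)
  suffices hW : Ivs E A sW from fun g hg => h.mem3 hg.2 hZ hW (fun y _ hy => (comm_Z' hy g).symm)
    (fun y _ hy => brk_QW hg.1 hy) le_rfl h1 fun y hy => brk_QQ hg.1 (h2 hy)
  by_contra hW
  refine hW ((h.iv_Om2 (fun y _ b hb => Normal.conj_mem inferInstance b hb y) hZ).congr (fun y hy => ⟨fun k => ?_,
    fun k => ⟨hy, sq_W k ▸ one_mem _, fun x hx => brk_symm (brk_QW (h2 hx) k)⟩⟩) h.toAu)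
  by_contra hy'
  rcases sq_Q k.2.1 (h2 hy) with ⟨f1, f2, f3, f4, f5, f6⟩ | ⟨f1, f2, f3, f4, f5, f6⟩ | ⟨ha, b, c, f⟩
  · have h4 : y.b4 ≠ 0 := fun e => hy' ⟨f1, f2, e, f3, f4, f5, f6⟩
    refine hW (h.eq_R hR h1 fun x hx => ?_).2
    obtain ⟨e1, e2⟩ := h2 hx
    obtain ⟨-, -, k1, k2, -, k3, -, k4, -⟩ := comm_mem_sZ.1 (k.2.2 x hx)
    usimp at k1 k2 k3 k4; zs [e1, e2, f1, f2, f3, f4, f5, f6] at k1 k2 k3 k4
    exact ⟨by grind, by grind, by grind, by grind, e1, e2⟩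
  · have h7 : y.a7 ≠ 0 := fun e => hy' ⟨f1, f2, f3, f4, e, f5, f6⟩
    have hE : E ≤ sA67 := fun x hx => by
      obtain ⟨e1, e2⟩ := h2 hx
      obtain ⟨-, -, -, k2, -, k3, -, k4, -⟩ := comm_mem_sZ.1 (k.2.2 x hx)
      usimp at k2 k3 k4; zs [e1, e2, f1, f2, f3, f4, f5, f6] at k2 k3 k4
      have h1 : x.a1 = 0 := sz (σ := σ) (by grind)
      zs [h1] at k3 k4
      have h2 : x.b2 = 0 := sz (σ := σ) (by grind)
      exact ⟨h1, h2, by grind, e1, e2⟩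
    refine h.no_y4 hR h1 h2 (fun x hx => (hE hx).2.2.1) fun y hy x hx => comm_Z3J ?_ ⟨(hE hx).1, (hE hx).2.1, (hE hx).2.2.2.1⟩
    obtain ⟨e1, e2, e3, e4, e5⟩ := hE hy
    msimp; usimp; zs [e1, e2, e3, e4, e5]; and_intros <;> grind
  rcases hP with rfl | rfl
  swap
  · exact ha (h.le hy)
  have e := isoOn_cj (P := ⊤) (y8 b c : U σ)
  refine (h.transport e).no_A1 (fun w hw => (e.mem_img_iff le_top).2 ⟨trivial, h1 (Normal.conj_mem inferInstance _ hw _)⟩)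
    (fun _ hx' => ?_) f (by usimp; grind) fun _ hx' => ?_
  · obtain ⟨x, hx, rfl⟩ := (e.mem_img le_top).1 hx'
    exact Normal.conj_mem inferInstance _ (h2 hx) _
  · obtain ⟨x, hx, rfl⟩ := (e.mem_img le_top).1 hx'
    exact (e.hom.map_commutator (x := y) (y := x) trivial trivial) ▸ Normal.conj_mem inferInstance _ (k.2.2 x hx) _

end CL.RF4
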