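/-
S5262: essential subgroups, part B: no proper subgroup of `Q'` is essential. See the table of commutators in `EsA`.
-/
import Cfsg.Agent.FUS.RF4.EsA

set_option autoImplicit false
set_option linter.unusedSimpArgs false
set_option linter.unusedSectionVars false
set_option linter.unusedTactic false
set_option linter.unreachableTactic false
set_option linter.unnecessarySeqFocus false
set_option linter.unusedVariables false

namespace CL.RF4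

open CL.Fus CL.RF CL.RF.U Subgroup
open scoped commutatorElement

variable {K : Type*} [Field K] [Finite K] {σ : K →+* K} [T : Tits σ] {P E : Subgroup (U σ)} {A : Set (U σ → U σ)} {g : U σ}

theorem brk_JJ {k : U σ} (hg : g ∈ sJ) (hk : k ∈ sJ) : ⁅g, k⁆ ∈ sZ3 := by
  have := T.char
  obtain ⟨e1, e2, e3⟩ := hk
  obtain ⟨f1, f2, f3⟩ := hg
  msimp; usimp; zs [e1, e2, e3, f1, f2, f3]; and_intros <;> grind

theorem brk_Q'Q' {k : U σ} (hg : g ∈ Q') (hk : k ∈ Q') : ⁅g, k⁆ ∈ sJ := by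
  have := T.char
  msimp at hg hk ⊢; usimp; zs [hg, hk]; and_intros <;> grind

theorem brk_Q'Z3 {k : U σ} (hg : g ∈ Q') (hk : k ∈ sZ3) : ⁅g, k⁆ ∈ sV := by
  have := T.char
  obtain ⟨e1, e2, e3, e4, e5, e6, e7, e8, e9⟩ := hk
  msimp at hg ⊢; usimp; zs [hg, e1, e2, e3, e4, e5, e6, e7, e8, e9]; and_intros <;> grind

theorem brk_Q'W2 {k : U σ} (hg : g ∈ Q') (hk : k ∈ sW2) : ⁅g, k⁆ ∈ sZ3 := by
  have := T.char
  obtain ⟨e1, e2, e3, e4, e5, e6, e7⟩ := hk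
  msimp at hg ⊢; usimp; zs [hg, e1, e2, e3, e4, e5, e6, e7]; and_intros <;> grind

theorem brk_Q'J {k : U σ} (hg : g ∈ Q') (hk : k ∈ sJ) : ⁅g, k⁆ ∈ sW2 := by
  have := T.char
  obtain ⟨e1, e2, e3⟩ := hk
  msimp at hg ⊢; usimp; zs [hg, e1, e2, e3]; and_intros <;> grind

theorem brk_W2J {k : U σ} (hg : g ∈ sW2) (hk : k ∈ sJ) : ⁅g, k⁆ ∈ sV := by
  have := T.char
  obtain ⟨e1, e2, e3⟩ := hk
  obtain ⟨f1, f2, f3, f4, f5, f6, f7⟩ := hg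
  msimp; usimp; zs [e1, e2, e3, f1, f2, f3, f4, f5, f6, f7]; and_intros <;> grind

theorem mem_J_of_comm (hg : g ∈ Q') {m : U σ} (hm : m ∈ sZ3) (h5 : m.a5 ≠ 0) (e : g * m = m * g) : g ∈ sJ := by
  have := T.char
  obtain ⟨e1, e2, e3, e4, e5, e6, e7, e8, e9⟩ := hm
  have k1 := congrArg U.c4 e
  have k2 := congrArg U.c6 e
  usimp at k1 k2; zs [mem_Q'.1 hg, e1, e2, e3, e4, e5, e6, e7, e8, e9] at k1 k2
  exact ⟨hg, by grind, by grind⟩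

theorem mem_W2_of_brk (hg : g ∈ sJ) (h : ∀ k : U σ, k ∈ sJ → ⁅g, k⁆ ∈ sV) : g ∈ sW2 := by
  have := T.char
  obtain ⟨e1, e2, e3⟩ := hg
  have k1 := (comm_mem_sV.1 (h (y6 1 0) ⟨rfl, rfl, rfl⟩)).2.2.2.2.2.1
  have k2 := (comm_mem_sV.1 (h (y4 1 0) ⟨rfl, rfl, rfl⟩)).2.2.2.2.2.1
  have k3 := (comm_mem_sV.1 (h (y2 0 1) ⟨rfl, rfl, rfl⟩)).2.2.2.2.2.1
  have k4 := (comm_mem_sV.1 (h (y8 0 1) ⟨rfl, rfl, rfl⟩)).2.2.2.2.2.1
  usimp at k1 k2 k3 k4; zs [e1, e2, e3] at k1 k2 k3 k4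
  exact ⟨e1, e2, by grind, by grind, by grind, e3, by grind⟩

theorem mem_J_of_sq (hg : g ∈ Q') (h : g * g ∈ sZ3) : g ∈ sJ := by
  have := T.char
  obtain ⟨-, -, k1, -, -, -, -, -, k2⟩ := h
  usimp at k1 k2; zs [mem_Q'.1 hg] at k1
  exact ⟨hg, nz (σ := σ) (by grind), nz (σ := σ) (by grind)⟩

theorem W2_le_J : sW2 ≤ sJ (σ := σ) := fun g h => by msimp at h ⊢; tauto
theorem Z3_le_W2 : sZ3 ≤ sW2 (σ := σ) := Z3_le_Z4.trans Z4_le_W2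
theorem Z3_le_J : sZ3 ≤ sJ (σ := σ) := Z3_le_W2.trans W2_le_J
theorem J_le_Q' : sJ ≤ Q' (σ := σ) := fun _ h => h.1

theorem comm_W2 {k : U σ} (hg : g ∈ sW2) (hk : k ∈ sW2) : g * k = k * g := by
  have := T.char
  obtain ⟨e1, e2, e3, e4, e5, e6, e7⟩ := hk
  obtain ⟨f1, f2, f3, f4, f5, f6, f7⟩ := hg
  usimp; zs [e1, e2, e3, e4, e5, e6, e7, f1, f2, f3, f4, f5, f6, f7]; and_intros <;> grind

theorem sq_W2 (hg : g ∈ sW2) : g * g = 1 := by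
  have := T.char
  obtain ⟨f1, f2, f3, f4, f5, f6, f7⟩ := hg
  usimp; zs [f1, f2, f3, f4, f5, f6, f7]; and_intros <;> grind

theorem w1_Z3 (hg : g ∈ sZ3) : w1 g ∈ sZ3 := by
  obtain ⟨e1, e2, e3, e4, e5, e6, e7, e8, e9⟩ := hg
  msimp; usimp; zs [e1, e2, e3, e4, e5, e6, e7, e8, e9]

/-- `V` is central in `Q'` (`mem1`) -/
theorem Cx.V_le_Om (h : Cx Q' E A) : sV ≤ Om E := fun v hv =>
  ⟨h.mem1 hv.1 fun y hy => comm_VQ' hv (h.le hy), sq_W (V_le_W hv), fun y hy => comm_VQ' hv (h.le hy)⟩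

/-- `Om E ≤ J` (`inv_J`), `Z₃` centralises `J`, `[Z₃, Q'] ≤ V`; `mem2`. -/
theorem Cx.Z3_le (h : Cx Q' E A) : sZ3 ≤ E := fun z hz =>
  h.mem2 hz.1 h.iv_Om (fun y hy k => comm_Z3J hz (inv_J k.2.1 (h.le hy))) h.V_le_Om (fun v hv => (h.V_le_Om hv).1)
    fun y hy => brk_symm (brk_Q'Z3 (h.le hy) hz)

/-- Proof. Then `Z₃ ≤ Om E`, and `Om E ≤ Z₃` is assumed; `[J, J] ≤ Z₃` gives `J ≤ E` (`mem2`). `false_of_cnt` with `B = Q'`, `M = V`, `ψ (b, b') = y2 b 0 * y8 b' 0`, `φ = a5`. -/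
theorem Cx.not_le_J (h : Cx Q' E A) (h1 : Om E ≤ sZ3) : ¬ E ≤ sJ := fun h2 => by
  have := T.char
  have h3 : sZ3 ≤ Om E := fun z hz => ⟨h.Z3_le hz, sq_W (Z3_le_W hz), fun y hy => comm_Z3J hz (h2 hy)⟩
  have h4 : sJ ≤ E := fun g hg => h.mem2 hg.1 h.iv_Om (fun y _ k => (comm_Z3J (h1 k) hg).symm) h3 h.Z3_le
    fun y hy => brk_JJ hg (h2 hy)
  refine h.false_of_cnt Q' sV le_rfl (fun b hb y hy => h4 (brk_Q'Q' hb (h.le hy))) (fun b hb => h4 ?_)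
    (fun b hb hb' m hm => ⟨fun k => ?_, fun k => (comm_VQ' k hb).symm⟩)
    (fun k => one_ne_zero (k (h3 (x := x5 1) (by msimp; usimp))).2.2.2.2.2.1)
    (fun i : K × K => y2 i.1 0 * y8 i.2 0) (fun i => by msimp; usimp) (fun i j k => ?_) U.a5 fun m hm m' hm' e => ?_
  · msimp at hb ⊢; usimp; zs [hb]; and_intros <;> grind
  · obtain ⟨e1, e2, e3, e4, e5, e6, e7, e8, e9⟩ := h1 hm
    exact ⟨e1, e2, e3, e4, e5, by_contra fun h5 => hb' (h4 (mem_J_of_comm hb (h1 hm) h5 k)), e6, e7, e8, e9⟩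
  · obtain ⟨-, e1, e3⟩ := h2 k
    usimp at e1 e3
    exact Prod.ext (by grind) (by grind)
  · obtain ⟨e1, e2, e3, e4, e5, e6, e7, e8, e9⟩ := h1 hm
    obtain ⟨f1, f2, f3, f4, f5, f6, f7, f8, f9⟩ := h1 hm'
    msimp; usimp; zs [e1, e2, e3, e4, e5, e6, e7, e8, e9, f1, f2, f3, f4, f5, f6, f7, f8, f9]; grind

/-- `W''` is elementary abelian, so `E = W'' = Om E` (`mem1`); `false_of_cnt` with `B = sRA`, `M = Z₄`, `ψ (c, b) = y2 0 c * y4 b 0`, `φ = a7`. -/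
theorem Cx.not_le_W2 (h : Cx Q' E A) : ¬ E ≤ sW2 := fun h2 => by
  have := T.char
  have h3 : sW2 ≤ E := fun w hw => h.mem1 hw.1 fun y hy => comm_W2 hw (h2 hy)
  refine h.false_of_cnt sRA sZ4 (fun _ hb => hb.1)
    (fun b hb y hy => h.Z3_le (brk_JJ ⟨hb.1, hb.2.1, hb.2.2.2.1⟩ (W2_le_J (h2 hy)))) (fun b hb => h3 ?_)
    (fun b hb hb' m hm => ?_)
    (fun k => one_ne_zero (k (x := x7 1) ⟨h3 (by msimp; usimp), by usimp; grind,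
      fun y hy => comm_W2 (by msimp; usimp) (h2 hy)⟩).2.2.2.2.2.1)
    (fun i : K × K => y2 0 i.1 * y4 i.2 0) (fun i => by msimp; usimp) (fun i j k => ?_) U.a7 fun m hm m' hm' e => ?_
  · obtain ⟨e1, e2, e3, e4, e5⟩ := hb
    msimp; usimp; zs [e1, e2, e3, e4, e5]; and_intros <;> grind
  · obtain ⟨e1, e2, e3, e4, e5⟩ := hb
    obtain ⟨f1, f2, f3, f4, f5, f6, f7⟩ := h2 hm.1
    refine ⟨fun k => ⟨f1, f2, f3, f4, f5, by_contra fun h7 => hb' (h3 ?_), f6, f7⟩, fun k => ?_⟩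
    · have k1 := congrArg U.c4 k
      have k2 := congrArg U.c6 k
      usimp at k1 k2; zs [e1, e2, e3, e4, e5, f1, f2, f3, f4, f5, f6, f7] at k1 k2
      exact ⟨e1, e2, by grind, by grind, e3, e4, e5⟩
    · have f8 := k.2.2.2.2.2.1
      usimp; zs [e1, e2, e3, e4, e5, f1, f2, f3, f4, f5, f6, f7, f8]; and_intros <;> grind
  · obtain ⟨-, -, e1, e3, -⟩ := h2 k
    usimp at e1 e3
    exact Prod.ext (by grind) (by grind)
  · obtain ⟨e1, e2, e3, e4, e5, e6, e7⟩ := h2 hm.1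
    obtain ⟨f1, f2, f3, f4, f5, f6, f7⟩ := h2 hm'.1
    msimp; usimp; zs [e1, e2, e3, e4, e5, e6, e7, f1, f2, f3, f4, f5, f6, f7]; grind

/-- Proof. If `m.c2 ≠ 0`: `E ≤ C(m) ≤ Q` (`a3`: `b8 = 0`, `a5`: `c8 = 0`); elements of `Om E ≤ J ⊓ Q` have `b4 = b6 = 0 = c2 a7` (`inv_JQ`), applied to `m'` and `m m'` this gives `a7 = 0`: `Om E ≤ W`.
If `m.c2 = 0`, `m.a3 ≠ 0`: again `E ≤ Q`; if some `m' ∈ Om E` has `a7 ≠ 0` then `m'.c2 = 0`; `E` centralises `m` and `m'`: `b2 = 0` (`a5`, `m'`), `b4 = 0` (`c6`, `m'`), `b6 = 0` (`c4`, `m`), `c2 = 0` (`c4`, `m'`), so `E ≤ W''`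
(`not_le_W2`). So `Om E ≤ W`, `E ≤ Q ⊓ Q'`. `W ≤ E` (`mem2`, `B = Om E`, `[W, Q] ≤ Z`), `iv_Z_of_W`, `Q_le` give `E = Q ⊓ Q'`, whose centre is `V ∌ m`. -/
theorem Cx.not_W (h : Cx Q' E A) {m : U σ} (hm : m ∈ Om E) (h1 : m ∈ sW) : m ∈ sZ3 := by
  have := T.char
  obtain ⟨e1, e2, e3, e4, e5, e6, e7⟩ := h1
  by_contra h0
  have h0' : ¬ (m.c2 = 0 ∧ m.a3 = 0) := fun k => h0 ⟨e1, e2, k.1, k.2, e3, e4, e5, e6, e7⟩
  have hQ : E ≤ Q := fun y hy => by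
    have k := hm.2.2 y hy
    have k1 := congrArg U.a3 k
    have k2 := congrArg U.a5 k
    have k3 := congrArg U.c6 k
    usimp at k1 k2 k3; zs [mem_Q'.1 (h.le hy), e1, e2, e3, e4, e5, e6, e7] at k1 k2 k3
    have h8 : y.b8 = 0 := by
      by_cases h2 : m.c2 = 0
      · exact sz (σ := σ) (by grind)
      · grind
    zs [h8] at k2 k3
    refine ⟨h8, ?_⟩
    by_cases h2 : m.c2 = 0
    · zs [h2] at k3; grind
    · grind
  have hW : Om E ≤ sW := fun n hn => by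
    obtain ⟨f1, f2, f3⟩ := inv_J hn.2.1 (h.le hn.1)
    have f4 := (hQ hn.1).2
    obtain ⟨f5, f6, f7⟩ := inv_JQ hn.2.1 ⟨f1, f2, f3, f4⟩
    refine ⟨f1, f2, f5, f6, by_contra fun h7 => h.not_le_W2 fun y hy => ?_, f3, f4⟩
    have f8 : n.c2 = 0 := by grind
    have g1 := mem_Q'.1 (h.le hy)
    obtain ⟨g2, g3⟩ := hQ hy
    have k0 := congrArg U.c4 (hm.2.2 n hn.1)
    have k1 := congrArg U.a5 (hn.2.2 y hy)
    have k2 := congrArg U.c6 (hn.2.2 y hy)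
    have k3 := congrArg U.c4 (hm.2.2 y hy)
    have k4 := congrArg U.c4 (hn.2.2 y hy)
    usimp at k0 k1 k2 k3 k4
    zs [e1, e2, e3, e4, e5, e6, e7, f1, f2, f3, f4, f5, f6, f8, g1, g2, g3] at k0 k1 k2 k3 k4
    have e8 : m.c2 = 0 := by grind
    have g4 : y.b2 = 0 := sz (σ := σ) (by grind)
    zs [e8, g4] at k2 k3 k4
    have g5 : y.b6 = 0 := by grind
    exact ⟨g1, g4, by grind, by grind, g5, g2, g3⟩
  have h2 : sW ≤ E := fun w hw => h.mem2 hw.1 h.iv_Om (fun y _ k => comm_RW (W_le_R hw) (hW k)) (Z_le_V.trans h.V_le_Om)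
    (fun z hz => (h.V_le_Om (Z_le_V hz)).1) fun y hy => brk_symm (brk_QW (hQ hy) hw)
  have h3 := h.Q_le (Or.inr rfl) (h.iv_Z_of_W R_le_Q' h2 hQ) hQ
  have k1 := congrArg U.c4 (hm.2.2 (x7 1) (h3 ⟨⟨rfl, rfl⟩, rfl⟩))
  have k2 := congrArg U.c4 (hm.2.2 (y6 1 0) (h3 ⟨⟨rfl, rfl⟩, rfl⟩))
  usimp at k1 k2; zs [e1, e2, e3, e4, e5, e6, e7] at k1 k2
  exact h0' ⟨by grind, by grind⟩

/-- Proof. `Om E ≤ Z₃`: `m ∈ Om E`, `inv_W`; `Cx.transport` along `cj (x1 a)` and `w1` (`isoOn_cj`, `isoOn_w1`; the image of `m` is in `Om` of the image; both maps preserve `Z₃`), `not_W`.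
If `m ∈ Z₃ ∖ V` then `E ≤ C(m) ⊓ Q' = J`, `not_le_J`. -/
theorem Cx.Om_le_V (h : Cx Q' E A) : Om E ≤ sV := by
  have h1 : Om E ≤ sZ3 := fun m hm => by
    rcases inv_W hm.2.1 (inv_J hm.2.1 (h.le hm.1)) with k | ⟨a, k⟩
    · exact h.not_W hm k
    have e := (isoOn_cj (P := Q') (x1 a : U σ)).trans isoOn_w1
    rw [← e.left m (h.le hm.1)]
    exact Normal.conj_mem inferInstance _ (w1_Z3 ((h.transport e).not_W (mem_Om_img e h.le hm) k)) _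
  intro m hm
  obtain ⟨e1, e2, e3, e4, e5, e6, e7, e8, e9⟩ := h1 hm
  exact ⟨e1, e2, e3, e4, e5, by_contra fun h5 => h.not_le_J h1 fun y hy =>
    mem_J_of_comm (h.le hy) (h1 hm) h5 (hm.2.2 y hy).symm, e6, e7, e8, e9⟩

theorem Cx.iv_V' (h : Cx Q' E A) : Ivs E A sV :=
  h.iv_Om.congr (fun y _ => ⟨fun k => h.Om_le_V k, fun k => h.V_le_Om k⟩) h.toAu

/-- Proof. `W'' ≤ E` (`mem2`, `[W'', Q'] ≤ Z₃`). `J` is invariant (centraliser of `Z₃ ≤ E`); `J ≤ E` (`mem3` with `Z₃ < J`, `[J, J] ≤ Z₃`, `[J, Q'] ≤ W''`).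
`W'' = {g ∈ J | [g, J] ≤ V}` is invariant; chain `V < Z₃ < W'' < J` and `[Q', Q'] ≤ J` (`Ch.base`, `Ch.step`, `mem_of_ch`). -/
theorem Cx.Q'_le_of_Z3 (h : Cx Q' E A) (hV : Ivs E A sV) (hZ : Ivs E A sZ3) : Q' ≤ E := by
  have h1 : sW2 ≤ E := fun w hw => h.mem2 hw.1 hZ (fun y _ k => (comm_Z3J k (W2_le_J hw)).symm) le_rfl h.Z3_le
    fun y hy => brk_symm (brk_Q'W2 (h.le hy) hw)
  have h5 : (x5 1 : U σ) ∈ sZ3 := by msimp; usimp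
  have hJ : Ivs E A sJ := (h.iv_cent hZ).congr (fun y hy => ⟨fun k => mem_J_of_comm (h.le hy) h5 one_ne_zero
    (k _ (h.Z3_le h5) h5), fun k x _ hx => (comm_Z3J hx k).symm⟩) h.toAu
  have h2 : sJ ≤ E := fun g hg => h.mem3 hg.1 hZ hJ (fun y _ k => (comm_Z3J k hg).symm) (fun y _ k => brk_JJ hg k) W2_le_J h1
    fun y hy => brk_symm (brk_Q'J (h.le hy) hg)
  have hW : Ivs E A sW2 := (hJ.inter (h.iv_comm hJ hV)).congr (fun y hy => ⟨fun k => mem_W2_of_brk k.1 fun x hx =>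
    k.2 x (h2 hx) hx, fun k => ⟨W2_le_J k, fun x _ hx => brk_W2J k hx⟩⟩) h.toAu
  exact fun g hg => h.mem_of_ch hg ((((Ch.base h.toAu hV fun y _ k => (comm_VQ' k hg).symm).step hV hZ
    fun y _ k => brk_Q'Z3 hg k).step hZ hW fun y _ k => brk_Q'W2 hg k).step hW hJ fun y _ k => brk_Q'J hg k) hJ
    (fun y hy => brk_Q'Q' hg (h.le hy)) fun y hy => h2 (brk_Q'Q' hg (h.le hy))

theorem Cx.Z3_le_Om2 (h : Cx Q' E A) {hB : ∀ y ∈ E, ∀ b ∈ sV, y * b * y⁻¹ ∈ sV} : sZ3 ≤ Om2 E sV hB := fun z hz =>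
  ⟨h.Z3_le hz, sq_W (Z3_le_W hz) ▸ one_mem _, fun y hy => brk_symm (brk_Q'Z3 (h.le hy) hz)⟩

/-- Proof. `V = Om E` is invariant. `U₇ ≤ E` (`[U₇, E₈] ≤ V`). `Y = Om2 E V` contains `Z₃ U₇`; `Y ≤ J` (squares) and `e ∈ E` with `b8 ≠ 0` (`not_le_J`) forces `c2 = b6 = 0`: `Y ≤ B₁`.
`B₁ ≤ E` by `mem3` with `V < Y` (`[B₁, B₁] ≤ V`, `[B₁, E₈] ≤ Z₃`). `X = {g | g² ∈ V}` satisfies `B₁ ⊆ X ⊓ E ⊆ J`, and its centraliser in `E` is `Z₃` (test with `x3 1, x7 1, y8 0 1, y4 1 0`). -/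
theorem Cx.Q'_le_of_E8 (h : Cx Q' E A) (h1 : E ≤ sE8) : Q' ≤ E := by
  have := T.char
  have hV := h.iv_V'
  obtain ⟨e, he, he'⟩ := SetLike.not_le_iff_exists.1 (h.not_le_J (h.Om_le_V.trans V_le_Z3))
  obtain ⟨e1, e2⟩ := h1 he
  have e3 : e.b8 ≠ 0 := fun k => he' ⟨e1, e2, k⟩
  have h2 : sB1 ≤ E := fun g hg => by
    obtain ⟨g1, g2, g3, g4, g5⟩ := hg
    refine h.mem3 g1 hV (h.iv_Om2 (fun y _ b hb => Normal.conj_mem inferInstance b hb y) hV)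
      (fun y _ k => (comm_VQ' k g1).symm) (fun y hy k => ?_) h.Z3_le_Om2 h.Z3_le fun y hy => ?_
    · obtain ⟨f1, f2, f3⟩ := mem_J_of_sq (h.le hy) (V_le_Z3 k.2.1)
      obtain ⟨-, -, -, k1, -, -, -, k2, -⟩ := comm_mem_sV.1 (k.2.2 e he)
      usimp at k1 k2; zs [e1, e2, f1, f2, f3] at k1 k2
      have f4 : y.c2 = 0 := by grind
      have f5 : y.b6 = 0 := by grind
      msimp; usimp; zs [f1, f2, f3, f4, f5, g1, g2, g3, g4, g5]; and_intros <;> grind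
    · obtain ⟨f1, f2⟩ := h1 hy
      msimp; usimp; zs [f1, f2, g1, g2, g3, g4, g5]; and_intros <;> grind
  refine h.Q'_le_of_Z3 hV ((h.iv_cent (h.iv_sq hV)).congr (fun y hy => ⟨fun k => ?_, fun k x hx hx' =>
    comm_Z3J k (mem_J_of_sq (h.le hx) (V_le_Z3 hx'))⟩) h.toAu)
  have k' : ∀ x ∈ sB1, y * x = x * y := fun x hx => k x (h2 hx) (by
    obtain ⟨g1, g2, g3, g4, g5⟩ := hx
    show x * x ∈ sV
    msimp; usimp; zs [g1, g2, g3, g4, g5]; and_intros <;> grind)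
  obtain ⟨f1, f2⟩ := h1 hy
  have k1 := k' (x3 1) (by msimp; usimp)
  have k2 := k' (x7 1) (by msimp; usimp)
  have k3 := congrArg U.c6 (k' (y8 0 1) (by msimp; usimp))
  have k4 := congrArg U.c6 (k' (y4 1 0) (by msimp; usimp))
  have k5 := congrArg U.a5 k1
  have k6 := congrArg U.c6 k1
  have k7 := congrArg U.c4 k1
  have k8 := congrArg U.c4 k2
  have k9 := congrArg U.c6 k2
  usimp at k3 k4 k5 k6 k7 k8 k9
  have f3 : y.b8 = 0 := sz (σ := σ) (by grind)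
  zs [f1, f2, f3] at k3 k4 k6 k7 k8 k9
  have f4 : y.c2 = 0 := by grind
  zs [f4] at k3
  exact ⟨f1, f2, f4, by grind, by grind, by grind, by grind, f3, by grind⟩

/-- Proof. If there are `e, e' ∈ E` with `e.b2 e'.b8 ≠ e'.b2 e.b8`: `y ∈ E` with `y² ∈ V`, `[y, E] ≤ V` lies in `J`, then `b4 = c2 = 0` (`a3`), `c8 = b6 = 0` (`a7`), `a3 = a7 = 0` (`a5`, apply `σ` to the
determinant); so `Z₃` is invariant, `Q'_le_of_Z3`. Otherwise either `b8 = 0` on `E` (transport along `w1`), or `e₀.b8 ≠ 0` (transport along `cj (x1 (e₀.b2 / e₀.b8))`): the image lies in `E₈`, `Q'_le_of_E8`. -/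
theorem Cx.eq_Q' (h : Cx Q' E A) : E = Q' := by
  have := T.char
  refine le_antisymm h.le ?_
  have key : ∀ θ θ' : U σ → U σ, IsoOn Q' Q' θ θ' → (∀ y ∈ E, (θ y).b2 = 0) → Q' ≤ E := fun θ θ' e k g hg =>
    (e.map_mem_img_iff h.le hg).1 ((h.transport e).Q'_le_of_E8 (fun _ hy' => by
      obtain ⟨y, hy, rfl⟩ := (e.mem_img h.le).1 hy'
      exact ⟨e.maps y (h.le hy), k y hy⟩) (e.maps g hg))
  by_cases h1 : ∀ e ∈ E, ∀ e' ∈ E, e.b2 * e'.b8 = e'.b2 * e.b8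
  · by_cases h2 : ∀ y ∈ E, y.b8 = 0
    · exact key _ _ isoOn_w1 h2
    push Not at h2
    obtain ⟨e, he, h2⟩ := h2
    refine key _ _ (isoOn_cj (x1 (e.b2 / e.b8))) fun y hy => ?_
    have := h1 e he y hy
    simp only [cj]; usimp; grind
  push Not at h1
  obtain ⟨e, he, e', he', h1⟩ := h1
  have h2 : σ e.b2 * σ e'.b8 ≠ σ e'.b2 * σ e.b8 := fun k => h1 (σ.injective (by simpa using k))
  refine h.Q'_le_of_Z3 h.iv_V' ((h.iv_Om2 (fun y _ b hb => Normal.conj_mem inferInstance b hb y) h.iv_V').congr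
    (fun y hy => ⟨fun k => ?_, fun k => h.Z3_le_Om2 k⟩) h.toAu)
  obtain ⟨f1, f2, f3⟩ := mem_J_of_sq (h.le hy) (V_le_Z3 k.2.1)
  obtain ⟨-, -, -, k1, -, k3, -, k2, -⟩ := comm_mem_sV.1 (k.2.2 e he)
  obtain ⟨-, -, -, l1, -, l3, -, l2, -⟩ := comm_mem_sV.1 (k.2.2 e' he')
  usimp at k1 k2 k3 l1 l2 l3; zs [mem_Q'.1 (h.le he), mem_Q'.1 (h.le he'), f1, f2, f3] at k1 k2 k3 l1 l2 l3
  have f4 : y.b4 = 0 := by grind
  have f5 : y.c2 = 0 := by grind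
  have f6 : y.c8 = 0 := by grind
  have f7 : y.b6 = 0 := by grind
  zs [f4, f5, f6, f7] at k3 l3
  exact ⟨f1, f2, f5, by grind, f4, f7, by grind, f3, f6⟩

end CL.RF4
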