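/-
S5262: essential subgroups, part C: subgroups not contained in `Q'`. See the table of commutators in `EsA`.
-/
import Cfsg.Agent.FUS.RF4.EsA
import Cfsg.Agent.FUS.RF4.EsB

set_option autoImplicit false
set_option linter.unusedSimpArgs false
set_option linter.unusedSectionVars false
set_option linter.unusedTactic false
set_option linter.unreachableTactic false
set_option linter.unnecessarySeqFocus false
set_option linter.unusedVariables false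

namespace CL.RF4

open CL.Fus CL.RF CL.RF.U Subgroup
open scoped commutatorElement

variable {K : Type*} [Field K] [Finite K] {σ : K →+* K} [T : Tits σ] {P E : Subgroup (U σ)} {A : Set (U σ → U σ)} {g : U σ}

theorem brk_Z3 {z : U σ} (hz : z ∈ sZ3) (g : U σ) : ⁅z, g⁆ ∈ sV := by
  have := T.char
  obtain ⟨e1, e2, e3, e4, e5, e6, e7, e8, e9⟩ := hz
  msimp; usimp; zs [e1, e2, e3, e4, e5, e6, e7, e8, e9]; and_intros <;> grind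

theorem brk_Z3F8 {z : U σ} (hz : z ∈ sZ3) (hg : g.b8 = 0) : ⁅z, g⁆ ∈ sZ := by
  have := T.char
  obtain ⟨e1, e2, e3, e4, e5, e6, e7, e8, e9⟩ := hz
  msimp; usimp; zs [hg, e1, e2, e3, e4, e5, e6, e7, e8, e9]; and_intros <;> grind

theorem brk_WF8 {z : U σ} (hz : z ∈ sW) (hg : g.b8 = 0) : ⁅z, g⁆ ∈ sZ3 := by
  have := T.char
  obtain ⟨e1, e2, e3, e4, e5, e6, e7⟩ := hz
  msimp; usimp; zs [hg, e1, e2, e3, e4, e5, e6, e7]; and_intros <;> grind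

theorem brk_JQF8 {z : U σ} (hz : z ∈ sJQ) (hg : g.b8 = 0) : ⁅z, g⁆ ∈ sW := by
  have := T.char
  obtain ⟨e1, e2, e3, e4⟩ := hz
  msimp; usimp; zs [hg, e1, e2, e3, e4]; and_intros <;> grind

theorem sq_b8 (h : (g * g).c8 = 0) : g.b8 = 0 := by
  have := T.char
  usimp at h; exact nz (σ := σ) (by grind)

theorem a1_of_comm (h : g * y6 0 1 = y6 0 1 * g) : g.a1 = 0 := by
  have := T.char
  have e := congrArg U.c4 h
  usimp at e; grind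

theorem Z3_of_brk {y e : U σ} (hy : y ∈ sW) (he : e ∉ Q) (h : ⁅y, e⁆ ∈ sZ) : y ∈ sZ3 := by
  have := T.char
  obtain ⟨e1, e2, e3, e4, e5, e6, e7⟩ := hy
  obtain ⟨-, -, -, k1, -, k2, -, k3, -⟩ := comm_mem_sZ.1 h
  usimp at k1 k2 k3; zs [e1, e2, e3, e4, e5, e6, e7] at k1 k2 k3
  have h2 : y.c2 = 0 := by
    by_contra h2
    have h8 : e.b8 = 0 := by grind
    zs [h8] at k2
    exact he ⟨h8, by grind⟩
  zs [h2] at k2 k3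
  refine ⟨e1, e2, h2, by_contra fun h3 => ?_, e3, e4, e5, e6, e7⟩
  have h8 : e.b8 = 0 := sz (σ := σ) (by grind)
  zs [h8] at k3
  exact he ⟨h8, by grind⟩

theorem sq_JQ (h : g ∈ sJQ) : g * g = ⟨0, 0, 0, 0, 0, g.a3 * g.b6 + g.c2 * g.a7 + σ g.b4 * g.b4, g.b4 * g.b6, 0,
    g.b4 * g.a7 + σ g.b6 * g.b6, 0, 0, 0⟩ := by
  have := T.char
  obtain ⟨e1, e2, e3, e4⟩ := h
  usimp; zs [e1, e2, e3, e4]; and_intros <;> grind

theorem sq_T5 (h : g ∈ sT5) : g * g ∈ sJQ := by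
  have := T.char
  obtain ⟨e1, e2⟩ := h
  msimp; usimp; zs [e1, e2]; and_intros <;> grind

theorem pow4 (h : g ∈ sT5) : g * g * (g * g) = ⟨0, 0, 0, 0, 0, (g.a1 * σ g.b6 + σ g.a1 * g.a7) * (g.a1 * g.c8) +
    (g.a1 * g.b4 + σ g.a1 * g.b6 + g.a1 * σ g.a1 * g.c8) * (g.a1 * σ g.c8), g.a1 * σ g.a1 * g.c8 ^ 2, 0, 0, 0, 0, 0⟩ := by
  have := T.char
  rw [sq_JQ (sq_T5 h)]
  obtain ⟨e1, e2⟩ := h
  usimp; zs [e1, e2]; and_intros <;> grind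

theorem Au.iv_pow4 {Ω : Type*} [Group Ω] {E : Subgroup Ω} {A : Set (Ω → Ω)} (hA : Au E A) :
    Iv E A {u | ∀ k ∈ E, k * u * (k * u) * (k * u * (k * u)) = k * k * (k * k)} := fun α hα y hy h x hx => by
  obtain ⟨x, h1, rfl⟩ := hA.surj hα hx
  have h2 := mul_mem h1 hy
  rw [← hA.hom α hα h1 hy, ← hA.hom α hα h2 h2, ← hA.hom α hα (mul_mem h2 h2) (mul_mem h2 h2), h x h1,
    hA.hom α hα (mul_mem h1 h1) (mul_mem h1 h1), hA.hom α hα h1 h1]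

theorem iv_of_cj {B : Subgroup (U σ)} [B.Normal] {s : U σ}
    (h : Ivs (img (cj s) E) {β | ∃ α ∈ A, β = cj s ∘ α ∘ cj s⁻¹} B) : Ivs E A B := fun α hα y hy k => by
  have := h _ ⟨α, hα, rfl⟩ _ (mem_img_of_mem (cj s) hy) (Normal.conj_mem ‹_› _ k s)
  simp only [Function.comp, cj_inv_cj] at this
  exact cj_inv_cj s (α y) ▸ Normal.conj_mem ‹_› _ this s⁻¹

theorem not_img_le {B : Subgroup (U σ)} [B.Normal] (s : U σ) (h : ¬ E ≤ B) : ¬ img (cj s) E ≤ B := fun k => h fun y hy =>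
  cj_inv_cj s y ▸ Normal.conj_mem ‹_› _ (k (mem_img_of_mem (cj s) hy)) s⁻¹

theorem Om_conj {Ω : Type*} [Group Ω] {E : Subgroup Ω} : ∀ y ∈ E, ∀ b ∈ Om E, y * b * y⁻¹ ∈ Om E := fun y hy b hb => by
  rwa [← hb.2.2 y hy, mul_inv_cancel_right]

/-- Proof. `m` centralises `V ≤ E` (`V_le`): `a1 = 0`, `m ∈ J`; `e ∈ E` with `a1 ≠ 0`: `c8 = 0` (`b4`), `inv_JQ`, `a7 = 0` (`a3`: `σa1 a7 + c2 b8`). -/
theorem Cx.Om_le_W (h : Cx ⊤ E A) (h1 : ¬ E ≤ Q') : Om E ≤ sW := fun m hm => by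
  have := T.char
  obtain ⟨e, he, he'⟩ := SetLike.not_le_iff_exists.1 h1
  rw [mem_Q'] at he'
  have := sn (σ := σ) he'
  obtain ⟨e1, e2, e3⟩ := inv_J hm.2.1 (a1_of_comm (hm.2.2 _ (h.V_le (by msimp; usimp))))
  have k1 := congrArg U.b4 (hm.2.2 e he)
  have k2 := congrArg U.a3 (hm.2.2 e he)
  usimp at k1 k2; zs [e1, e2, e3] at k1
  have e4 : m.c8 = 0 := by grind
  obtain ⟨e5, e6, e7⟩ := inv_JQ hm.2.1 ⟨e1, e2, e3, e4⟩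
  zs [e1, e2, e3, e4, e5, e6] at k2
  exact ⟨e1, e2, e5, e6, by grind, e3, e4⟩

/-- `mem3` with `Om E < Y₁ = Om2 E (Om E)`: `V ≤ Y₁`, `y ∈ Y₁` has `y² ∈ W`, so `b8 = 0` and `[x5 t, y] ∈ Z`. -/
theorem Cx.Z3_le' (h : Cx ⊤ E A) (h1 : ¬ E ≤ Q') : sZ3 ≤ E := fun z hz =>
  h.mem3 trivial h.iv_Om (h.iv_Om2 Om_conj h.iv_Om) (fun y _ k => comm_RW (W_le_R (Z3_le_W hz)) (h.Om_le_W h1 k))
    (fun y _ k => h.Z_le (brk_Z3F8 hz (sq_b8 (h.Om_le_W h1 k.2.1).2.2.2.2.2.2)))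
    (fun v hv => ⟨h.V_le hv, sq_W (V_le_W hv) ▸ one_mem _, fun y _ => h.Z_le (brk_V hv y)⟩) h.V_le fun y _ => brk_Z3 hz y

/-- Proof. `U₅ V₄ ≤ Om E` (`mem1`). `Y₁ = Om2 E (Om E) ≥ Z₃`; `y ∈ Y₁` has `c8 = 0` (`b4` of `y²` is `σa1 c8`, `b4` of `[y, e]`, `e.a1 ≠ 0`). `W ≤ E` by `mem3` (`Om_le_W`, `[W, Q] ≤ Z`, `[W, T₅] ≤ Z₃`).
There is `g ∈ E` with `a1 c8 ≠ 0`. `X = {u | u² = 1, (k u)⁴ = k⁴ for all k ∈ E}` is invariant, and `X ⊓ E = W`: for `k ∈ T₅`, `(k⁴).a5 = a1 σa1 c8²`, so `u ∈ X` has `a1 = c8 = 0` (`a1 c8 = 0` for involutions);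
`inv_JQ`; if `a7 ≠ 0` (`c2 = 0`) the `c4` of `(g u)⁴` and `g⁴` differ by `a1 σa1 c8 a7`; conversely `(k w)⁴ = k⁴` for `w ∈ W`, `k ∈ T₅` (compute `k²` first: it lies in `J ⊓ Q`).
`Z = {[w, k²]}` (`iv_brk`, `iv_sqs`; `g² ∈ Q ∖ R`, `exists_comm_W`). -/
theorem Cx.iv_Z_of_T5 (h : Cx ⊤ E A) (h1 : ¬ E ≤ Q') (h2 : ¬ E ≤ Q) (h3 : E ≤ sT5) : Ivs E A sZ := by
  have := T.char
  obtain ⟨e, he, he'⟩ := SetLike.not_le_iff_exists.1 h1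
  obtain ⟨f, hf, hf'⟩ := SetLike.not_le_iff_exists.1 h2
  rw [mem_Q'] at he'
  have hf8 : f.c8 ≠ 0 := fun k => hf' ⟨(h3 hf).2, k⟩
  have hW : sW ≤ E := fun w hw => by
    refine h.mem3 trivial h.iv_Om (h.iv_Om2 Om_conj h.iv_Om) (fun y _ k => comm_RW (W_le_R hw) (h.Om_le_W h1 k))
      (fun y hy k => h.Z_le (brk_symm (brk_QW ⟨(h3 hy).2, ?_⟩ hw)))
      (fun z hz => ⟨h.Z3_le' h1 hz, sq_W (Z3_le_W hz) ▸ one_mem _, fun y hy => h.Z_le (brk_Z3F8 hz (h3 hy).2)⟩)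
      (h.Z3_le' h1) fun y hy => brk_WF8 hw (h3 hy).2
    have k1 := (h.Om_le_W h1 k.2.1).2.2.1
    have k2 := (comm_mem_sW.1 (h.Om_le_W h1 (k.2.2 e he))).2.2.1
    have := sn (σ := σ) he'
    usimp at k1 k2; zs [(h3 hy).1, (h3 hy).2, (h3 he).1, (h3 he).2] at k1 k2
    by_contra h8
    have : σ y.a1 = 0 := by grind
    grind
  obtain ⟨g, hg, g1, g8⟩ : ∃ g ∈ E, g.a1 ≠ 0 ∧ g.c8 ≠ 0 := by
    by_cases k1 : e.c8 = 0; swap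
    · exact ⟨e, he, he', k1⟩
    by_cases k2 : f.a1 = 0; swap
    · exact ⟨f, hf, k2, hf8⟩
    exact ⟨e * f, mul_mem he hf, by usimp; grind, by usimp; zs [(h3 he).2]; grind⟩
  have g2 := sn (σ := σ) g1
  have iW : Ivs E A sW := (h.iv_inv.inter h.iv_pow4).congr (fun u hu => ⟨fun k => ?_, fun k => ⟨sq_W k, fun x hx => ?_⟩⟩) h.toAu
  · refine (h.iv_brk iW (h.iv_sqs h.iv_self)).congr (fun z hz => ⟨?_, fun k => ?_⟩) h.toAu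
    · rintro ⟨w, -, hw, _, -, ⟨x, hx, -, rfl⟩, rfl⟩
      exact brk_symm (brk_QW (sq_T5 (h3 hx)).2.2 hw)
    · obtain ⟨w, hw, rfl⟩ := exists_comm_W (e := g * g) (sq_T5 (h3 hg)).2.2 (fun k => by
        have k1 := k.2.2.1
        usimp at k1; zs [(h3 hg).2] at k1; grind) k
      exact ⟨w, hW hw, hw, _, mul_mem hg hg, ⟨g, hg, hg, rfl⟩, rfl⟩
  · have k0 := inv_c8 k.1
    have k1 := k.2 g hg
    rw [pow4 (h3 (mul_mem hg hu)), pow4 (h3 hg)] at k1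
    obtain ⟨u1, u2⟩ := h3 hu
    obtain ⟨g3, g4⟩ := h3 hg
    have k2 := congrArg U.a5 k1
    have k3 := congrArg U.c4 k1
    have k4 : (g * u).c8 = g.c8 + u.c8 := by usimp; zs [u2]
    simp only [k4, mul_a1] at k2
    have u3 : u.a1 = 0 := by
      by_contra u3
      have u4 : u.c8 = 0 := by grind
      rw [u4, add_zero, mul_left_inj' (pow_ne_zero 2 g8)] at k2
      have := Tits.norm_inj σ k2
      grind
    have u4 : u.c8 = 0 := by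
      rw [u3, add_zero, mul_right_inj' (mul_ne_zero g1 g2)] at k2
      have : u.c8 ^ 2 = 0 := by grind
      simpa using this
    obtain ⟨u5, u6, u7⟩ := inv_JQ k.1 ⟨u3, u1, u2, u4⟩
    usimp at k3; zs [u1, u2, u3, u4, u5, u6, g3, g4] at k3
    exact ⟨u3, u1, u5, u6, by grind, u2, u4⟩
  · rw [pow4 (h3 (mul_mem hx hu)), pow4 (h3 hx)]
    obtain ⟨e1, e2, e3, e4, e5, e6, e7⟩ := k
    usimp; zs [e1, e2, e3, e4, e5, e6, e7]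

/-- Proof. If `Om E ≤ Z` then `Z = Om E`. If `E ≤ Q`: `W ≤ E` (`mem2`, `B = Om E`), `iv_Z_of_W`. Else `y ∈ Om E ∖ Z`, `y ∈ W`: `c2 = 0`, `a3 = 0` (else `E ≤ Q`), `a5 ≠ 0` (else `E ≤ Q'`).
Conjugate by `s = y8 (c6 / a5) 0` (`Cx.transport`): `c6 = 0`, `E ≤ T₅`, `iv_Z_of_T5`; pull the invariance back (`s` centralises `Z`). -/
theorem Cx.iv_Z (h : Cx ⊤ E A) (h1 : ¬ E ≤ Q') : Ivs E A sZ := by
  have := T.char
  by_cases h0 : Om E ≤ sZ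
  · exact h.iv_Om.congr (fun y _ => ⟨fun k => h0 k, fun k => h.Z_le k⟩) h.toAu
  by_cases h2 : E ≤ Q
  · exact h.iv_Z_of_W le_top (fun w hw => h.mem2 trivial h.iv_Om (fun y _ k => comm_RW (W_le_R hw) (h.Om_le_W h1 k)) h.Z_le
      (fun z hz => (h.Z_le hz).1) fun y hy => brk_symm (brk_QW (h2 hy) hw)) h2
  obtain ⟨y, hy, hy'⟩ := SetLike.not_le_iff_exists.1 h0
  obtain ⟨e, he, he'⟩ := SetLike.not_le_iff_exists.1 h1
  obtain ⟨f, hf, hf'⟩ := SetLike.not_le_iff_exists.1 h2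
  rw [mem_Q'] at he'
  obtain ⟨e1, e2, e3, e4, e5, e6, e7, e8, e9⟩ := Z3_of_brk (h.Om_le_W h1 hy) hf'
    (commutatorElement_eq_one_iff_mul_comm.2 (hy.2.2 f hf) ▸ one_mem _)
  have h5 : y.a5 ≠ 0 := fun h5 => by
    have k := congrArg U.c4 (hy.2.2 e he)
    usimp at k; zs [e1, e2, e3, e4, e5, e6, e7, e8, e9, h5] at k
    exact hy' ⟨e1, e2, e3, e4, e5, h5, e6, by grind, e7, e8, e9⟩
  have i := isoOn_cj (P := ⊤) (y8 (y.c6 / y.a5) 0 : U σ)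
  refine iv_of_cj ((h.transport i).iv_Z_of_T5 (not_img_le _ h1) (not_img_le _ h2) fun x hx => ?_)
  have k := (mem_Om_img i le_top hy).2.2 x hx
  obtain ⟨c, hc⟩ : ∃ c, cj (y8 (y.c6 / y.a5) 0 : U σ) y = ⟨0, 0, 0, 0, 0, c, y.a5, 0, 0, 0, 0, 0⟩ :=
    ⟨y.c4, by simp only [cj]; usimp; zs [e1, e2, e3, e4, e5, e6, e7, e8, e9]; grind⟩
  rw [hc] at k
  have k1 := congrArg U.c4 k
  have k2 := congrArg U.c6 k
  usimp at k1 k2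
  have h8 : x.b8 = 0 := by grind
  zs [h8] at k1
  exact ⟨by grind, h8⟩

/-- Proof. Suppose not. `e₁ ∈ E` with `a1 ≠ 0`, `e₈ ∈ E ∖ Q`. (0) `y ∈ E`, `y² ∈ Z`, `[y, E] ≤ Z` imply `y ∈ J ⊓ Q`, `b4 = b6 = 0`, `σ(e₁.a1) y.a7 = y.c2 e₁.b8` (`b8 = 0`; `a1 ≠ 0` would give `c8 = 0`, `e₈.b8 = 0`, and
`b6` of `[y, e₈]` is `y.a1 e₈.c8`). (1) `{y | y² = 1, [y, E] ≤ Z} ⊇ V` is invariant, so it has `y ∈ E ∖ V`: `a7 = 0`, `c2 = 0`, `a3 = 0` (else `E ≤ Q`), so `a5 ≠ 0` and `E ≤ F₈`. (2) Now `{y | y² ∈ Z, [y, E] ≤ Z} ⊓ E = Z₃`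
(`Z3_le'`). (3) `W ≤ E` (`mem2`, `[W, F₈] ≤ Z₃`); `W = {g | g² = 1, [g, E] ≤ Z₃}` in `E` (`a1 = 0` by `b4` of `[g, e₈]`; `c8 = 0`; `inv_JQ`; `a3` of `[g, e₁]`). (4) `J ⊓ Q ≤ E` by `mem3` with `Z < W`
(`[J ⊓ Q, F₈] ≤ W`); `R = C_E(W)`, `J ⊓ Q = {g ∈ C_E(Z₃) | [g, E] ≤ W}` are invariant, so is `X = {g ∈ J ⊓ Q | g² ∈ Z} = R ∪ A₇`, and `V = {[r, x] z | r ∈ R, x ∈ X, z ∈ Z}` (`[y4 b 0, x7 1]`). -/
theorem Cx.iv_V (h : Cx ⊤ E A) (h1 : ¬ E ≤ Q') (h2 : ¬ E ≤ Q) : Ivs E A sV := by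
  have := T.char
  by_contra hV
  have hZ := h.iv_Z h1
  have lZ : sZ ≤ E := fun z hz => (h.Z_le hz).1
  obtain ⟨e, he, he'⟩ := SetLike.not_le_iff_exists.1 h1
  obtain ⟨f, hf, hf'⟩ := SetLike.not_le_iff_exists.1 h2
  rw [mem_Q'] at he'
  have he2 := sn (σ := σ) he'
  have s0 : ∀ y : U σ, y * y ∈ sZ → (∀ x ∈ E, ⁅y, x⁆ ∈ sZ) →
      y ∈ sJQ ∧ y.b4 = 0 ∧ y.b6 = 0 ∧ σ e.a1 * y.a7 = y.c2 * e.b8 := fun y k k' => by
    have h8 := sq_b8 k.2.2.2.2.2.2.2.2.2.2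
    obtain ⟨-, -, k1, -, k2, k3, -⟩ := k
    obtain ⟨-, l1, -, -, -, -, l2, -⟩ := comm_mem_sZ.1 (k' f hf)
    obtain ⟨-, -, m1, m2, m3, -⟩ := comm_mem_sZ.1 (k' e he)
    usimp at k1 k2 k3 l1 l2 m1 m2 m3
    zs [h8] at k2 l1 l2
    have y1 : y.a1 = 0 := by
      by_contra y1
      have := sn (σ := σ) y1
      have y8 : y.c8 = 0 := by grind
      have f8 : f.b8 = 0 := by grind
      zs [y8, f8] at l2
      exact hf' ⟨f8, by grind⟩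
    zs [y1] at k1
    have y2 : y.b2 = 0 := nz (σ := σ) (by grind)
    zs [h8, y1, y2] at m3
    have y8 : y.c8 = 0 := by grind
    zs [h8, y1, y2, y8] at k3 m1 m2
    have y4 : y.b4 = 0 := by grind
    have y6 : y.b6 = 0 := by grind
    zs [y4, y6] at m2
    exact ⟨⟨y1, y2, h8, y8⟩, y4, y6, by grind⟩
  have hF : ∀ x ∈ E, x.b8 = 0 := fun x hx => by
    by_contra h8
    refine hV ((h.iv_inv.inter (h.iv_comm h.iv_self hZ)).congr (fun y hy => ⟨fun k => ?_,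
      fun k => ⟨sq_W (V_le_W k), fun x _ _ => brk_V k x⟩⟩) h.toAu)
    obtain ⟨⟨y1, y2, y3, y4⟩, y5, y6, y7⟩ := s0 y (k.1 ▸ one_mem _) fun x hx => k.2 x hx hx
    have y8 := (inv_JQ k.1 ⟨y1, y2, y3, y4⟩).2.2
    obtain ⟨-, -, y9, y10, -, -, y11, -⟩ := Z3_of_brk ⟨y1, y2, y5, y6, by grind, y3, y4⟩ hf' (k.2 f hf hf)
    obtain ⟨-, -, -, -, -, -, -, k1, -⟩ := comm_mem_sZ.1 (k.2 x hx hx)
    usimp at k1; zs [y1, y2, y3, y4, y5, y6, y9, y10, y11] at k1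
    exact ⟨y1, y2, y9, y10, y5, by grind, y6, y11, y3, y4⟩
  have l3 := h.Z3_le' h1
  have h3 : Ivs E A sZ3 := (h.iv_Om2 (fun y _ b hb => Normal.conj_mem inferInstance b hb y) hZ).congr (fun y hy => ⟨fun k => by
    obtain ⟨⟨y1, y2, y3, y4⟩, y5, y6, y7⟩ := s0 y k.2.1 k.2.2
    rw [hF e he] at y7
    exact Z3_of_brk ⟨y1, y2, y5, y6, by grind, y3, y4⟩ hf' (k.2.2 f hf),
    fun k => ⟨hy, sq_W (Z3_le_W k) ▸ one_mem _, fun x hx => brk_Z3F8 k (hF x hx)⟩⟩) h.toAu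
  have lW : sW ≤ E := fun w hw => h.mem2 trivial h3 (fun y _ k => comm_RW (W_le_R hw) (Z3_le_W k)) le_rfl l3
    fun y hy => brk_WF8 hw (hF y hy)
  have f8 : f.c8 ≠ 0 := fun k => hf' ⟨hF f hf, k⟩
  have hW : Ivs E A sW := (h.iv_inv.inter (h.iv_comm h.iv_self h3)).congr (fun y hy => ⟨fun k => by
    have k0 := inv_c8 k.1
    obtain ⟨-, -, -, -, l1, -⟩ := comm_mem_sZ3.1 (k.2 f hf hf)
    obtain ⟨-, -, -, m1, m2, -⟩ := comm_mem_sZ3.1 (k.2 e he he)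
    usimp at l1 m1 m2; zs [hF y hy, hF f hf, hF e he] at l1 m1 m2
    have y1 : y.a1 = 0 := by
      by_contra y1
      have := sn (σ := σ) y1
      grind
    obtain ⟨-, y2, y3⟩ := inv_J k.1 y1
    zs [y1] at m2
    have y4 : y.c8 = 0 := by grind
    obtain ⟨y5, y6, -⟩ := inv_JQ k.1 ⟨y1, y2, y3, y4⟩
    zs [y1, y2, y4, y5, y6] at m1
    exact ⟨y1, y2, y5, y6, by grind, y3, y4⟩, fun k => ⟨sq_W k, fun x hx _ => brk_WF8 k (hF x hx)⟩⟩) h.toAu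
  have lJ : sJQ ≤ E := fun g hg => h.mem3 trivial hZ hW (fun y _ k => (comm_Z' k g).symm) (fun y _ k => brk_QW hg.2.2 k)
    le_rfl lW fun y hy => brk_JQF8 hg (hF y hy)
  have hR : Ivs E A sR := (h.iv_cent hW).congr (fun y hy => ⟨fun k => mem_R_of_comm (fun w hw => k w (lW hw) hw) ⟨hF y hy, by
    have hw : (y2 0 1 : U σ) ∈ sW := by msimp; usimp
    have k1 := congrArg U.a5 (k _ (lW hw) hw)
    usimp at k1; zs [hF y hy] at k1; grind⟩, fun k x _ hx => comm_RW k hx⟩) h.toAu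
  have hJ : Ivs E A sJQ := ((h.iv_cent h3).inter (h.iv_comm h.iv_self hW)).congr (fun y hy => ⟨fun k => by
    have h5 : (x5 1 : U σ) ∈ sZ3 := by msimp; usimp
    have h6 : (y6 0 1 : U σ) ∈ sZ3 := by msimp; usimp
    obtain ⟨y1, y2, y3⟩ := mem_J_of_comm (a1_of_comm (k.1 _ (l3 h6) h6)) h5 one_ne_zero (k.1 _ (l3 h5) h5)
    obtain ⟨-, -, m2, -⟩ := comm_mem_sW.1 (k.2 e he he)
    usimp at m2; zs [y1, y2, y3] at m2
    exact ⟨y1, y2, y3, by grind⟩,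
    fun k => ⟨fun x _ hx => (comm_Z3J hx ⟨k.1, k.2.1, k.2.2.1⟩).symm, fun x hx _ => brk_JQF8 k (hF x hx)⟩⟩) h.toAu
  refine hV ((h.iv_mul (h.iv_brk hR (hJ.inter (h.iv_sq hZ))) hZ).congr (fun v hv => ⟨?_, fun k => ?_⟩) h.toAu)
  · rintro ⟨_, -, ⟨r, -, ⟨r1, r2, r3, r4, r5, r6⟩, x, -, ⟨⟨x1, x2, x3, x4⟩, k⟩, rfl⟩, z, -, hz, rfl⟩
    refine mul_mem ?_ (Z_le_V hz)
    have k' : x * x ∈ sZ := k
    rw [sq_JQ ⟨x1, x2, x3, x4⟩] at k'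
    obtain ⟨-, -, -, -, -, k1, -, k2, -⟩ := k'
    have x6 : x.b6 = 0 := by
      by_contra x6
      have := sn (σ := σ) x6
      grind
    msimp; usimp; zs [r1, r2, r3, r4, r5, r6, x1, x2, x3, x4, x6]; and_intros <;> grind
  · rw [sV_eq] at k
    obtain ⟨c, a, rfl⟩ := k
    have h4 : (y4 a 0 : U σ) ∈ sR := by msimp; usimp
    have h7 : (x7 1 : U σ) ∈ sJQ := by msimp; usimp
    have h0 : (y4 0 c : U σ) ∈ sZ := by msimp; usimp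
    refine ⟨y6 0 a, h.V_le (by msimp; usimp), ⟨_, lJ ⟨rfl, rfl, rfl, rfl⟩, h4, _, lJ h7, ⟨h7, ?_⟩,
      (comm_eq (by usimp; grind)).symm⟩, _, lZ h0, h0, by vsimp⟩
    show x7 1 * x7 1 ∈ sZ
    msimp; usimp; grind

end CL.RF4
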