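/-
S5262: invariant flags in `Q'` and `Q`. See the table of commutators in `EsA`.
-/
import Cfsg.Agent.FUS.RF4.EsA
import Cfsg.Agent.FUS.RF4.EsC

set_option autoImplicit false
set_option linter.unusedSimpArgs false
set_option linter.unusedSectionVars false
set_option linter.unusedTactic false
set_option linter.unreachableTactic false
set_option linter.unnecessarySeqFocus false
set_option linter.unusedVariables false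

namespace CL.RF4

open CL.Fus CL.RF CL.RF.U Subgroup
open scoped commutatorElement

variable {K : Type*} [Field K] [Finite K] {σ : K →+* K} [T : Tits σ] {P E : Subgroup (U σ)} {A : Set (U σ → U σ)} {g : U σ}

theorem mem_Z3_of_brk (hg : g ∈ Q') (h : ∀ k : U σ, k ∈ Q' → ⁅g, k⁆ ∈ sV) : g ∈ sZ3 := by
  have := T.char
  have e1 := mem_Q'.1 hg
  have k1 := (comm_mem_sV.1 (h (y8 0 1) rfl)).2.2.2.2.2.2.2.1
  have k2 := (comm_mem_sV.1 (h (y2 0 1) rfl)).2.2.2.1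
  usimp at k1 k2; zs [e1] at k1 k2
  obtain ⟨-, e2, e3, e4, e5, e6, e7⟩ := mem_W2_of_brk (g := g) ⟨e1, by grind, by grind⟩ fun k hk => h k hk.1
  have k3 := (comm_mem_sV.1 (h (y8 1 0) rfl)).2.2.2.2.2.1
  have k4 := (comm_mem_sV.1 (h (y2 1 0) rfl)).2.2.2.2.2.1
  usimp at k3 k4; zs [e1, e2, e3, e4, e5, e6, e7] at k3 k4
  exact ⟨e1, e2, e3, by grind, e4, e5, by grind, e6, e7⟩

theorem x5_Z3 (t : K) : (x5 t : U σ) ∈ sZ3 := by msimp; usimp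
theorem x3_Z4 (t : K) : (x3 t : U σ) ∈ sZ4 := by msimp; usimp
theorem x7_A7 (t : K) : (x7 t : U σ) ∈ sA7 := by msimp; usimp
theorem x7_W2 (t : K) : (x7 t : U σ) ∈ sW2 := by msimp; usimp
theorem v6_V (t : K) : (y6 0 t : U σ) ∈ sV := by msimp; usimp

theorem A67_of_brk {y : U σ} (hy : y ∈ sA7) (h7 : y.a7 ≠ 0) (hg : g ∈ Q) (h : ⁅y, g⁆ ∈ sZ) : g ∈ sA67 := by
  have := T.char
  obtain ⟨f1, f2, f3, f4, f5, f6⟩ := hy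
  obtain ⟨e1, e2⟩ := hg
  obtain ⟨-, -, -, k2, -, k3, -, k4, -⟩ := comm_mem_sZ.1 h
  usimp at k2 k3 k4; zs [e1, e2, f1, f2, f3, f4, f5, f6] at k2 k3 k4
  have h1 : g.a1 = 0 := sz (σ := σ) (by grind)
  zs [h1] at k3 k4
  have h2 : g.b2 = 0 := sz (σ := σ) (by grind)
  exact ⟨h1, h2, by grind, e1, e2⟩

theorem A12_of_brk {y : U σ} (hy : y ∈ sA1) (ha : y.a1 ≠ 0) (hg : g ∈ Q) (h : ⁅y, g⁆ ∈ sZ) : g ∈ sA12 := by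
  have := T.char
  obtain ⟨f1, f2, f3, f4, f5, f6⟩ := hy
  obtain ⟨e1, e2⟩ := hg
  obtain ⟨-, -, k1, k2, -, k3, -⟩ := comm_mem_sZ.1 h
  usimp at k1 k2 k3; zs [e1, e2, f1, f2, f3, f4, f5, f6] at k1 k2 k3
  have h7 : g.a7 = 0 := sz (σ := σ) (by grind)
  have h6 : g.b6 = 0 := sz (σ := σ) (by grind)
  exact ⟨by grind, h6, h7, e1, e2⟩

theorem comm_A7Z4 {z : U σ} (hg : g ∈ sRA) (hz : z ∈ sZ4) : g * z = z * g := by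
  have := T.char
  obtain ⟨e1, e2, e3, e4, e5, e6, e7, e8⟩ := hz
  obtain ⟨f1, f2, f3, f4, f5⟩ := hg
  usimp; zs [e1, e2, e3, e4, e5, e6, e7, e8, f1, f2, f3, f4, f5]; and_intros <;> grind

theorem A7_le_RA : sA7 ≤ sRA (σ := σ) := fun g h => by msimp at h ⊢; tauto
theorem R_le_RA : sR ≤ sRA (σ := σ) := fun g h => by msimp at h ⊢; tauto
theorem A7_le_Q : sA7 ≤ Q (σ := σ) := fun _ h => h.2.2.2.2
theorem A1_le_Q : sA1 ≤ Q (σ := σ) := fun _ h => h.2.2.2.2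

theorem brk_A67 {y : U σ} (hg : g ∈ sA67) (hy : y ∈ sA7) : ⁅g, y⁆ ∈ sZ := by
  have := T.char
  obtain ⟨e1, e2, e3, e4, e5, e6⟩ := hy
  obtain ⟨f1, f2, f3, f4, f5⟩ := hg
  msimp; usimp; zs [e1, e2, e3, e4, e5, e6, f1, f2, f3, f4, f5]; and_intros <;> grind

/-- `V = C(Q')`, `Z₃ = {g | [g, Q'] ≤ V}`, `J = C(Z₃)`, `W'' = {g ∈ J | [g, J] ≤ V}` -/
theorem ivQ' (hA : Au E A) (h1 : Q' ≤ E) (hQ : Ivs E A Q') : Ivs E A sV ∧ Ivs E A sZ3 ∧ Ivs E A sJ ∧ Ivs E A sW2 := by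
  have hV : Ivs E A sV := (hA.iv_cent hQ).congr (fun y _ => ⟨fun k => sV_eq (σ := σ) ▸ mem_V_of_comm fun x hx => k x (h1 hx) hx,
    fun k x _ hx => comm_VQ' k hx⟩) hA
  have h3 : Ivs E A sZ3 := (hQ.inter (hA.iv_comm hQ hV)).congr (fun y _ => ⟨fun k => mem_Z3_of_brk k.1 fun x hx =>
    k.2 x (h1 hx) hx, fun k => ⟨k.1, fun x _ _ => brk_Z3 k x⟩⟩) hA
  have hJ : Ivs E A sJ := (hQ.inter (hA.iv_cent h3)).congr (fun y _ => ⟨fun k => mem_J_of_comm k.1 (x5_Z3 1) one_ne_zero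
    (k.2 _ (h1 rfl) (x5_Z3 1)), fun k => ⟨k.1, fun x _ hx => (comm_Z3J hx k).symm⟩⟩) hA
  exact ⟨hV, h3, hJ, (hJ.inter (hA.iv_comm hJ hV)).congr (fun y _ => ⟨fun k => mem_W2_of_brk k.1 fun x hx =>
    k.2 x (h1 hx.1) hx, fun k => ⟨W2_le_J k, fun x _ hx => brk_W2J k hx⟩⟩) hA⟩

/-- `sPh = {g ∈ Q' | [g, Z₃] ≤ Z}`, `Z₄ = {g ∈ W'' | [g, sPh] ≤ V}`, `J ⊓ Q = {g ∈ J | [g, Z₄] ≤ Z}`, `A₇ = {g ∈ J ⊓ C(Z₄) | [g, W''] ≤ Z}` -/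
theorem ivQ'Z (hA : Au E A) (h1 : Q' ≤ E) (hQ : Ivs E A Q') (hZ : Ivs E A sZ) :
    Ivs E A sPh ∧ Ivs E A sZ4 ∧ Ivs E A sJQ ∧ Ivs E A sA7 := by
  have := T.char
  obtain ⟨hV, h3, hJ, hW⟩ := ivQ' hA h1 hQ
  have hP : Ivs E A sPh := (hQ.inter (hA.iv_comm h3 hZ)).congr (fun y _ => ⟨fun k => ⟨k.1, by
    have k1 := (comm_mem_sZ.1 (k.2 _ (h1 rfl) (x5_Z3 1))).2.2.2.2.2.2.2.1
    usimp at k1; grind⟩, fun k => ⟨k.1, fun x _ hx => brk_symm (brk_Z3F8 hx k.2)⟩⟩) hA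
  have h4 : Ivs E A sZ4 := (hW.inter (hA.iv_comm hP hV)).congr (fun y _ => ⟨fun ⟨⟨e1, e2, e3, e4, e5, e6, e7⟩, k⟩ => by
    have k1 := (comm_mem_sV.1 (k (y2 1 0) (h1 rfl) ⟨rfl, rfl⟩)).2.2.2.2.2.1
    usimp at k1; zs [e1, e2, e3, e4, e5, e6, e7] at k1
    exact ⟨e1, e2, e3, e4, e5, by grind, e6, e7⟩, fun k => ⟨Z4_le_W2 k, fun x _ ⟨f1, f2⟩ => by
    obtain ⟨e1, e2, e3, e4, e5, e6, e7, e8⟩ := k
    msimp; usimp; zs [e1, e2, e3, e4, e5, e6, e7, e8, f1, f2]; and_intros <;> grind⟩⟩) hA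
  refine ⟨hP, h4, (hJ.inter (hA.iv_comm h4 hZ)).congr (fun y _ => ⟨fun ⟨⟨e1, e2, e3⟩, k⟩ => ?_,
    fun k => ⟨⟨k.1, k.2.1, k.2.2.1⟩, fun x _ hx => brk_QW k.2.2 (Z4_le_W hx)⟩⟩) hA,
    ((hJ.inter (hA.iv_cent h4)).inter (hA.iv_comm hW hZ)).congr (fun y _ => ⟨fun ⟨⟨⟨e1, e2, e3⟩, k⟩, k'⟩ => ?_,
    fun k => ⟨⟨⟨k.1, k.2.1, k.2.2.2.2.1⟩, fun x _ hx => comm_A7Z4 (A7_le_RA k) hx⟩, fun x _ hx => brk_A67
      ⟨k.1, k.2.1, k.2.2.1, k.2.2.2.2⟩ ⟨hx.1, hx.2.1, hx.2.2.2⟩⟩⟩) hA⟩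
  · have k1 := (comm_mem_sZ.1 (k _ (h1 rfl) (x3_Z4 1))).2.2.2.2.2.2.2.1
    usimp at k1; zs [e1, e2, e3] at k1
    exact ⟨e1, e2, e3, by grind⟩
  · have k1 := congrArg U.c6 (k _ (h1 rfl) (x3_Z4 1))
    have k2 := congrArg U.c4 (k _ (h1 rfl) (x3_Z4 1))
    have k3 := (comm_mem_sZ.1 (k' _ (h1 rfl) (x7_W2 1))).2.2.2.2.2.2.2.1
    usimp at k1 k2 k3; zs [e1, e2, e3] at k1 k2 k3
    exact ⟨e1, e2, by grind, by grind, e3, by grind⟩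

theorem brk_Z4 (s : U σ) (h : g ∈ sZ4) : ⁅s, g⁆ ∈ sZ3 := by
  have := T.char
  obtain ⟨e1, e2, e3, e4, e5, e6, e7, e8⟩ := h
  msimp; usimp; zs [e1, e2, e3, e4, e5, e6, e7, e8]; and_intros <;> grind

theorem brk_W2 (s : U σ) (h : g ∈ sW2) : ⁅s, g⁆ ∈ sZ4 := by
  have := T.char
  obtain ⟨e1, e2, e3, e4, e5, e6, e7⟩ := h
  msimp; usimp; zs [e1, e2, e3, e4, e5, e6, e7]; and_intros <;> grind

theorem brk_W (s : U σ) (h : g ∈ sW) : ⁅s, g⁆ ∈ sZ4 := by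
  have := T.char
  obtain ⟨e1, e2, e3, e4, e5, e6, e7⟩ := h
  msimp; usimp; zs [e1, e2, e3, e4, e5, e6, e7]; and_intros <;> grind

theorem brk_A7 (s : U σ) (h : g ∈ sA7) : ⁅s, g⁆ ∈ sW2 := by
  have := T.char
  obtain ⟨e1, e2, e3, e4, e5, e6⟩ := h
  msimp; usimp; zs [e1, e2, e3, e4, e5, e6]; and_intros <;> grind

theorem brk_R (s : U σ) (h : g ∈ sR) : ⁅s, g⁆ ∈ sW := by
  have := T.char
  obtain ⟨e1, e2, e3, e4, e5, e6⟩ := h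
  msimp; usimp; zs [e1, e2, e3, e4, e5, e6]; and_intros <;> grind

theorem brk_RA (s : U σ) (h : g ∈ sRA) : ⁅s, g⁆ ∈ sW := by
  have := T.char
  obtain ⟨e1, e2, e3, e4, e5⟩ := h
  msimp; usimp; zs [e1, e2, e3, e4, e5]; and_intros <;> grind

theorem brk_JQ (s : U σ) (h : g ∈ sJQ) : ⁅s, g⁆ ∈ sA7 := by
  have := T.char
  obtain ⟨e1, e2, e3, e4⟩ := h
  msimp; usimp; zs [e1, e2, e3, e4]; and_intros <;> grind

theorem brk_J (s : U σ) (h : g ∈ sJ) : ⁅s, g⁆ ∈ sJQ := by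
  have := T.char
  obtain ⟨e1, e2, e3⟩ := h
  msimp; usimp; zs [e1, e2, e3]; and_intros <;> grind

theorem brk_QQ' (s : U σ) (h : g ∈ sQQ) : ⁅s, g⁆ ∈ sJQ := by
  have := T.char
  obtain ⟨e1, e2, e3⟩ := h
  msimp; usimp; zs [e1, e2, e3]; and_intros <;> grind

theorem brk_Ph (s : U σ) (h : g ∈ sPh) : ⁅s, g⁆ ∈ sJ := by
  have := T.char
  obtain ⟨e1, e2⟩ := h
  msimp; usimp; zs [e1, e2]; and_intros <;> grind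

theorem brk_Q (s : U σ) (h : g ∈ Q) : ⁅s, g⁆ ∈ sQQ := by
  have := T.char
  obtain ⟨e1, e2⟩ := h
  msimp; usimp; zs [e1, e2]; and_intros <;> grind

theorem brk_top (s g : U σ) : ⁅s, g⁆ ∈ sPh := by
  have := T.char
  msimp; usimp; and_intros <;> grind

/-- the chain `1 < Z < V < Z₃ < Z₄ < W'' < A₇ < J ⊓ Q < J < sPh < Q' < S` -/
theorem flagQ' (hA : Au E A) (h1 : Q' ≤ E) (hQ : Ivs E A Q') (hZ : Ivs E A sZ) (s : U σ) : Ch E A s ⊥ ⊤ := by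
  obtain ⟨hV, h3, hJ, hW⟩ := ivQ' hA h1 hQ
  obtain ⟨hP, h4, hJQ, h7⟩ := ivQ'Z hA h1 hQ hZ
  exact ((((((((((Ch.base hA hZ fun y _ k => (comm_Z' k s).symm).step hZ hV fun y _ k => brk_symm (brk_V k s)).step hV h3
    fun y _ k => brk_symm (brk_Z3 k s)).step h3 h4 fun y _ k => brk_Z4 s k).step h4 hW fun y _ k => brk_W2 s k).step hW h7
    fun y _ k => brk_A7 s k).step h7 hJQ fun y _ k => brk_JQ s k).step hJQ hJ fun y _ k => brk_J s k).step hJ hP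
    fun y _ k => brk_Ph s k).step hP Iv.top fun y _ _ => brk_top s y)

/-- `Z = Z(Q)`, `W = {g | [g, Q] ≤ Z}`, `R = C_Q(W)` -/
theorem ivQ (hA : Au Q A) : Ivs Q A sZ ∧ Ivs Q A sW ∧ Ivs Q A sR := by
  have := T.char
  have hZ : Ivs Q A sZ := hA.iv_Zn.congr (fun y hy => ⟨fun k => sZ_eq (σ := σ) ▸ mem_Z_of_comm fun x h h' => k.2 x ⟨h, h'⟩,
    fun k => ⟨hy, fun x _ => comm_Z' k x⟩⟩) hA
  have hW : Ivs Q A sW := (hA.iv_comm hA.iv_self hZ).congr (fun y ⟨e1, e2⟩ => ⟨fun k => by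
    obtain ⟨-, -, k1, k2, -, k3, -, k4, -⟩ := comm_mem_sZ.1 (k (y4 1 0) ⟨rfl, rfl⟩ ⟨rfl, rfl⟩)
    obtain ⟨-, -, k5, -⟩ := comm_mem_sZ.1 (k (x1 1) ⟨rfl, rfl⟩ ⟨rfl, rfl⟩)
    usimp at k1 k2 k3 k4 k5; zs [e1, e2] at k1 k2 k3 k4 k5
    exact ⟨by grind, by grind, by grind, by grind, by grind, e1, e2⟩, fun k x hx _ => brk_symm (brk_QW hx k)⟩) hA
  exact ⟨hZ, hW, (hA.iv_cent hW).congr (fun y hy => ⟨fun k => mem_R_of_comm (fun w hw => k w (W_le_Q hw) hw) hy,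
    fun k x _ hx => comm_RW k hx⟩) hA⟩

/-- `Z₄ = C_W(A₇)`, `sA67 = {g | [g, A₇] ≤ Z}`, `Z₃ = C_W(sA67)`, `J ⊓ Q = C_Q(Z₃)`, `V = [R, A₇] Z`, `Q ⊓ Q' = C_Q(V)`, `sRA = R A₇` -/
theorem ivQ7 (hA : Au Q A) (h7 : Ivs Q A sA7) :
    Ivs Q A sV ∧ Ivs Q A sZ3 ∧ Ivs Q A sZ4 ∧ Ivs Q A sRA ∧ Ivs Q A sA67 ∧ Ivs Q A sJQ ∧ Ivs Q A sQQ := by
  have := T.char
  obtain ⟨hZ, hW, hR⟩ := ivQ hA
  have c2 : ∀ w : U σ, w ∈ sW → w * x7 1 = x7 1 * w → w ∈ sZ4 := fun w ⟨e1, e2, e3, e4, e5, e6, e7⟩ k => by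
    have k1 := congrArg U.c4 k
    usimp at k1; zs [e1, e2, e3, e4, e5, e6, e7] at k1
    exact ⟨e1, e2, by grind, e3, e4, e5, e6, e7⟩
  have h4 : Ivs Q A sZ4 := (hW.inter (hA.iv_cent h7)).congr (fun y _ => ⟨fun k => c2 y k.1 (k.2 _ ⟨rfl, rfl⟩ (x7_A7 1)),
    fun k => ⟨Z4_le_W k, fun x _ hx => (comm_A7Z4 (A7_le_RA hx) k).symm⟩⟩) hA
  have h6 : Ivs Q A sA67 := (hA.iv_comm h7 hZ).congr (fun y hy => ⟨fun k => A67_of_brk (x7_A7 1) one_ne_zero hy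
    (brk_symm (k _ ⟨rfl, rfl⟩ (x7_A7 1))), fun k x _ hx => brk_A67 k hx⟩) hA
  have h3 : Ivs Q A sZ3 := (h4.inter (hA.iv_cent h6)).congr (fun y _ => ⟨fun ⟨⟨e1, e2, e3, e4, e5, e6, e7, e8⟩, k⟩ => by
    have k1 := congrArg U.c4 (k (y6 1 0) ⟨rfl, rfl⟩ ⟨rfl, rfl, rfl, rfl, rfl⟩)
    usimp at k1; zs [e1, e2, e3, e4, e5, e6, e7, e8] at k1
    exact ⟨e1, e2, e3, by grind, e4, e5, e6, e7, e8⟩,
    fun k => ⟨Z3_le_Z4 k, fun x _ hx => comm_Z3J k ⟨hx.1, hx.2.1, hx.2.2.2.1⟩⟩⟩) hA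
  have hV : Ivs Q A sV := (hA.iv_mul (hA.iv_brk hR h7) hZ).congr (fun v hv => ⟨by
    rintro ⟨_, -, ⟨r, -, ⟨r1, r2, r3, r4, r5, r6⟩, x, -, ⟨x1, x2, x3, x4, x5, x6⟩, rfl⟩, z, -, hz, rfl⟩
    refine mul_mem ?_ (Z_le_V hz)
    msimp; usimp; zs [r1, r2, r3, r4, r5, r6, x1, x2, x3, x4, x5, x6]; and_intros <;> grind, fun k => by
    rw [sV_eq] at k
    obtain ⟨c, a, rfl⟩ := k
    exact ⟨y6 0 a, ⟨rfl, rfl⟩, ⟨y4 a 0, ⟨rfl, rfl⟩, by msimp; usimp, _, ⟨rfl, rfl⟩, x7_A7 1,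
      (comm_eq (by usimp; grind)).symm⟩, y4 0 c, ⟨rfl, rfl⟩, by msimp; usimp, by vsimp⟩⟩) hA
  refine ⟨hV, h3, h4, (hA.iv_mul hR h7).congr (fun y _ => ⟨?_, fun ⟨e1, e2, e3, e4, e5⟩ => ?_⟩) hA, h6,
    (hA.iv_cent h3).congr (fun y hy => ⟨fun k => ?_, fun k x _ hx => (comm_Z3J hx ⟨k.1, k.2.1, k.2.2.1⟩).symm⟩) hA,
    (hA.iv_cent hV).congr (fun y hy => ⟨fun k => ⟨a1_of_comm (k _ ⟨rfl, rfl⟩ (v6_V 1)), hy⟩,
      fun k x _ hx => (comm_VQ' hx k.1).symm⟩) hA⟩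
  · rintro ⟨r, -, hr, x, -, hx, rfl⟩
    exact mul_mem (R_le_RA hr) (A7_le_RA hx)
  · have hr : y * (x7 y.a7)⁻¹ ∈ sR := by msimp; usimp; zs [e1, e2, e3, e4, e5]; grind
    exact ⟨_, R_le_Q hr, hr, _, ⟨rfl, rfl⟩, x7_A7 y.a7, by simp⟩
  · obtain ⟨y1, y2, y3⟩ := mem_J_of_comm (a1_of_comm (k _ ⟨rfl, rfl⟩ (V_le_Z3 (v6_V 1)))) (x5_Z3 1) one_ne_zero
      (k _ ⟨rfl, rfl⟩ (x5_Z3 1))
    exact ⟨y1, y2, hy⟩

/-- the chain `1 < Z < V < Z₃ < Z₄ < W < R < R U₇ < J ⊓ Q < Q ⊓ Q' < S` -/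
theorem flagQ (hA : Au Q A) (h7 : Ivs Q A sA7) (s : U σ) : Ch Q A s ⊥ ⊤ := by
  obtain ⟨hZ, hW, hR⟩ := ivQ hA
  obtain ⟨hV, h3, h4, hRA, -, hJQ, hQQ⟩ := ivQ7 hA h7
  exact (((((((((Ch.base hA hZ fun y _ k => (comm_Z' k s).symm).step hZ hV fun y _ k => brk_symm (brk_V k s)).step hV h3
    fun y _ k => brk_symm (brk_Z3 k s)).step h3 h4 fun y _ k => brk_Z4 s k).step h4 hW fun y _ k => brk_W s k).step hW hRA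
    fun y _ k => brk_RA s k).step hRA hJQ fun y _ k => A7_le_RA (brk_JQ s k)).step hJQ hQQ fun y _ k => brk_QQ' s k).step hQQ
    Iv.top fun y hy _ => brk_Q s hy)

theorem au_pair {f f' : U σ → U σ} (h : IsoOn P P f f') : Au P {f, f'} :=
  ⟨by rintro _ (rfl | rfl); exacts [h.hom, h.hom'], by rintro _ (rfl | rfl); exacts [h.maps, h.maps'], by
    rintro _ (rfl | rfl)
    exacts [⟨f', Or.inr rfl, fun y hy => ⟨h.left y hy, h.right y hy⟩⟩, ⟨f, Or.inl rfl, fun y hy => ⟨h.right y hy, h.left y hy⟩⟩]⟩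

theorem mem_point {B : Subgroup (U σ)} (hB : B = sA1 ∨ B = sA7) {y : U σ} (h1 : y ∈ B) (h2 : y ∉ sW) :
    g ∈ B ↔ g ∈ Q ∧ g * g ∈ sZ ∧ ⁅y, g⁆ ∈ sZ := by
  have := T.char
  rcases hB with rfl | rfl
  · refine ⟨fun ⟨e1, e2, e3, e4, e5, e6⟩ => ⟨⟨e5, e6⟩, ?_, ?_⟩, fun ⟨k1, k2, k3⟩ => ?_⟩
    · msimp; usimp; zs [e1, e2, e3, e4, e5, e6]; and_intros <;> grind
    · obtain ⟨f1, f2, f3, f4, f5, f6⟩ := h1
      msimp; usimp; zs [e1, e2, e3, e4, e5, e6, f1, f2, f3, f4, f5, f6]; and_intros <;> grind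
    · obtain ⟨e1, e2, e3, e4, e5⟩ := A12_of_brk h1 (fun k => h2 ⟨k, h1⟩) k1 k3
      have k := k2.2.2.1
      usimp at k; zs [e1, e2, e3, e4, e5] at k
      exact ⟨nz (σ := σ) (by grind), e1, e2, e3, e4, e5⟩
  · refine ⟨fun k => ⟨A7_le_Q k, ?_, brk_A67 ⟨h1.1, h1.2.1, h1.2.2.1, h1.2.2.2.2⟩ k⟩, fun ⟨k1, k2, k3⟩ => ?_⟩
    · obtain ⟨e1, e2, e3, e4, e5, e6⟩ := k
      msimp; usimp; zs [e1, e2, e3, e4, e5, e6]; and_intros <;> grind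
    · obtain ⟨e1, e2, e3, e4, e5⟩ := A67_of_brk h1 (fun k => h2 ⟨h1.1, h1.2.1, h1.2.2.1, h1.2.2.2.1, k, h1.2.2.2.2⟩) k1 k3
      have k := k2.2.2.2.2.2.2.2.1
      usimp at k; zs [e1, e2, e3, e4, e5] at k
      exact ⟨e1, e2, e3, nz (σ := σ) (by grind), e4, e5⟩

/-- Points of the ovoid. For `y ∈ B ∖ W`, `B = A₁` or `A₇`: `B = {e ∈ Q | e² ∈ Z, [y, e] ∈ Z}` (`sq_Q` or directly); `ivQ (au_pair h)`. -/
theorem map_point {f f' : U σ → U σ} (h : IsoOn Q Q f f') {B B' : Subgroup (U σ)} (hB : B = sA1 ∨ B = sA7)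
    (hB' : B' = sA1 ∨ B' = sA7) {y : U σ} (h1 : y ∈ B) (h2 : y ∉ sW) (h3 : f y ∈ B') : ∀ x ∈ B, f x ∈ B' := fun x hx => by
  obtain ⟨hZ, hW, -⟩ := ivQ (au_pair h)
  have hy := ((mem_point hB h1 h2).1 h1).1
  obtain ⟨k1, k2, k3⟩ := (mem_point hB h1 h2).1 hx
  refine (mem_point hB' h3 fun k => h2 (h.left y hy ▸ hW f' (Or.inr rfl) _ (h.maps y hy) k)).2 ⟨h.maps x k1, ?_, ?_⟩
  · exact h.map_mul k1 k1 ▸ hZ f (Or.inl rfl) _ (mul_mem k1 k1) k2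
  · exact h.hom.map_commutator hy k1 ▸ hZ f (Or.inl rfl) _ (commutator_mem_of hy k1) k3

theorem brk_eq_vv {z : U σ} (hg : g ∈ Q') (hz : z ∈ sZ3) : ⁅g, z⁆ = vv (g.b2 * z.a5) (g.b8 * z.a5) := comm_eq (by
  have := T.char
  obtain ⟨e1, e2, e3, e4, e5, e6, e7, e8, e9⟩ := hz
  vsimp; zs [mem_Q'.1 hg, e1, e2, e3, e4, e5, e6, e7, e8, e9]; and_intros <;> grind)

/-- Lines of `V`. `f (x5 t) ∈ Z₃`, `k = f (y2 1 0) ∈ Q'`, `f (y4 0 t) = f [y2 1 0, x5 t] = vv (k.b2 τ) (k.b8 τ)` with `τ = (f (x5 t)).a5`; more generally every line `{vv (b t) (b' t)}` is `[g, Z₃]` for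
`g = y2 b 0 * y8 b' 0`. `τ` is an additive bijection in `t` (`ivQ'`). -/
theorem map_line {f f' : U σ → U σ} (h : IsoOn Q' Q' f f') : ∃ τ : K ≃+ K, ∀ b b' : K, ∃ c c' : K, ∀ t,
    f (vv (b * t) (b' * t)) = vv (c * τ t) (c' * τ t) := by
  obtain ⟨hV, h3, -⟩ := ivQ' (au_pair h) le_rfl (au_pair h).iv_self
  have h5 : ∀ t, f (x5 t) ∈ sZ3 := fun t => h3 f (Or.inl rfl) _ rfl (x5_Z3 t)
  let τ : K →+ K := AddMonoidHom.mk' (fun t => (f (x5 t)).a5) fun s t => by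
    obtain ⟨e1, e2, e3, e4, e5, e6, e7, e8, e9⟩ := h5 t
    rw [show (x5 (s + t) : U σ) = x5 s * x5 t by usimp, h.map_mul (x := x5 s) (y := x5 t) rfl rfl]
    usimp; zs [e1, e2, e3, e4, e5, e6, e7, e8, e9]
  have hτ : Function.Injective τ := (injective_iff_map_eq_zero τ).2 fun t k => by
    obtain ⟨e1, e2, e3, e4, e5, e6, e7, e8, e9⟩ := h5 t
    have := hV f' (Or.inr rfl) _ e1 ⟨e1, e2, e3, e4, e5, k, e6, e7, e8, e9⟩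
    rw [h.left (x5 t) rfl] at this
    exact this.2.2.2.2.2.1
  have hg : ∀ b b' : K, (y2 b 0 * y8 b' 0 : U σ) ∈ Q' := fun b b' => by msimp; usimp
  refine ⟨AddEquiv.ofBijective τ (Finite.injective_iff_bijective.1 hτ), fun b b' =>
    ⟨(f (y2 b 0 * y8 b' 0)).b2, (f (y2 b 0 * y8 b' 0)).b8, fun t => ?_⟩⟩
  have k := h.hom.map_commutator (hg b b') (y := x5 t) rfl
  rw [brk_eq_vv (hg b b') (x5_Z3 t), brk_eq_vv (h.maps _ (hg b b')) (h5 t)] at k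
  simpa [mul_b2, mul_b8, τ] using k

end CL.RF4
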