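/-
S5262: the automorphisms of `U σ`; standard position.
-/
import Cfsg.Agent.FUS.RF4.Dd
import Cfsg.Agent.FUS.RF4.Flag
import Cfsg.Agent.SOLV.Coprime
import Cfsg.Agent.FUS.Alperin
import Cfsg.Agent.INV.RF.N1a
import Cfsg.Agent.CLAS.FieldAut

set_option autoImplicit false
set_option linter.unusedSimpArgs false
set_option linter.unusedSectionVars false
set_option linter.unusedTactic false
set_option linter.unreachableTactic false
set_option linter.unnecessarySeqFocus false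
set_option linter.unusedVariables false

namespace CL.RF4

open CL.Fus CL.RF CL.RF.U Subgroup Cfsg Cfsg.FusionSystem
open scoped commutatorElement

variable {K : Type*} [Field K] [Finite K] {σ : K →+* K} [T : Tits σ] {F F' : FusionSystem (⊤ : Subgroup (U σ))}

/-- `f (a b) = g a * h b` for additive bijections: `ρ a = g a / g 1 = f a / f 1 = h a / h 1` -/
theorem exists_ringAut (f g h : K ≃+ K) (e : ∀ a b, f (a * b) = g a * h b) :
    ∃ ρ : RingAut K, ∀ a, f a = f 1 * ρ a ∧ g a = g 1 * ρ a ∧ h a = h 1 * ρ a := by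
  have f1 : f 1 ≠ 0 := by simp
  have g1 : g 1 ≠ 0 := by simp
  have h1 : h 1 ≠ 0 := by simp
  have e1 : ∀ a, f a = g a * h 1 := fun a => by rw [← e, mul_one]
  have e2 : ∀ a, f a = g 1 * h a := fun a => by rw [← e, one_mul]
  refine ⟨⟨⟨fun a => f a / f 1, fun b => f.symm (f 1 * b), fun a => ?_, fun a => ?_⟩, fun a b => ?_, fun a b => ?_⟩,
    fun a => ⟨?_, ?_, ?_⟩⟩
  · simp [mul_div_cancel₀ _ f1]
  · simp [mul_div_cancel_left₀ _ f1]
  · show f _ / _ = f a / f 1 * (f b / f 1); rw [e, e1 a, e2 b, e1 1]; field_simp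
  · show f _ / _ = _; rw [map_add, add_div]
  · show _ = _ * (f a / f 1); field_simp
  · show _ = _ * (f a / f 1); rw [e1 a, e1 1]; field_simp
  · show _ = _ * (f a / f 1); rw [e2 a, e1 1]; field_simp

/-- `|Kˣ|` is odd; every `ρ` is a power of the Frobenius map `σ²` (finite field), so `σ = (σ²)^k` has odd order and `RingAut K ≤ ⟨σ⟩`. -/
theorem odd_ringAut (σ : K →+* K) [Tits σ] : Odd (Nat.card (RingAut K)) := by
  obtain ⟨m, hm⟩ := Tits.exists_card σ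
  have := Fintype.ofFinite K
  rw [Nat.card_eq_fintype_card] at hm
  exact (CL.FieldAut.card_ringAut hm).symm ▸ odd_two_mul_add_one m

theorem dd_pow (t : Kˣ × Kˣ) (ρ : RingAut K) (n : ℕ) : ∃ t', (dd t ρ : MulAut (U σ)) ^ n = dd t' (ρ ^ n) := by
  induction n with
  | zero => exact ⟨1, by rw [pow_zero, pow_zero, dd_one, map_one]⟩
  | succ n ih => obtain ⟨t', e⟩ := ih; exact ⟨_, by rw [pow_succ, e, dd_mul, pow_succ]⟩

theorem odd_D0 : Odd (Nat.card (D0 σ)) := by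
  refine Nat.not_even_iff_odd.1 fun h => ?_
  obtain ⟨⟨_, hx'⟩, hx⟩ := exists_prime_orderOf_dvd_card' (G := D0 σ) 2 h.two_dvd
  rw [Subgroup.orderOf_mk] at hx
  obtain ⟨t, ρ, rfl⟩ := hx'
  obtain ⟨t', e⟩ := dd_pow (σ := σ) t ρ (Nat.card (RingAut K))
  have : orderOf (dd t ρ : MulAut (U σ)) ∣ Nat.card (RingAut K) * Nat.card (Kˣ × Kˣ) := orderOf_dvd_of_pow_eq_one (by
    rw [pow_mul, e, pow_card_eq_one', dd_one, ← map_pow, pow_card_eq_one', map_one])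
  rw [hx, Nat.card_prod] at this
  exact Nat.not_even_iff_odd.2 ((odd_ringAut σ).mul ((Tits.odd_units σ).mul (Tits.odd_units σ))) (even_iff_two_dvd.2 this)

/-- `Q' = C(V)`, `V = {g | [g, S] ≤ Z}`, `Z = Z(S)`, `Q = {g | [g, W] ≤ Z}` where `W = {g ∈ A₇ | [g, sPh] ≤ Z₃ ...}`, or simply: `Z₄`, `J ⊓ Q` invariant (`ivQ'Z`), `Q = {g | [g, Z₄] ≤ Z}`;
`F₈ = {g | [g, Z₃] ≤ Z}`. -/
theorem ivS {A : Set (U σ → U σ)} (hA : Au ⊤ A) : Ivs ⊤ A sZ ∧ Ivs ⊤ A Q' ∧ Ivs ⊤ A Q ∧ Ivs ⊤ A sF8 := by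
  have := T.char
  have hZ : Ivs ⊤ A sZ := hA.iv_Zn.congr (fun y hy => ⟨fun k => sZ_eq (σ := σ) ▸ mem_Z_of_comm fun x _ _ => k.2 x trivial,
    fun k => ⟨hy, fun x _ => comm_Z' k x⟩⟩) hA
  have hV : Ivs ⊤ A sV := (hA.iv_comm hA.iv_self hZ).congr (fun y _ => ⟨fun k => sV_eq (σ := σ) ▸ mem_V_iff.2 fun x =>
    sZ_eq (σ := σ) ▸ k x trivial trivial, fun k x _ _ => brk_V k x⟩) hA
  have hQ : Ivs ⊤ A Q' := (hA.iv_cent hV).congr (fun y _ => ⟨fun k => a1_of_comm (k _ trivial (v6_V 1)),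
    fun k x _ hx => (comm_VQ' hx k).symm⟩) hA
  have b8 : ∀ y : U σ, ⁅y, (x5 1 : U σ)⁆ ∈ sZ → y.b8 = 0 := fun y k => by
    have k1 := (comm_mem_sZ.1 k).2.2.2.2.2.2.2.1
    usimp at k1; grind
  refine ⟨hZ, hQ, (hA.iv_comm (ivQ'Z hA le_top hQ hZ).2.1 hZ).congr (fun y _ => ⟨fun k => ?_,
    fun k x _ hx => brk_QW k (Z4_le_W hx)⟩) hA, (hA.iv_comm (ivQ' hA le_top hQ).2.1 hZ).congr (fun y _ =>
    ⟨fun k => b8 y (k _ trivial (x5_Z3 1)), fun k x _ hx => brk_symm (brk_Z3F8 hx k)⟩) hA⟩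
  have h8 := b8 y (k _ trivial (Z3_le_Z4 (x5_Z3 1)))
  have k1 := (comm_mem_sZ.1 (k _ trivial (x3_Z4 1))).2.2.2.2.2.2.2.1
  usimp at k1; zs [h8] at k1
  exact ⟨h8, by grind⟩

/-- the additive bijection induced on a coordinate `φ : H / B ≃ K` -/
theorem exists_ind {P H B : Subgroup (U σ)} {f f' : U σ → U σ} (h : IsoOn P P f f') (hH : H ≤ P) (iH : Ivs P {f, f'} H)
    (iB : Ivs P {f, f'} B) (φ : U σ → K) (add : ∀ x ∈ H, ∀ y ∈ H, φ (x * y) = φ x + φ y) (ker : ∀ x ∈ H, x ∈ B ↔ φ x = 0)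
    (s : K → U σ) (hs : ∀ a, s a ∈ H ∧ φ (s a) = a) : ∃ τ : K ≃+ K, ∀ x ∈ H, φ (f x) = τ (φ x) := by
  have m : ∀ x ∈ H, f x ∈ H := fun x hx => iH f (Or.inl rfl) x (hH hx) hx
  have dv : ∀ x ∈ H, ∀ y ∈ H, x * y⁻¹ ∈ B ↔ φ x = φ y := fun x hx y hy => by
    have := add _ (mul_mem hx (inv_mem hy)) y hy
    rw [inv_mul_cancel_right] at this
    rw [ker _ (mul_mem hx (inv_mem hy)), this, add_eq_right]
  have key : ∀ x ∈ H, ∀ y ∈ H, φ x = φ y ↔ φ (f x) = φ (f y) := fun x hx y hy => by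
    have hp := mul_mem (hH hx) (inv_mem (hH hy))
    rw [← dv x hx y hy, ← dv _ (m x hx) _ (m y hy), ← h.map_inv (hH hy), ← h.map_mul (hH hx) (inv_mem (hH hy))]
    exact ⟨iB f (Or.inl rfl) _ hp, fun k => h.left _ hp ▸ iB f' (Or.inr rfl) _ (h.maps _ hp) k⟩
  let τ : K →+ K := AddMonoidHom.mk' (fun a => φ (f (s a))) fun a b => by
    rw [← add _ (m _ (hs a).1) _ (m _ (hs b).1), ← h.map_mul (hH (hs a).1) (hH (hs b).1),
      ← key _ (hs _).1 _ (mul_mem (hs a).1 (hs b).1), add _ (hs a).1 _ (hs b).1, (hs _).2, (hs _).2, (hs _).2]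
  have hτ : Function.Injective τ := fun a b k => by
    rw [← (hs a).2, ← (hs b).2]; exact (key _ (hs a).1 _ (hs b).1).2 k
  exact ⟨AddEquiv.ofBijective τ (Finite.injective_iff_bijective.1 hτ), fun x hx => (key x hx _ (hs _).1).1 (hs _).2.symm⟩

theorem isoOn_top (α : MulAut (U σ)) : IsoOn ⊤ ⊤ α α.symm :=
  ⟨fun _ _ _ _ => map_mul α _ _, fun _ _ => trivial, fun _ _ => trivial, fun x _ => α.symm_apply_apply x,
    fun x _ => α.apply_symm_apply x⟩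

theorem brk_b2 (g k : U σ) : ⁅g, k⁆.b2 = g.a1 * k.b8 + g.b8 * k.a1 := by
  have := T.char
  usimp; grind

/-- `Q'`, `F₈`, `sPh`, `J` are invariant: `α` induces additive bijections `α₁, α₈, α₂` on `a1`, `b8` and (on `sPh`) `b2` with `α₂ (a b) = α₁ a α₈ b` (`[x1 a, y8 b 0]`); `exists_ringAut`; `N1.tor_dt`. -/
theorem aut_form (α : MulAut (U σ)) : ∃ t ρ, ∀ g, (α g).a1 = (dd t ρ g).a1 ∧ (α g).b8 = (dd t ρ g).b8 := by
  have h := isoOn_top α
  have hA := au_pair h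
  obtain ⟨hZ, hQ, -, hF⟩ := ivS hA
  obtain ⟨f1, e1⟩ := exists_ind h le_rfl hA.iv_self hQ U.a1 (fun _ _ _ _ => rfl) (fun _ _ => Iff.rfl) x1 fun _ => ⟨trivial, rfl⟩
  obtain ⟨f8, e8⟩ := exists_ind h le_rfl hA.iv_self hF U.b8 (fun _ _ _ _ => rfl) (fun _ _ => Iff.rfl) (y8 · 0)
    fun _ => ⟨trivial, rfl⟩
  obtain ⟨f2, e2⟩ := exists_ind h le_top (ivQ'Z hA le_top hQ hZ).1 (ivQ' hA le_top hQ).2.2.1 U.b2
    (fun x hx y hy => by usimp; zs [hy.1]) (fun x hx => ⟨fun k => k.2.1, fun k => ⟨hx.1, k, hx.2⟩⟩) (y2 · 0)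
    fun _ => ⟨⟨rfl, rfl⟩, rfl⟩
  obtain ⟨ρ, k⟩ := exists_ringAut f2 f1 f8 fun a b => by
    have := e2 _ (brk_top (x1 a) (y8 b 0))
    rw [map_commutatorElement, brk_b2, brk_b2, e1 _ trivial, e1 _ trivial, e8 _ trivial, e8 _ trivial] at this
    simpa using this.symm
  refine ⟨N1.dt σ (Units.mk0 (f1 1) (by simp)) (Units.mk0 (f8 1) (by simp)), ρ, fun g => ?_⟩
  rw [dd, MulAut.mul_apply, N1.tor_dt, e1 _ trivial, e8 _ trivial, (k _).2.1, (k g.b8).2.2]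
  exact ⟨rfl, rfl⟩

/-- the automorphisms that are trivial on the two simple root groups -/
def K0 (σ : K →+* K) [Tits σ] : Subgroup (MulAut (U σ)) where
  carrier := {α | ∀ g, (α g).a1 = g.a1 ∧ (α g).b8 = g.b8}
  one_mem' _ := ⟨rfl, rfl⟩
  mul_mem' {a b} ha hb g := ⟨(ha (b g)).1.trans (hb g).1, (ha (b g)).2.trans (hb g).2⟩
  inv_mem' {a} ha g := by simpa [eq_comm] using ha (a⁻¹ g)

theorem pow_fix {G : Type*} [Group G] [Finite G] (hG : IsPGroup 2 G) {α : MulAut G} {B C : Subgroup G}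
    (hB : ∀ y ∈ B, α y ∈ B) (h : ∀ y ∈ C, α y * y⁻¹ ∈ B) (h' : ∃ n : ℕ, ∀ y ∈ B, (α ^ 2 ^ n) y = y) :
    ∃ n : ℕ, ∀ y ∈ C, (α ^ 2 ^ n) y = y := by
  obtain ⟨n, hn⟩ := h'
  obtain ⟨m, hm⟩ := hG.exists_card_eq
  refine ⟨n + m, fun y hy => ?_⟩
  have h1 : ∀ k : ℕ, (α ^ k) y * y⁻¹ ∈ B := fun k => by
    induction k with
    | zero => simp
    | succ k ih => simpa [pow_succ', mul_assoc] using mul_mem (hB _ ih) (h y hy)
  have h2 : ∀ k : ℕ, ((α ^ 2 ^ n) ^ k) y = ((α ^ 2 ^ n) y * y⁻¹) ^ k * y := fun k => by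
    induction k with
    | zero => simp
    | succ k ih => rw [pow_succ', MulAut.mul_apply, ih, map_mul, hn _ (pow_mem (h1 _) k), pow_succ, mul_assoc,
        inv_mul_cancel_right]
  rw [pow_add, pow_mul, h2, ← hm, pow_card_eq_one', one_mul]

section
variable {u v y : U σ}

theorem brk_mul (g k : U σ) : g * k = ⁅g, k⁆ * (k * g) := by simp only [commutatorElement_def]; group

theorem L1 (u1 : u.a1 = 1) (hy : y ∈ sV) : ⁅u, y⁆.c4 = y.c6 := by
  have := T.char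
  obtain ⟨e1, e2, e3, e4, e5, e6, e7, e8, e9, e10⟩ := hy
  have k := brk_symm (brk_V ⟨e1, e2, e3, e4, e5, e6, e7, e8, e9, e10⟩ u)
  have e := congrArg U.c4 (brk_mul u y)
  generalize ⁅u, y⁆ = c at k e
  obtain ⟨f1, f2, f3, f4, f5, f6, f7, f8, f9, f10, f11⟩ := k
  usimp at e; zs [u1, e1, e2, e3, e4, e5, e6, e7, e8, e9, e10, f1, f2, f3, f4, f5, f6, f7, f8, f9, f10, f11] at e; grind

theorem L2 (v8 : v.b8 = 1) (hy : y ∈ sZ3) : ⁅v, y⁆.c6 = y.a5 := by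
  have := T.char
  have k := brk_symm (brk_Z3 hy v)
  obtain ⟨e1, e2, e3, e4, e5, e6, e7, e8, e9⟩ := hy
  have e := congrArg U.c6 (brk_mul v y)
  generalize ⁅v, y⁆ = c at k e
  obtain ⟨f1, f2, f3, f4, f5, f6, f7, f8, f9, f10⟩ := k
  usimp at e; zs [v8, e1, e2, e3, e4, e5, e6, e7, e8, e9, f1, f2, f3, f4, f5, f6, f7, f8, f9, f10] at e; grind

theorem L3 (v8 : v.b8 = 1) (hy : y ∈ sZ4) : ⁅v, y⁆.a5 = y.a3 := by
  have := T.char
  have k := brk_Z4 v hy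
  obtain ⟨e1, e2, e3, e4, e5, e6, e7, e8⟩ := hy
  have e := congrArg U.a5 (brk_mul v y)
  generalize ⁅v, y⁆ = c at k e
  obtain ⟨f1, f2, f3, f4, f5, f6, f7, f8, f9⟩ := k
  usimp at e; zs [v8, map_one, e1, e2, e3, e4, e5, e6, e7, e8, f1, f2, f3, f4, f5, f6, f7, f8, f9] at e; grind

theorem L4 (u1 : u.a1 = 1) (hy : y ∈ sW2) : ⁅u, y⁆.a3 = y.a7 := by
  have := T.char
  obtain ⟨e1, e2, e3, e4, e5, e6, e7⟩ := hy
  usimp; zs [u1, map_one, e1, e2, e3, e4, e5, e6, e7]; grind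

theorem L5 (v1 : v.a1 = 0) (v8 : v.b8 = 1) (hy : y ∈ sA7) : ⁅v, y⁆ ∈ sZ4 ∧ ⁅v, y⁆.a3 = y.c2 := by
  have := T.char
  obtain ⟨e1, e2, e3, e4, e5, e6⟩ := hy
  msimp; usimp; zs [v1, v8, map_one, e1, e2, e3, e4, e5, e6]; and_intros <;> grind

theorem L6 (v1 : v.a1 = 0) (v8 : v.b8 = 1) (hy : y ∈ sJQ) : ⁅v, y⁆ ∈ sW2 ∧ ⁅v, y⁆.a7 = y.b6 := by
  have := T.char
  obtain ⟨e1, e2, e3, e4⟩ := hy
  msimp; usimp; zs [v1, v8, map_one, e1, e2, e3, e4]; and_intros <;> grind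

theorem L7 (u1 : u.a1 = 1) (hy : y ∈ sJQ) : ⁅u, y⁆.c2 = y.b4 + y.b6 := by
  have := T.char
  obtain ⟨e1, e2, e3, e4⟩ := hy
  usimp; zs [u1, map_one, e1, e2, e3, e4]; grind

theorem L8 (u1 : u.a1 = 1) (hy : y ∈ sJ) : ⁅u, y⁆.b6 = y.c8 := by
  have := T.char
  obtain ⟨e1, e2, e3⟩ := hy
  usimp; zs [u1, map_one, e1, e2, e3]; grind

theorem L9 (v1 : v.a1 = 0) (v8 : v.b8 = 1) (hy : y ∈ sPh) : ⁅v, y⁆ ∈ sJQ ∧ ⁅v, y⁆.b6 = y.b2 := by
  have := T.char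
  obtain ⟨e1, e2⟩ := hy
  msimp; usimp; zs [v1, v8, map_one, e1, e2]; and_intros <;> grind

theorem L0 (u1 : u.a1 = 1) (v1 : v.a1 = 0) (v8 : v.b8 = 1) (y : U σ) :
    ⁅u, ⁅v, ⁅v, ⁅u, ⁅v, ⁅v, ⁅v, y⁆⁆⁆⁆⁆⁆⁆ = y4 0 y.a1 := by
  have h1 := L9 v1 v8 (brk_top v y)
  have h2 := L6 v1 v8 h1.1
  have h3 := brk_W2 u h2.1
  have h4 := brk_Z4 v h3
  have h5 := brk_symm (brk_Z3 h4 v)
  have h6 := brk_symm (brk_V h5 u)
  have h7 := L1 u1 h5
  rw [L2 v8 h4, L3 v8 h3, L4 u1 h2.1, h2.2, h1.2, brk_b2, v1, v8, zero_mul, one_mul, zero_add] at h7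
  rw [← h7]
  generalize ⁅u, ⁅v, ⁅v, ⁅u, ⁅v, ⁅v, ⁅v, y⁆⁆⁆⁆⁆⁆⁆ = c at h6
  msimp at h6; usimp; tauto

end

/-- `α ∈ K0` acts trivially on the factors of the invariant chain `1 < Z < V < Z₃ < Z₄ < W'' < A₇ < sRA < J ⊓ Q < J < sPh < Q' < S` (`sRA = {g ∈ J ⊓ Q | [g, Z₄] = 1}`): each factor is one coordinate and consists of
commutators or squares of higher factors: `b2 = a1 b8`, `c8 = b8 σb8`, `b6 = a1 c8`, `a7 = b6 b8` (`[y6, y8 b 0]`, or `b2 c8`), `c6 = b6 σb6`, `c4 = a1 c6`, `b4` from `c4 = b4 σb4` (squares of elements of `R`; `R = C(W)`) or `c6 = b4 a7`,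
`c2 = b2 σb2`, `a3 = σa1 a7`, `a5 = ` from `c6 = a5 b8`. An automorphism trivial on the factors of a chain of length `n` of elementary abelian sections has order dividing `2^n` (induct: `β = 1` on `B`, `β y = y d`, `d ∈ B`...), or use
`mem_pCore_of_chain` (FUS/NormalSub) / SOLV/Coprime. -/
theorem isPGroup_K0 : IsPGroup 2 (K0 σ) := fun ⟨α, hα⟩ => by
  have := T.char
  have hA := au_pair (isoOn_top α)
  obtain ⟨hZ, hQ, -⟩ := ivS hA
  obtain ⟨hV, h3, hJ, hW⟩ := ivQ' hA le_top hQ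
  obtain ⟨hP, h4, hJQ, h7⟩ := ivQ'Z hA le_top hQ hZ
  have i : ∀ {B : Subgroup (U σ)}, Ivs ⊤ {⇑α, ⇑α.symm} B → ∀ y ∈ B, α y ∈ B := fun h y => h α (Or.inl rfl) y trivial
  have u1 : (α (x1 1)).a1 = 1 := (hα _).1
  have v1 : (α (y8 1 0)).a1 = 0 := (hα _).1
  have v8 : (α (y8 1 0)).b8 = 1 := (hα _).2
  have c4 : ∀ y ∈ sZ, α y = y := fun y hy => by
    rw [sZ_eq] at hy
    obtain ⟨c, rfl⟩ := hy
    have := congrArg α (L0 (u := x1 1) (v := y8 1 0) rfl rfl rfl (x1 c))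
    simp only [map_commutatorElement] at this
    rw [L0 u1 v1 v8, (hα _).1] at this
    exact this.symm
  have c6 : ∀ y ∈ sV, (α y).c6 = y.c6 := fun y hy => by
    rw [← L1 u1 (i hV y hy), ← map_commutatorElement, c4 _ (brk_symm (brk_V hy _)), L1 rfl hy]
  have a5 : ∀ y ∈ sZ3, (α y).a5 = y.a5 := fun y hy => by
    rw [← L2 v8 (i h3 y hy), ← map_commutatorElement, c6 _ (brk_symm (brk_Z3 hy _)), L2 rfl hy]
  have a3 : ∀ y ∈ sZ4, (α y).a3 = y.a3 := fun y hy => by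
    rw [← L3 v8 (i h4 y hy), ← map_commutatorElement, a5 _ (brk_Z4 _ hy), L3 rfl hy]
  have a7 : ∀ y ∈ sW2, (α y).a7 = y.a7 := fun y hy => by
    rw [← L4 u1 (i hW y hy), ← map_commutatorElement, a3 _ (brk_W2 _ hy), L4 rfl hy]
  have c2 : ∀ y ∈ sA7, (α y).c2 = y.c2 := fun y hy => by
    rw [← (L5 v1 v8 (i h7 y hy)).2, ← map_commutatorElement, a3 _ (L5 rfl rfl hy).1, (L5 rfl rfl hy).2]
  have b6 : ∀ y ∈ sJQ, (α y).b6 = y.b6 := fun y hy => by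
    rw [← (L6 v1 v8 (i hJQ y hy)).2, ← map_commutatorElement, a7 _ (L6 rfl rfl hy).1, (L6 rfl rfl hy).2]
  have b4 : ∀ y ∈ sJQ, (α y).b4 = y.b4 := fun y hy => by
    have := L7 u1 (i hJQ y hy)
    rw [← map_commutatorElement, c2 _ (brk_JQ _ hy), L7 rfl hy, b6 y hy] at this
    exact (add_right_cancel this).symm
  have c8 : ∀ y ∈ sJ, (α y).c8 = y.c8 := fun y hy => by
    rw [← L8 u1 (i hJ y hy), ← map_commutatorElement, b6 _ (brk_J _ hy), L8 rfl hy]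
  have b2 : ∀ y ∈ sPh, (α y).b2 = y.b2 := fun y hy => by
    rw [← (L9 v1 v8 (i hP y hy)).2, ← map_commutatorElement, b6 _ (L9 rfl rfl hy).1, (L9 rfl rfl hy).2]
  have p := isPGroup_U (σ := σ)
  have s1 := pow_fix p (i hZ) (C := sV) (fun y hy => by
    have k := i hV y hy; have := c6 y hy; rw [div_mem_sZ]; msimp at k hy; simp only [k, hy, this, and_self])
    ⟨0, by simpa using c4⟩
  have s2 := pow_fix p (i hV) (C := sZ3) (fun y hy => by
    have k := i h3 y hy; have := a5 y hy; rw [div_mem_sV]; msimp at k hy; simp only [k, hy, this, and_self]) s1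
  have s3 := pow_fix p (i h3) (C := sZ4) (fun y hy => by
    have k := i h4 y hy; have := a3 y hy; rw [div_mem_sZ3]; msimp at k hy; simp only [k, hy, this, and_self]) s2
  have s4 := pow_fix p (i h4) (C := sW2) (fun y hy => by
    have k := i hW y hy; have := a7 y hy; rw [div_mem_sZ4]; msimp at k hy; simp only [k, hy, this, and_self]) s3
  have s5 := pow_fix p (i hW) (C := sA7) (fun y hy => by
    have k := i h7 y hy; have := c2 y hy; rw [div_mem_sW2]; msimp at k hy; simp only [k, hy, this, and_self]) s4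
  have s6 := pow_fix p (i h7) (C := sJQ) (fun y hy => by
    have k := i hJQ y hy; have := b4 y hy; have := b6 y hy; rw [div_mem_sA7]; msimp at k hy; simp only [*, and_self]) s5
  have s7 := pow_fix p (i hJQ) (C := sJ) (fun y hy => by
    have k := i hJ y hy; have := c8 y hy; rw [div_mem_sJQ]; msimp at k hy; simp only [k, hy, this, and_self]) s6
  have s8 := pow_fix p (i hJ) (C := sPh) (fun y hy => by
    have k := i hP y hy; have := b2 y hy; rw [div_mem_sJ]; msimp at k hy; simp only [k, hy, this, and_self]) s7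
  obtain ⟨n, hn⟩ := pow_fix p (i hP) (C := ⊤) (fun y _ => div_mem_sPh.2 (hα y)) s8
  exact ⟨n, Subtype.ext (MulEquiv.ext fun y => hn y trivial)⟩

theorem K0_normal : (K0 σ).Normal := ⟨fun α hα β g => by
  obtain ⟨t, ρ, e⟩ := aut_form β
  have k := e (β⁻¹ g)
  rw [MulAut.mul_apply, MulAut.mul_apply, (e _).1, (e _).2]
  rw [MulAut.apply_inv_self] at k
  rw [k.1, k.2]
  simp only [dd_apply, tr_a1, tr_b8, frf_a1, frf_b8, hα _, and_self]⟩

/-- Proof. `X = Aut_F(S) ≤ MulAut (U σ)`; `Inn` is a normal Sylow 2-subgroup (`sylIn_inn_top`), `D` a complement (Schur–Zassenhaus). `N = K0 ⊔ Inn = K0` (inner automorphisms are in `K0`) is a normal 2-subgroup of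
`Aut = K0 D0` (`aut_form`; normal since `α` induces maps on `a1`, `b8`). `D` has odd order, so `β D β⁻¹ ≤ D0` (`schurZassenhaus_conj` in `K0 D`, complements `D` and `K0 D ⊓ D0`). `IsoOn.exists_corr`. -/
theorem exists_std (hF : F.IsSaturated 2) : ∃ (β : MulAut (U σ)) (F' : FusionSystem (⊤ : Subgroup (U σ))), Corr β β.symm F F' ∧ Std F' := by
  have hS := sylIn_inn_top (isPGroup_U.to_subgroup _) hF
  have hN : ((Inn (⊤ : Subgroup (U σ))).subgroupOf (F.autGroup ⊤)).Normal := inferInstance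
  have h2 : (Nat.card ((Inn (⊤ : Subgroup (U σ))).subgroupOf (F.autGroup ⊤))).Coprime
      ((Inn (⊤ : Subgroup (U σ))).subgroupOf (F.autGroup ⊤)).index := by
    obtain ⟨n, hn⟩ := ((isPGroup_subgroupOf_iff hS.le).2 hS.isPGroup).exists_card_eq
    rw [hn]
    exact ((Nat.Prime.coprime_iff_not_dvd Nat.prime_two).2 hS.not_dvd_relIndex).pow_left _
  obtain ⟨H, hH⟩ := exists_right_complement'_of_coprime h2
  let c : F.autGroup ⊤ →* MulAut (U σ) := (MulAut.congr topEquiv).toMonoidHom.comp (Subgroup.subtype _)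
  have hc : ∀ (γ : F.autGroup ⊤) g, c γ g = autFun γ.1 g := fun γ g => (autFun_of_mem γ.1 (mem_top g)).symm
  have := K0_normal (σ := σ)
  obtain ⟨k, -, hk⟩ := coprime_le_conj (H.map c) (K0 σ) (D0 σ) le_normalizer_of_normal (by
    obtain ⟨n, hn⟩ := (isPGroup_K0 (σ := σ)).exists_card_eq
    rw [hn]
    exact (((Nat.Prime.coprime_iff_not_dvd Nat.prime_two).2 fun k => hS.not_dvd_relIndex
      ((k.trans (card_map_dvd H c)).trans hH.symm.index_eq_card.symm.dvd)).pow_left _).symm)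
    (Or.inr (have := isPGroup_K0.isNilpotent (G := K0 σ); inferInstance)) fun α _ => by
      obtain ⟨t, ρ, e⟩ := aut_form α
      refine ⟨α * (dd t ρ)⁻¹, fun g => ?_, _, ⟨t, ρ, rfl⟩, by simp⟩
      simpa using e ((dd t ρ)⁻¹ g)
  obtain ⟨F', hF'⟩ := (isoOn_top k⁻¹).exists_corr F
  refine ⟨_, F', hF', fun f hf => ?_⟩
  have h1 := hF'.mor' hf
  rw [hF'.iso.symm.img_eq] at h1
  obtain ⟨γ, hγ, e⟩ := h1.exists_aut h1.img_top
  obtain ⟨⟨n, h⟩, e'⟩ := (hH.existsUnique ⟨γ, hγ⟩).exists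
  obtain ⟨u, -, hu⟩ := mem_inn_iff.1 n.2
  obtain ⟨_, ⟨t, ρ, rfl⟩, e2⟩ := (mem_smul_pointwise_iff_exists ..).1 (hk (mem_map_of_mem c h.2))
  refine ⟨k⁻¹ u, t, ρ, fun g => ?_⟩
  have e3 := e (x := k g) trivial
  rw [show γ = n.1.1 * h.1.1 from (congrArg Subtype.val e').symm, autFun_mul _ _ (mem_top _), ← hc h.1, ← e2,
    show autFun n.1.1 _ = _ from hu (mem_top _)] at e3
  apply k.injective
  simpa [cj, eq_comm] using e3

/-- `dd t ρ = 1` for `q = 2`, so every `F`-automorphism of `S` is inner (`exists_std`, conjugate back). -/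
theorem std_two (hq : Nat.card K = 2) (hF : F.IsSaturated 2) {f : U σ → U σ} (hf : Mor F ⊤ f) : ∃ u, ∀ g, f g = cj u g := by
  obtain ⟨β, F', hc, hS⟩ := exists_std hF
  have h1 := hc.mor hf
  rw [hc.iso.img_eq] at h1
  obtain ⟨u, t, ρ, e⟩ := hS _ h1
  have z : ∀ c : K, c = 0 ∨ c = 1 := fun c => by
    by_contra k
    push Not at k
    have := Fintype.ofFinite K
    have := Fintype.two_lt_card_iff.2 ⟨c, 0, 1, k.1, k.2, zero_ne_one⟩
    rw [← Nat.card_eq_fintype_card] at this; omega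
  have e1 : ∀ s : Kˣ, s = 1 := fun s => Units.ext ((z _).resolve_left s.ne_zero)
  rw [show t = 1 from Prod.ext (e1 _) (e1 _), show ρ = 1 from RingEquiv.ext fun c => by rcases z c with rfl | rfl <;> simp,
    dd_one, map_one] at e
  refine ⟨β.symm u, fun g => β.injective ?_⟩
  simpa [cj] using e (β g)

end CL.RF4
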