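/-
S5262, `q > 2`: automorphisms of `Q` fixing two points; rigidity.
-/
import Cfsg.Agent.FUS.RF4.Std
import Cfsg.Agent.INV.RF.N1a
import Cfsg.Agent.SOLV.Coprime

set_option autoImplicit false
set_option linter.unusedSimpArgs false
set_option linter.unusedSectionVars false

namespace CL.RF4

open CL.Fus CL.RF CL.RF.U Subgroup Cfsg Cfsg.FusionSystem
open scoped commutatorElement

variable {K : Type*} [Field K] [Finite K] {σ : K →+* K} [T : Tits σ] {F F' : FusionSystem (⊤ : Subgroup (U σ))}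

omit T in
theorem exists_crd {Ω : Type*} [Group Ω] {Y : Subgroup Ω} {f : Ω → Ω} (hf : IsHomOn Y f) (iY : ∀ y ∈ Y, f y ∈ Y) (κ : Ω → K)
    (hκ : ∀ x ∈ Y, ∀ y ∈ Y, κ (x * y) = κ x + κ y) (s : ∀ a, ∃ y ∈ Y, κ y = a) (iX : ∀ y ∈ Y, κ (f y) = 0 ↔ κ y = 0) :
    ∃ φ : K ≃+ K, ∀ y ∈ Y, κ (f y) = φ (κ y) := by
  choose s s1 s2 using s
  have key : ∀ y ∈ Y, κ (f y) = κ (f (s (κ y))) := fun y hy => by
    have h1 := mul_mem (inv_mem (s1 (κ y))) hy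
    have e := hκ _ (s1 (κ y)) _ h1
    rw [mul_inv_cancel_left, s2, left_eq_add] at e
    conv_lhs => rw [← mul_inv_cancel_left (s (κ y)) y, hf (s1 _) h1, hκ _ (iY _ (s1 _)) _ (iY _ h1), (iX _ h1).2 e, add_zero]
  let φ : K →+ K := AddMonoidHom.mk' (fun a => κ (f (s a))) fun a b => by
    have := key _ (mul_mem (s1 a) (s1 b))
    rw [hκ _ (s1 a) _ (s1 b), s2, s2, hf (s1 a) (s1 b), hκ _ (iY _ (s1 a)) _ (iY _ (s1 b))] at this
    exact this.symm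
  exact ⟨AddEquiv.ofBijective φ (Finite.injective_iff_bijective.1 ((injective_iff_map_eq_zero φ).2 fun a ha =>
    (s2 a).symm.trans ((iX _ (s1 a)).1 ha))), key⟩

theorem autQ_form {f f' : U σ → U σ} (h : IsoOn Q Q f f') (h7 : ∀ x ∈ sA7, f x ∈ sA7) (h1 : ∀ x ∈ sA1, f x ∈ sA1) :
    ∃ t ρ, ∀ g ∈ Q, (f g).a1 = (dd (σ := σ) t ρ g).a1 ∧ (f g).b2 = (dd (σ := σ) t ρ g).b2 := by
  have := T.char
  have hA := au_pair h
  have inv : ∀ X : Subgroup (U σ), (∀ x ∈ X, f x ∈ X) → Ivs Q {f, f'} X := fun X hX => by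
    rintro _ (rfl | rfl) y hy hy'
    exacts [hX y hy', hA.mem_of_inv (Or.inl rfl) h.left (fun y _ k => hX y k) hy hy']
  have iff : ∀ {X : Set (U σ)}, Iv Q {f, f'} X → ∀ y ∈ Q, f y ∈ X ↔ y ∈ X := fun hX y hy =>
    ⟨fun k => h.left y hy ▸ hX f' (Or.inr rfl) _ (h.maps y hy) k, hX f (Or.inl rfl) y hy⟩
  obtain ⟨-, iW, iR⟩ := ivQ hA
  obtain ⟨-, -, i4, -, -, iJ, iQ⟩ := ivQ7 hA (inv _ h7)
  have i2 : Iv Q {f, f'} {g | g.b2 = 0} := (hA.iv_mul (inv _ h1) iJ).congr (fun y hy => ⟨by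
      rintro ⟨a, -, ha, b, hb, hb', rfl⟩
      show _ = _
      rw [mul_b2, ha.1, hb'.1, hb'.2.1]; simp, fun k => ⟨x1 y.a1, ⟨rfl, rfl⟩, by msimp; usimp, (x1 y.a1)⁻¹ * y,
        mul_mem (inv_mem ⟨rfl, rfl⟩) hy, by msimp; usimp; exact ⟨by grind, k, hy⟩, by simp⟩⟩) hA
  have lR : sR ≤ Q (σ := σ) := fun x hx => hx.2.2.2.2
  have lW : sW ≤ Q (σ := σ) := fun x hx => hx.2.2.2.2.2
  obtain ⟨φ1, e1⟩ := exists_crd h.hom h.maps U.a1 (fun _ _ _ _ => rfl) (fun a => ⟨x1 a, ⟨rfl, rfl⟩, rfl⟩) fun y hy => by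
    simpa [mem_sQQ, hy.1, hy.2, (h.maps y hy).1, (h.maps y hy).2] using iff iQ y hy
  obtain ⟨φ2, e2⟩ := exists_crd h.hom h.maps U.b2 (fun x hx _ _ => by simp [mul_b2, hx.1]) (fun a => ⟨y2 a 0, ⟨rfl, rfl⟩, rfl⟩) (iff i2)
  have mR := fun y hy => iR f (Or.inl rfl) y (lR hy) hy
  have mW := fun y hy => iW f (Or.inl rfl) y (lW hy) hy
  obtain ⟨φ4, e4⟩ := exists_crd (h.hom.mono lR) mR U.b4 (fun x hx _ _ => by simp [mul_b4, (lR hx).1, (lR hx).2])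
    (fun a => ⟨y4 a 0, by msimp; usimp, rfl⟩) fun y hy => by
      simpa [mem_sW, mem_sR.1 hy, mem_sR.1 (mR y hy)] using iff iW y (lR hy)
  obtain ⟨φc, ec⟩ := exists_crd (h.hom.mono lW) mW U.c2 (fun x hx y hy => by simp [mul_c2, mem_sW.1 hx, mem_sW.1 hy])
    (fun a => ⟨y2 0 a, by msimp; usimp, rfl⟩) fun y hy => by
      simpa [mem_sZ4, mem_sW.1 hy, mem_sW.1 (mW y hy)] using iff i4 y (lW hy)
  have br : ∀ x ∈ Q, ∀ y ∈ sR, ⁅x, y⁆ ∈ sW (σ := σ) ∧ ⁅x, y⁆.c2 = x.a1 * y.b4 := fun x hx y hy => by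
    rw [commutatorElement_def, mem_sW]; usimp; simp only [hx.1, hx.2, mem_sR.1 hy, map_zero]; grind
  obtain ⟨ρ, hρ⟩ := exists_ringAut φc φ1 φ4 fun a b => by
    have k : (y4 b 0 : U σ) ∈ sR := by msimp; usimp
    have k1 := br (x1 a) ⟨rfl, rfl⟩ _ k
    have k2 := ec _ k1.1
    rwa [h.hom.map_commutator ⟨rfl, rfl⟩ (lR k), (br _ (h.maps _ ⟨rfl, rfl⟩) _ (mR _ k)).2, k1.2, e1 _ ⟨rfl, rfl⟩, e4 _ k, eq_comm] at k2
  have sq : ∀ b, φc (b * σ b) = φ2 b * σ (φ2 b) := fun b => by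
    have k := ec (y2 b 0 * y2 b 0) (by msimp; usimp; grind)
    have k1 := e1 (y2 b 0) ⟨rfl, rfl⟩
    have k2 := h.maps (y2 b 0) ⟨rfl, rfl⟩
    rw [h.hom ⟨rfl, rfl⟩ ⟨rfl, rfl⟩, mul_c2, mul_c2, e2 _ ⟨rfl, rfl⟩, k1, k2.1] at k
    usimp at k
    rw [mul_comm b, ← k]; grind
  have n1 : φ1 1 ≠ 0 := by simp
  have n2 : φ2 1 ≠ 0 := by simp
  refine ⟨N1.dt σ (Units.mk0 _ n1) (Units.mk0 _ (div_ne_zero n2 n1)), ρ, fun g hg => ?_⟩
  rw [dd, MulAut.mul_apply, N1.tor_dt, e1 g hg, e2 g hg]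
  refine ⟨(hρ _).2.1, Tits.norm_inj σ ?_⟩
  have := sq 1
  rw [← sq, (hρ _).1]
  simp only [map_one, mul_one] at this
  simp only [this, dia_b2, Units.val_mk0, fr_apply, frf_b2, mul_div_cancel₀ _ n1, map_mul, map_σ]
  ring

theorem dd_eq_of_Q {t t' : Kˣ × Kˣ} {ρ ρ' : RingAut K}
    (h : ∀ g ∈ Q, (dd (σ := σ) t ρ g).a1 = (dd (σ := σ) t' ρ' g).a1 ∧ (dd (σ := σ) t ρ g).b2 = (dd (σ := σ) t' ρ' g).b2) :
    t = t' ∧ ρ = ρ' := by
  have e1 := (h (x1 1) ⟨rfl, rfl⟩).1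
  have e2 := fun b => (h (y2 b 0) ⟨rfl, rfl⟩).2
  have e3 := e2 1
  simp only [dd_apply, tr_a1, tr_b2, frf_a1, frf_b2, x1_a1, y2_b2, map_one, mul_one] at e1 e2 e3
  have n1 := t.1.ne_zero
  have n2 := t.2.ne_zero
  have n3 := t'.1.ne_zero
  have n4 := t'.2.ne_zero
  have n5 := (map_ne_zero σ).2 n1
  have n6 := (map_ne_zero σ).2 n3
  have k : (t.1 : K) = t'.1 := by
    rcases Tits.eq_of_fix σ (t := t.1 / t'.1) (by rw [map_div₀]; field_simp at e1 e3 ⊢; grind) with e | e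
    · simp at e
    · exact (div_eq_one_iff_eq n3).1 e
  refine ⟨Prod.ext (Units.ext k) (Units.ext (by rw [k] at e3; field_simp at e3; exact e3)), RingEquiv.ext fun b => ?_⟩
  exact mul_left_cancel₀ (div_ne_zero n4 n3) (e3 ▸ e2 b)

theorem dd_eq_of_V {t t' : Kˣ × Kˣ} {ρ ρ' : RingAut K} (h : ∀ c a, dd (σ := σ) t ρ (vv c a) = dd t' ρ' (vv c a)) :
    t = t' ∧ ρ = ρ' := by
  have e1 := congrArg U.c6 (h 0 1)
  have e2 := fun b => congrArg U.c4 (h b 0)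
  have e3 := e2 1
  simp only [dd_apply, tr_c4, tr_c6, frf_c4, frf_c6, vv_c4, vv_c6, map_one, mul_one] at e1 e2 e3
  rw [e3, div_left_inj' t'.2.ne_zero] at e1
  exact ⟨Prod.ext (Units.ext (Tits.norm_inj σ e1)) (Units.ext e3), RingEquiv.ext fun b => mul_left_cancel₀ t'.2.ne_zero (e3 ▸ e2 b)⟩

open N1 in
theorem rigidQ (hq : 2 < Nat.card K) (ε : U σ → U σ) (h1 : IsHomOn Q ε)
    (h2 : ∀ (t : Kˣ × Kˣ), ∀ g ∈ Q, ε (tor t g) = tor t (ε g)) (h3 : ∀ g ∈ Q, (ε g).a1 = g.a1 ∧ (ε g).b2 = g.b2) :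
    ∀ g ∈ Q, ε g = g := by
  have := T.char
  obtain ⟨κ, hκ⟩ := Tits.exists_ne σ hq
  obtain ⟨k1, k2, -⟩ := ne7 (σ := σ) hκ
  have pres : ∀ (l m : Kˣ), ∀ g ∈ Q, dia (l : K) m g = g → tor (dt σ l m) (ε g) = ε g := fun l m g hg e => by
    rw [← h2 _ _ hg, tor_dt, e]
  have H : ∀ g k, g ∈ Q → k ∈ Q → ε (g * k) = ε g * ε k := fun g k hg hk => h1 hg hk
  have e1 : ∀ a, ε (x1 a) = x1 a := fun a => by
    rw [fix1 hκ (pres _ _ (x1 a) ⟨rfl, rfl⟩ (by usimp; simp)), (h3 _ ⟨rfl, rfl⟩).1]; rfl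
  have e2 : ∀ b c, ε (y2 b c) = y2 b c := by
    refine suz hκ ε y2 (fun e => congrArg U.c2 e) (fun _ _ _ _ => by usimp) (fun _ _ _ _ => h1 ⟨rfl, rfl⟩ ⟨rfl, rfl⟩) (fun β => ?_)
      fun b c => ?_
    · refine ⟨dt σ β 1, fun b c => ?_, fun b => h2 _ _ ⟨rfl, rfl⟩⟩
      rw [tor_dt]; usimp; simp only [Units.val_one, map_one, mul_one, one_pow, and_self]
    · have e := fix2 hκ (pres _ _ (y2 b c) ⟨rfl, rfl⟩ (by
        usimp; simp only [Units.val_inv_eq_inv_val, Units.val_mul, σu_val, map_inv₀, map_mul, T.sq]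
        constructor <;> field_simp))
      exact ⟨_, by rw [e, (h3 _ ⟨rfl, rfl⟩).2]; rfl⟩
  have e4 : ∀ b c, ε (y4 b c) = y4 b c := by
    refine suz hκ ε y4 (fun e => congrArg U.c4 e) (fun _ _ _ _ => by usimp) (fun _ _ _ _ => h1 ⟨rfl, rfl⟩ ⟨rfl, rfl⟩) (fun β => ?_)
      fun b c => ?_
    · obtain ⟨m, hm⟩ := N1.exists_norm (σ := σ) β
      refine ⟨dt σ 1 m, fun b c => ?_, fun b => h2 _ _ ⟨rfl, rfl⟩⟩
      rw [tor_dt, ← hm]; usimp; simp only [Units.val_one, map_one]; constructor <;> ring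
    · have e := fix4 hκ (pres _ _ (y4 b c) ⟨rfl, rfl⟩ (by
        usimp; simp only [Units.val_inv_eq_inv_val, Units.val_mul, σu_val, map_inv₀, map_mul, T.sq]
        constructor <;> field_simp))
      have e' := congrArg ε (show (y4 b c * x1 1 : U σ) = x1 1 * y2 0 b * y4 b c by usimp)
      simp (disch := (rw [mem_Q]; usimp)) only [H, e1, e2] at e'
      rw [e] at e'
      have e'' := congrArg U.c2 e'
      usimp at e''
      exact ⟨_, by rw [e, e'']⟩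
  have e3 : ∀ a, ε (x3 a) = x3 a := fun a => by
    have r : (y4 1 0 * y2 a 0 : U σ) = y2 a 0 * x3 a * y4 1 0 := by usimp
    have e := congrArg ε r
    simp (disch := (rw [mem_Q]; usimp)) only [H, e2, e4] at e
    rw [r, mul_left_inj, mul_right_inj] at e
    exact e.symm
  have e6 : ∀ b c, ε (y6 b c) = y6 b c := by
    refine suz hκ ε y6 (fun e => congrArg U.c6 e) (fun _ _ _ _ => by usimp) (fun _ _ _ _ => h1 ⟨rfl, rfl⟩ ⟨rfl, rfl⟩) (fun β => ?_)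
      fun b c => ?_
    · refine ⟨dt σ β 1, fun b c => ?_, fun b => h2 _ _ ⟨rfl, rfl⟩⟩
      rw [tor_dt]; usimp; simp only [Units.val_one, map_one, mul_one, one_pow, and_self]
    · have e := fix6 hκ (pres _ _ (y6 b c) ⟨rfl, rfl⟩ (by
        usimp; simp only [Units.val_inv_eq_inv_val, Units.val_mul, σu_val, map_inv₀, map_mul, T.sq]
        constructor <;> field_simp))
      have e' := congrArg ε (show (y6 b c * x1 1 : U σ) = x1 1 * y2 0 b * x3 (σ b) * y4 0 c * y6 b c by usimp)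
      simp (disch := (rw [mem_Q]; usimp)) only [H, e1, e2, e3, e4] at e'
      rw [e] at e'
      have e'' := congrArg U.c2 e'
      usimp at e''
      exact ⟨_, by rw [e, e'']⟩
  have e5 : ∀ a, ε (x5 a) = x5 a := fun a => by
    have r : (y6 a 0 * y4 1 0 : U σ) = y4 1 0 * x5 a * y6 a 0 := by usimp
    have e := congrArg ε r
    simp (disch := (rw [mem_Q]; usimp)) only [H, e4, e6] at e
    rw [r, mul_left_inj, mul_right_inj] at e
    exact e.symm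
  have e7 : ∀ a, ε (x7 a) = x7 a := fun a => by
    have e := fix7 hκ (pres _ _ (x7 a) ⟨rfl, rfl⟩ (by
      usimp; simp only [Units.val_inv_eq_inv_val, Units.val_mul, Units.val_pow_eq_pow_val, σu_val, map_inv₀, map_mul, T.sq]
      field_simp))
    have e' := congrArg ε (show (x7 a * x1 1 : U σ) = x1 1 * x3 a * x5 (σ a) * x7 a by usimp)
    simp (disch := (rw [mem_Q]; usimp)) only [H, e1, e3, e5] at e'
    rw [e] at e'
    have e'' := congrArg U.a3 e'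
    usimp at e''
    rw [e, e'']
  intro g hg
  have e := eq_prod g
  rw [hg.1, hg.2, show (y8 0 0 : U σ) = 1 from rfl, mul_one] at e
  rw [e]
  simp (disch := (simp only [mem_Q, mul_b8, mul_c8]; usimp)) only [H, e1, e2, e3, e4, e5, e6, e7]

theorem exists_norm {P : Subgroup (U σ)} (hP : ∀ t ρ, ∀ g ∈ P, dd t ρ g ∈ P) {w w' : U σ → U σ} (h : IsoOn P P w w')
    (hs : ∀ t ρ, Mor F ⊤ (dd t ρ) → ∃ u ∈ P, ∃ t' ρ', Mor F ⊤ (dd t' ρ') ∧ ∀ g ∈ P, w (dd t ρ g) = cj u (dd t' ρ' (w g))) :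
    ∃ u ∈ P, ∀ t ρ, Mor F ⊤ (dd t ρ) → ∃ t' ρ', Mor F ⊤ (dd t' ρ') ∧ ∀ g ∈ P, cj u (w (dd t ρ g)) = dd t' ρ' (cj u (w g)) := by
  let D : Subgroup (D0 σ) :=
    { carrier := {α | Mor F ⊤ α.1}
      one_mem' := mor_id F le_rfl
      mul_mem' := fun ha hb => ha.comp hb fun _ _ => trivial
      inv_mem' := fun {a} ha => (Mor.of_leftInv ha fun x _ => a.1.symm_apply_apply x).mono (Mor.img_top ha).ge }
  have hD : ∀ α : D0 σ, ∀ g ∈ P, α.1 g ∈ P := by rintro ⟨_, t, ρ, rfl⟩; exact hP t ρ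
  let res : D →* MulAut P := MonoidHom.mk' (fun α => IsoOn.equiv (e := α.1.1) (e' := α.1⁻¹.1) ⟨fun x _ y _ => map_mul _ x y, hD _, hD _,
    fun x _ => α.1.1.symm_apply_apply x, fun x _ => α.1.1.apply_symm_apply x⟩) fun _ _ => rfl
  have cj1 : ∀ (α : MulAut P) x, α * MulAut.conj x * α⁻¹ = MulAut.conj (α x) := fun α x => MulEquiv.ext fun y => by simp
  have : (MulAut.conj (G := P)).range.Normal := ⟨by rintro _ ⟨x, rfl⟩ α; exact ⟨_, (cj1 α x).symm⟩⟩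
  have h2 : IsPGroup 2 (MulAut.conj (G := P)).range :=
    (isPGroup_U.to_subgroup P).of_surjective _ (MonoidHom.rangeRestrict_surjective _)
  have := h2.isNilpotent
  obtain ⟨n, hn⟩ := h2.exists_card_eq
  obtain ⟨_, ⟨x, rfl⟩, hx⟩ := coprime_le_conj (res.range.map (MulAut.conj h.equiv).toMonoidHom) (MulAut.conj (G := P)).range res.range
    le_normalizer_of_normal (hn ▸ Nat.Coprime.pow_right _ (Nat.coprime_two_right.2 ((odd_D0 (σ := σ)).of_dvd_nat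
      (((card_map_dvd _ _).trans (card_range_dvd _)).trans (card_subgroup_dvd_card D))))) (Or.inr inferInstance) (by
      rintro _ ⟨_, ⟨⟨⟨_, t, ρ, rfl⟩, hd⟩, rfl⟩, rfl⟩
      obtain ⟨u, hu, t', ρ', hd', e⟩ := hs t ρ hd
      refine ⟨_, ⟨⟨u, hu⟩, rfl⟩, _, ⟨⟨⟨_, t', ρ', rfl⟩, hd'⟩, rfl⟩, MulEquiv.ext fun g => Subtype.ext ?_⟩
      exact (e _ (h.maps' g g.2)).trans (by rw [h.right g g.2]; rfl))
  refine ⟨x⁻¹, inv_mem x.2, fun t ρ hd => ?_⟩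
  obtain ⟨_, ⟨⟨⟨_, t', ρ', rfl⟩, hd'⟩, rfl⟩, e⟩ := hx ⟨_, ⟨⟨⟨_, t, ρ, rfl⟩, hd⟩, rfl⟩, rfl⟩
  refine ⟨t', ρ', hd', fun g hg => ?_⟩
  have k : cj (x : U σ) (dd t' ρ' (cj (x : U σ)⁻¹ (w g))) = w (dd t ρ (w' (w g))) := by
    have := congrArg (fun α : MulAut P => (α ⟨w g, h.maps g hg⟩ : U σ)) e
    rw [cj_apply _ (w g), inv_inv]
    exact this
  rw [h.left g hg] at k
  rw [← k, cj_inv_cj]

end CL.RF4
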