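/-
S5262: the essential subgroups.
-/
import Cfsg.Agent.FUS.RF4.EsB
import Cfsg.Agent.FUS.RF4.EsC
import Cfsg.Agent.FUS.RF4.Flag

set_option autoImplicit false
set_option linter.unusedSimpArgs false
set_option linter.unusedSectionVars false

namespace CL.RF4

open CL.Fus CL.RF CL.RF.U Subgroup Cfsg Cfsg.FusionSystem
open scoped commutatorElement

variable {K : Type*} [Field K] [Finite K] {σ : K →+* K} [T : Tits σ] {F F' : FusionSystem (⊤ : Subgroup (U σ))}

theorem isPGroup_top : IsPGroup 2 (⊤ : Subgroup (U σ)) := isPGroup_U.to_subgroup _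

theorem cent_V {g : U σ} : (∀ v ∈ sV, v * g = g * v) ↔ g ∈ Q' := by
  have := T.char
  refine ⟨fun h => ?_, fun h v hv => ?_⟩
  · have e := congrArg U.c4 (h (y6 0 1) (by msimp; usimp))
    usimp at e; rw [mem_Q']; grind
  · msimp at h hv; usimp; simp only [h, hv]; and_intros <;> grind

theorem centralizerIn_V : centralizerIn ⊤ (sV (σ := σ)) = Q' := by
  ext g; rw [mem_centralizerIn, ← cent_V]
  exact ⟨fun h => h.2, fun h => ⟨trivial, h⟩⟩

theorem ess_cases (hF : F.IsSaturated 2) {E : Subgroup (U σ)} (hE : F.IsEssential 2 E) : E = Q ∨ E = Q' := by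
  have h := cx_of_essential isPGroup_top hF hE
  by_cases h1 : E ≤ Q'
  · exact Or.inr (h.mono h1 le_top).eq_Q'
  by_cases h2 : E ≤ Q
  · exact Or.inl (le_antisymm h2 (by simpa using h.Q_le (Or.inl rfl) (h.iv_Z h1) h2))
  have hV := h.iv_V h1 h2
  have h3 : Q' ≤ E := by
    rw [← centralizerIn_V]
    refine cent_le_of_inv isPGroup_top hF hE h.V_le (fun x hx y hy => cent_V.2 hy.1 x hx)
      le_normalizer_of_normal hV fun D hD E' hE' => ?_
    have hp : IsPGroup 2 (centralizerIn ⊤ (sV (σ := σ))) := isPGroup_U.to_subgroup _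
    have h4 := cx_of_essential hp hD hE'
    have h5 := lt_of_essential hp hD hE'
    generalize fa D E' = A at h4
    rw [centralizerIn_V] at h4 h5
    exact h5.ne h4.eq_Q'
  have h4 : Ivs E (fa F E) Q' := (h.iv_cent hV).congr
    (fun y _ => ⟨fun e => cent_V.1 fun v hv => (e v (h.V_le hv) hv).symm, fun e v _ hv => (cent_V.2 e v hv).symm⟩) h.toAu
  have : E.Normal := ⟨fun n hn g => by
    have := T.char
    have e : ⁅g, n⁆ ∈ Q' := by rw [mem_Q']; usimp; grind
    simpa [commutatorElement_def] using mul_mem (h3 e) hn⟩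
  exact absurd (eq_top_iff.2 fun s _ => h.f1 s trivial (le_normalizer_of_normal (H := E) (K := ⊤) trivial)
    (flagQ' h.toAu h3 h4 (h.iv_Z h1) s)) (lt_of_essential isPGroup_top hF hE).ne

end CL.RF4
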