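/-
S5262: the automizers of `Q` and `Q'`; comparison of fusion systems.
-/
import Cfsg.Agent.FUS.RF4.Ess

set_option autoImplicit false
set_option linter.unusedSimpArgs false
set_option linter.unusedSectionVars false
set_option linter.unusedTactic false
set_option linter.unreachableTactic false
set_option linter.unnecessarySeqFocus false
set_option linter.unusedVariables false

namespace CL.RF4

open CL.Fus CL.RF CL.RF.U Subgroup Cfsg Cfsg.FusionSystem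
open scoped commutatorElement

variable {K : Type*} [Field K] [Finite K] {σ : K →+* K} [T : Tits σ] {F F' : FusionSystem (⊤ : Subgroup (U σ))}

/-- `ext_of_chain`, `flagQ` -/
theorem extQ (hF : F.IsSaturated 2) (hc : F.IsCentric Q) {f : U σ → U σ} (hf : Mor F Q f) (h1 : ∀ x ∈ Q, f x ∈ Q)
    (h2 : ∀ x ∈ sA7, f x ∈ sA7) : ∃ g, Mor F ⊤ g ∧ Set.EqOn g f (Q (σ := σ)) :=
  ext_of_chain isPGroup_top hF hc le_normalizer_of_normal (X := sA7) le_normalizer_of_normal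
    (fun _ hA h7 s _ => flagQ hA h7 s) hf h1 fun x _ hx => h2 x hx

/-- `ext_of_chain`, `flagQ'` -/
theorem extQ' (hF : F.IsSaturated 2) (hc : F.IsCentric Q') {f : U σ → U σ} (hf : Mor F Q' f) (h1 : ∀ x ∈ Q', f x ∈ Q')
    (h2 : ∀ x ∈ sZ, f x ∈ sZ) : ∃ g, Mor F ⊤ g ∧ Set.EqOn g f (Q' (σ := σ)) :=
  ext_of_chain isPGroup_top hF hc le_normalizer_of_normal (X := sZ) le_normalizer_of_normal
    (fun _ hA hZ s _ => flagQ' hA le_rfl hA.iv_self hZ s) hf h1 fun x _ hx => h2 x hx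

/-- an automorphism in `F` has an inverse in `F` (`Mor.exists_inv`, finiteness) -/
theorem exists_isoOn {P : Subgroup (U σ)} {f : U σ → U σ} (hf : Mor F P f) (h1 : ∀ x ∈ P, f x ∈ P) :
    ∃ f', Mor F P f' ∧ IsoOn P P f f' := by
  obtain ⟨g, h, h'⟩ := hf.exists_isoOn
  rw [hf.img_eq_self h1] at h h'
  exact ⟨g, h', h⟩

/-- `y = f (x7 1)` is an involution of `Q ∖ R` (`ivQ`); `sq_Q`, `map_point`. -/
theorem point_cases {f f' : U σ → U σ} (h : IsoOn Q Q f f') :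
    (∀ x ∈ sA7, f x ∈ sA7) ∨ ∃ b c, ∀ x ∈ sA7, cj (y8 b c) (f x) ∈ sA1 := by
  have := T.char
  have h7 : (x7 1 : U σ) ∈ Q := ⟨rfl, rfl⟩
  have hW : (x7 1 : U σ) ∉ sW := fun k => one_ne_zero k.2.2.2.2.1
  rcases sq_Q (g := f (x7 1)) (by rw [← h.map_mul h7 h7, sq_W2 (x7_W2 1), h.map_one]; exact one_mem _) (h.maps _ h7) with
    k | k | ⟨-, b, c, k⟩
  · have := (ivQ (au_pair h)).2.2 f' (Or.inr rfl) _ (h.maps _ h7) k
    rw [h.left _ h7] at this
    exact absurd this.2.2.2.1 one_ne_zero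
  · exact Or.inl (map_point h (Or.inr rfl) (Or.inr rfl) (x7_A7 1) hW k)
  · exact Or.inr ⟨b, c, map_point (h.trans (isoOn_cj (y8 b c))) (Or.inr rfl) (Or.inl rfl) (x7_A7 1) hW k⟩

theorem eq_vv_of_Z {x : U σ} (h : x ∈ sZ) : x = vv (1 * x.c4) (0 * x.c4) := by
  msimp at h; vsimp; tauto

theorem eq_vv_of_V6 {x : U σ} (h : x ∈ sV6) : x = vv (0 * x.c6) (1 * x.c6) := by
  msimp at h; vsimp; tauto

/-- `map_line` with `(b, b') = (1, 0)`; `x1 a` maps `vv c c'` to `vv (c + a c') c'` (`U.conj_vv`). -/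
theorem line_cases {f f' : U σ → U σ} (h : IsoOn Q' Q' f f') :
    (∀ x ∈ sZ, f x ∈ sZ) ∨ ∃ a, ∀ x ∈ sZ, cj (x1 a) (f x) ∈ sV6 := by
  have := T.char
  obtain ⟨τ, k⟩ := map_line h
  obtain ⟨c, c', k⟩ := k 1 0
  by_cases hc : c' = 0
  · exact Or.inl fun x hx => by rw [eq_vv_of_Z hx, k, hc]; msimp; vsimp
  · exact Or.inr ⟨c / c', fun x hx => by rw [eq_vv_of_Z hx, k, cj_apply, conj_vv]; msimp; vsimp; grind⟩

theorem centric_of (hF : F.IsSaturated 2) {P : Subgroup (U σ)} (hE : F.IsEssential 2 P) : F.IsCentric P :=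
  ((isEssential_iff isPGroup_top hF).1 hE).1

theorem exists_move (hF : F.IsSaturated 2) {P X : Subgroup (U σ)} (hE : F.IsEssential 2 P)
    (h : ∀ f, Mor F P f → (∀ x ∈ P, f x ∈ P) → (∀ x ∈ X, f x ∈ X) → ∃ g, Mor F ⊤ g ∧ Set.EqOn g f P) :
    ∃ f f', Mor F P f ∧ Mor F P f' ∧ IsoOn P P f f' ∧ ¬ ∀ x ∈ X, f x ∈ X := by
  obtain ⟨α, hα, hα'⟩ := SetLike.exists_of_lt (extAut_lt_of_essential isPGroup_top hF hE)
  refine ⟨_, _, mor_autFun le_top hα, mor_autFun le_top (inv_mem hα), isoOn_autFun α, fun k => hα' ?_⟩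
  obtain ⟨g, hg, e⟩ := h _ (mor_autFun le_top hα) (fun x hx => autFun_mem α hx) k
  exact mem_extAut (lt_of_essential isPGroup_top hF hE) hg e

theorem mor_cj' (F : FusionSystem (⊤ : Subgroup (U σ))) (P : Subgroup (U σ)) (s : U σ) : Mor F P (cj s) :=
  mor_cj F le_top trivial

/-- Proof. Some `α ∈ Aut_F(Q)` does not normalise `Aut_S(Q)` (`not_le_normalizer_of_essential`), so does not extend to `S`, so moves `A₇` (`extQ`): `w₀ = cj (y8 b c) ∘ α` maps `A₇` into `A₁`.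
Its inverse `w₀'` also moves `A₇` (else `x7 1 ∈ A₁`): `cj s ∘ w₀'` maps `A₇` into `A₁`. `w = w₀ ∘ cj s⁻¹` maps `cj s (w₀' (x7 1)) ∈ A₁ ∖ W` to `x7 1`; `map_point`. -/
theorem swapQ (hF : F.IsSaturated 2) (hE : F.IsEssential 2 Q) :
    ∃ w, Mor F Q w ∧ (∀ x ∈ Q, w x ∈ Q) ∧ (∀ x ∈ sA7, w x ∈ sA1) ∧ ∀ x ∈ sA1, w x ∈ sA7 := by
  obtain ⟨f, f', hf, hf', h, k⟩ := exists_move hF hE (X := sA7) fun f => extQ hF (centric_of hF hE)
  obtain ⟨b, c, k1⟩ := (point_cases h).resolve_left k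
  have h0 := h.trans (isoOn_cj (y8 b c))
  have h7 : (x7 1 : U σ) ∈ Q := ⟨rfl, rfl⟩
  obtain ⟨b', c', k2⟩ := (point_cases h0.symm).resolve_left fun k2 => by
    have := k1 _ (k2 _ (x7_A7 1))
    rw [show cj _ (f _) = _ from h0.right _ h7] at this
    exact one_ne_zero this.2.2.2.1
  have h1 := (isoOn_cj (P := Q) (y8 b' c')).symm.trans h0
  have e := h1.right _ h7
  refine ⟨_, (hf.cj_comp trivial).comp (mor_cj' F Q _) (isoOn_cj (P := Q) (y8 b' c')).maps', h1.maps,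
    fun x hx => k1 _ (Normal.conj_mem inferInstance _ hx _),
    map_point h1 (Or.inl rfl) (Or.inr rfl) (k2 _ (x7_A7 1)) (fun k3 => ?_) (e.symm ▸ x7_A7 1)⟩
  have := (ivQ (au_pair h1)).2.1 _ (Or.inl rfl) _ (W_le_Q k3) k3
  exact one_ne_zero ((congrArg U.a7 e).symm.trans this.2.2.2.2.1)

/-- As `swapQ`; at the end `w` maps a nonidentity element of `V₆` into `Z`, use `map_line` with `(b, b') = (0, 1)`. -/
theorem swapQ' (hF : F.IsSaturated 2) (hE : F.IsEssential 2 Q') :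
    ∃ w, Mor F Q' w ∧ (∀ x ∈ Q', w x ∈ Q') ∧ (∀ x ∈ sZ, w x ∈ sV6) ∧ ∀ x ∈ sV6, w x ∈ sZ := by
  obtain ⟨f, f', hf, hf', h, k⟩ := exists_move hF hE (X := sZ) fun f => extQ' hF (centric_of hF hE)
  obtain ⟨a, k1⟩ := (line_cases h).resolve_left k
  have h0 := h.trans (isoOn_cj (x1 a))
  have h4 : (y4 0 1 : U σ) ∈ Q' := rfl
  have hz : (y4 0 1 : U σ) ∈ sZ := by msimp; usimp
  obtain ⟨a', k2⟩ := (line_cases h0.symm).resolve_left fun k2 => by
    have := k1 _ (k2 _ hz)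
    rw [show cj _ (f _) = _ from h0.right _ h4] at this
    exact one_ne_zero this.2.2.2.2.2.1
  have h1 := (isoOn_cj (P := Q') (x1 a')).symm.trans h0
  have e := h1.right _ h4
  refine ⟨_, (hf.cj_comp trivial).comp (mor_cj' F Q' _) (isoOn_cj (P := Q') (x1 a')).maps', h1.maps,
    fun x hx => k1 _ (Normal.conj_mem inferInstance _ hx _), fun x hx => ?_⟩
  obtain ⟨τ, k3⟩ := map_line h1
  obtain ⟨c, c', k3⟩ := k3 0 1
  rw [show (cj _ ∘ f' ∘ _) _ = _ from eq_vv_of_V6 (k2 _ hz), k3] at e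
  vsimp at e
  have : c' = 0 := by grind
  rw [eq_vv_of_V6 hx, k3, this]; msimp; vsimp

/-- Proof. `alperin_isSubsystemOf` / `alperin_le`, `ess_cases`. For `E = Q`, `f ∈ Aut_F(Q)`: `point_cases`; either `f` or `w8 ∘ cj (y8 b c) ∘ f` leaves `A₇` invariant and extends to `S` (`extQ`),
so is a morphism of `F'`; `w8 ∘ w8 = id`. The same for `Q'`. -/
theorem le_of_gen (hF : F.IsSaturated 2) (h : ∀ f, Mor F ⊤ f → Mor F' ⊤ f) (h8 : Mor F Q w8) (h8' : Mor F' Q w8)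
    (h1 : Mor F Q' w1) (h1' : Mor F' Q' w1) : F ≤ F' := by
  refine alperin_isSubsystemOf isPGroup_top hF fun P f hP hf e => ?_
  have key : ∀ {P X : Subgroup (U σ)} [P.Normal] {f w : U σ → U σ} (s : U σ), Mor F P f → (∀ x ∈ P, f x ∈ P) → Mor F P w → Mor F' P w →
      IsoOn P P w w → (∀ f, Mor F P f → (∀ x ∈ P, f x ∈ P) → (∀ x ∈ X, f x ∈ X) → ∃ g, Mor F ⊤ g ∧ Set.EqOn g f P) →
      ((∀ x ∈ X, f x ∈ X) ∨ ∀ x ∈ X, w (cj s (f x)) ∈ X) → Mor F' P f := fun {P X _ f w} s hf m hw hw' i ex k => by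
    rcases k with k | k
    · obtain ⟨g, hg, e⟩ := ex f hf m k
      exact ((h g hg).mono le_top).congr e
    have m1 : ∀ x ∈ P, cj s (f x) ∈ P := fun x hx => (isoOn_cj s).maps _ (m x hx)
    obtain ⟨g, hg, e⟩ := ex _ (hw.comp (hf.cj_comp (s := s) trivial) m1) (fun x hx => i.maps _ (m1 x hx)) k
    refine ((hw'.comp (((h g hg).mono le_top).congr e) fun x hx => i.maps _ (m1 x hx)).cj_comp (s := s⁻¹) trivial).congr
      fun x hx => ?_
    simp only [Function.comp, i.left _ (m1 x hx), cj_inv_cj]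
  have m : ∀ x ∈ P, f x ∈ P := img_le_iff.1 e.le
  rcases hP with rfl | hP
  · exact h f hf
  obtain ⟨f', -, i⟩ := exists_isoOn hf m
  rcases ess_cases hF hP with rfl | rfl
  · rcases point_cases i with k | ⟨b, c, k⟩
    · exact key 1 hf m h8 h8' isoOn_w8 (fun f => extQ hF (centric_of hF hP)) (Or.inl k)
    refine key (y8 b c) hf m h8 h8' isoOn_w8 (fun f => extQ hF (centric_of hF hP)) (Or.inr fun x hx => ?_)
    obtain ⟨e1, e2, e3, e4, e5, e6⟩ := k x hx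
    exact ⟨e4, e3, e2, e1, rfl, rfl⟩
  · rcases line_cases i with k | ⟨a, k⟩
    · exact key 1 hf m h1 h1' isoOn_w1 (fun f => extQ' hF (centric_of hF hP)) (Or.inl k)
    refine key (x1 a) hf m h1 h1' isoOn_w1 (fun f => extQ' hF (centric_of hF hP)) (Or.inr fun x hx => ?_)
    rw [eq_vv_of_V6 (k x hx), w1_vv]; msimp; vsimp

end CL.RF4
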