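/-
S5262, `q > 2`: the torus and the two reflections lie in `F`.
-/
import Cfsg.Agent.FUS.RF4.BigA
import Cfsg.Agent.FUS.RF4.Ext

set_option autoImplicit false
set_option linter.unusedSimpArgs false
set_option linter.unusedSectionVars false

namespace CL.RF4

open CL.Fus CL.RF CL.RF.U Subgroup Cfsg Cfsg.FusionSystem
open scoped commutatorElement

variable {K : Type*} [Field K] [Finite K] {σ : K →+* K} [T : Tits σ] {F F' : FusionSystem (⊤ : Subgroup (U σ))}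

theorem dd_mem (hS : Std F) {k : U σ → U σ} (hk : Mor F ⊤ k) : ∃ u t ρ, Mor F ⊤ (dd t ρ) ∧ ∀ g, k g = cj u (dd t ρ g) :=
  let ⟨u, t, ρ, hu⟩ := hS k hk
  ⟨u, t, ρ, (hk.cj_comp (s := u⁻¹) trivial).congr fun g _ => by rw [Function.comp, hu, cj_inv_cj], hu⟩

theorem stabQ (hF : F.IsSaturated 2) (hS : Std F) (hc : F.IsCentric Q) {f : U σ → U σ} (hf : Mor F Q f) (h : ∀ x ∈ Q, f x ∈ Q)
    (h7 : ∀ x ∈ sA7, f x ∈ sA7) (h1 : ∀ x ∈ sA1, f x ∈ sA1) :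
    ∃ u ∈ Q, ∃ t ρ, Mor F ⊤ (dd t ρ) ∧ ∀ g ∈ Q, f g = cj u (dd t ρ g) := by
  have := T.char
  obtain ⟨k, hk, e⟩ := extQ hF hc hf h h7
  obtain ⟨u, t, ρ, hd, hu⟩ := dd_mem hS hk
  refine ⟨u, ?_, t, ρ, hd, fun g hg => by rw [← e hg, hu]⟩
  have e1 := h1 (x1 1) (by msimp; usimp)
  obtain ⟨a, ha, e2⟩ : ∃ a, a ≠ 0 ∧ dd (σ := σ) t ρ (x1 1) = x1 a :=
    ⟨t.2 ^ 2 / (t.1 * σ t.1), by simp, by rw [dd_apply]; fsimp; simp⟩
  rw [← e ⟨rfl, rfl⟩, hu, e2, mem_sA1, cj] at e1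
  usimp at e1
  have e3 : u.b8 = 0 := by grind
  exact ⟨e3, by simp only [e3, map_zero] at e1; grind⟩

theorem dd_vv (t : Kˣ × Kˣ) (ρ : RingAut K) (c a : K) : dd (σ := σ) t ρ (vv c a) = vv (t.2 * ρ c) (t.1 * σ t.1 / t.2 * ρ a) := by
  rw [dd_apply]; simp only [vv]; fsimp; simp

theorem vv_inj {c a c' a' : K} : (vv c a : U σ) = vv c' a' ↔ c = c' ∧ a = a' := by vsimp

theorem vv_mem_sZ {c a : K} : (vv c a : U σ) ∈ sZ ↔ a = 0 := by simp [mem_sZ, vv]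

theorem vv_mem_sV6 {c a : K} : (vv c a : U σ) ∈ sV6 ↔ c = 0 := by simp [mem_sV6, vv]

theorem eq_vv_of_sZ {g : U σ} (h : g ∈ sZ) : g = vv g.c4 0 := by msimp at h; vsimp; simp [h]

theorem eq_vv_of_sV6 {g : U σ} (h : g ∈ sV6) : g = vv 0 g.c6 := by msimp at h; vsimp; simp [h]

theorem stabQ' (hF : F.IsSaturated 2) (hS : Std F) (hc : F.IsCentric Q') {f : U σ → U σ} (hf : Mor F Q' f) (h : ∀ x ∈ Q', f x ∈ Q')
    (h4 : ∀ x ∈ sZ, f x ∈ sZ) (h6 : ∀ x ∈ sV6, f x ∈ sV6) :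
    ∃ u ∈ Q', ∃ t ρ, Mor F ⊤ (dd t ρ) ∧ ∀ g ∈ Q', f g = cj u (dd t ρ g) := by
  obtain ⟨k, hk, e⟩ := extQ' hF hc hf h h4
  obtain ⟨u, t, ρ, hd, hu⟩ := dd_mem hS hk
  refine ⟨u, ?_, t, ρ, hd, fun g hg => by rw [← e hg, hu]⟩
  have e1 := h6 (vv 0 1) (vv_mem_sV6.2 rfl)
  rw [← e (show vv 0 1 ∈ Q' from rfl), hu, dd_vv, cj, conj_vv, vv_mem_sV6] at e1
  simpa [mem_Q'] using e1

theorem exists_ns (hF : F.IsSaturated 2) (hE : F.IsEssential 2 Q') (s : Kˣ) :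
    ∃ n, Mor F Q' n ∧ (∀ x ∈ Q', n x ∈ Q') ∧ ∀ x y, n (vv x y) = vv (y / s) (s * x) := by
  have := T.char
  obtain ⟨w, m, q, h4, h6⟩ := swapQ' hF hE
  obtain ⟨w', m', i⟩ := exists_isoOn m q
  obtain ⟨τ, hτ⟩ := map_line i
  obtain ⟨c0, c, e1⟩ := hτ 1 0
  obtain ⟨c', c1, e2⟩ := hτ 0 1
  simp only [one_mul, zero_mul] at e1 e2
  have hv : ∀ x y : K, (vv x y : U σ) ∈ Q' := fun _ _ => rfl
  have mul : ∀ x y x' y' : K, (vv x y * vv x' y' : U σ) = vv (x + x') (y + y') := fun _ _ _ _ => by vsimp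
  have e : ∀ x y, w (vv x y) = vv (c' * τ y) (c * τ x) := fun x y => by
    have k1 := h4 (vv x 0) (vv_mem_sZ.2 rfl)
    have k2 := h6 (vv 0 y) (vv_mem_sV6.2 rfl)
    rw [e1, vv_mem_sV6] at k1
    rw [e2, vv_mem_sZ] at k2
    rw [show (vv x y : U σ) = vv x 0 * vv 0 y by simp [mul], m.map_mul (hv _ _) (hv _ _), e1, e2, k1, k2, mul, zero_add, add_zero]
  have hc : c ≠ 0 := fun k => by simpa [vv_inj] using m.injOn (hv 1 0) (hv 0 0) (by rw [e, e, k, zero_mul, zero_mul])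
  have hc' : c' ≠ 0 := fun k => by simpa [vv_inj] using m.injOn (hv 0 1) (hv 0 0) (by rw [e, e, k, zero_mul, zero_mul])
  have h1 : τ 1 ≠ 0 := by simp
  obtain ⟨a, ha⟩ := τ.surjective (s * τ 1 * c' / c)
  have hm : ∀ t, c * τ (a * t) = s * (c' * τ t) := fun t => by
    obtain ⟨d, d', e3⟩ := hτ a 1
    have k1 := e3 t
    have k2 := e3 1
    rw [e, vv_inj] at k1 k2
    rw [k1.2, mul_right_cancel₀ h1 (k2.2.symm.trans (show _ = s * c' * τ 1 by rw [mul_one, ha]; field_simp)), mul_assoc]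
  have hq : ∀ s : U σ, ∀ g ∈ Q', cj s g ∈ Q' := fun s g hg => Normal.conj_mem inferInstance g hg s
  have mc : ∀ s : U σ, Mor F Q' (cj s) := fun s => mor_cj F le_top trivial
  have eu : ∀ X Y, w (cj (x1 a) (w' (vv X Y))) = vv X (Y + s * X) := fun X Y => by
    obtain ⟨y, rfl⟩ : ∃ y, c' * τ y = X := ⟨τ.symm (X / c'), by simp [mul_div_cancel₀, hc']⟩
    obtain ⟨x, rfl⟩ : ∃ x, c * τ x = Y := ⟨τ.symm (Y / c), by simp [mul_div_cancel₀, hc]⟩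
    rw [← e, i.left _ (hv _ _), cj, conj_vv, e, map_add, mul_add, x1_a1, hm]
  refine ⟨cj (x1 (s : K)⁻¹) ∘ w ∘ cj (x1 a) ∘ w' ∘ cj (x1 (s : K)⁻¹),
    (m.comp ((m'.comp (mc _) (hq _)).cj_comp trivial) fun g hg => hq _ _ (i.maps' _ (hq _ g hg))).cj_comp trivial,
    fun g hg => hq _ _ (q _ (hq _ _ (i.maps' _ (hq _ g hg)))), fun x y => ?_⟩
  simp only [Function.comp]
  rw [cj_apply _ (vv x y), conj_vv, eu, cj, conj_vv, vv_inj, x1_a1]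
  constructor <;> field_simp <;> grind

theorem cj_vv {u : U σ} (hu : u ∈ Q') (c a : K) : cj u (vv c a) = vv c a := by rw [cj, conj_vv, mem_Q'.1 hu, zero_mul, add_zero]

theorem tor2_mem (hF : F.IsSaturated 2) (hS : Std F) (hE : F.IsEssential 2 Q') (s : Kˣ) : Mor F ⊤ (tor (1, s)) := by
  obtain ⟨n, m, q, e⟩ := exists_ns hF hE s
  obtain ⟨n', m', q', e'⟩ := exists_ns hF hE 1
  obtain ⟨u, hu, t, ρ, hd, k⟩ := stabQ' hF hS hE.1 (m'.comp m q) (fun x hx => q' _ (q x hx))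
    (fun x hx => by rw [eq_vv_of_sZ hx, Function.comp, e, e', vv_mem_sZ]; simp)
    fun x hx => by rw [eq_vv_of_sV6 hx, Function.comp, e, e', vv_mem_sV6]; simp
  obtain ⟨rfl, rfl⟩ := dd_eq_of_V (σ := σ) (t := t) (ρ := ρ) (t' := (1, s)) (ρ' := 1) fun c a => by
    have := k (vv c a) rfl
    rw [dd_vv, cj_vv hu, Function.comp, e, e'] at this
    rw [dd_vv, dd_vv, ← this]; simp [div_eq_inv_mul]
  rwa [dd_one] at hd

theorem swap_inv {P X Y : Subgroup (U σ)} {w w' : U σ → U σ} (h : IsoOn P P w w') (hX : X ≤ P) (hY : Y ≤ P) (h1 : ∀ x ∈ X, w x ∈ Y)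
    (h2 : ∀ x ∈ Y, w x ∈ X) : ∀ x ∈ X, w' x ∈ Y := fun x hx => by
  obtain ⟨y, hy, rfl⟩ := ((Set.toFinite (X : Set (U σ))).injOn_iff_bijOn_of_mapsTo (f := w ∘ w) fun x hx => h2 _ (h1 x hx)).1
    (fun a ha b hb e => h.injOn (hX ha) (hX hb) (h.injOn (hY (h1 a ha)) (hY (h1 b hb)) e)) |>.surjOn hx
  rw [Function.comp, h.left _ (hY (h1 y hy))]
  exact h1 y hy

theorem w8_dd (t : Kˣ × Kˣ) (ρ : RingAut K) (g : U σ) : w8 (dd t ρ g) = dd (σu σ t.2 * t.1⁻¹, t.2) ρ (w8 g) := by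
  rw [dd, dd, MulAut.mul_apply, MulAut.mul_apply, fr_w8, tor_apply, w8_tr t.1.ne_zero t.2.ne_zero, tor_apply]
  simp [div_eq_mul_inv]

theorem w8_mem (hq : 2 < Nat.card K) (hF : F.IsSaturated 2) (hS : Std F) (hE : F.IsEssential 2 Q) (hE' : F.IsEssential 2 Q') :
    (∀ t, Mor F ⊤ (tor t)) ∧ Mor F Q w8 := by
  have := T.char
  have l7 : sA7 ≤ Q (σ := σ) := fun x hx => hx.2.2.2.2
  have l1 : sA1 ≤ Q (σ := σ) := fun x hx => hx.2.2.2.2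
  have dQ : ∀ t ρ, ∀ g ∈ Q, dd (σ := σ) t ρ g ∈ Q := fun t ρ g hg => by rw [mem_Q] at *; simp [dd_apply, hg]
  have d7 : ∀ t ρ, ∀ g ∈ sA7, dd (σ := σ) t ρ g ∈ sA7 := fun t ρ g hg => by rw [mem_sA7] at *; simp [dd_apply, hg]
  have d1 : ∀ t ρ, ∀ g ∈ sA1, dd (σ := σ) t ρ g ∈ sA1 := fun t ρ g hg => by rw [mem_sA1] at *; simp [dd_apply, hg]
  obtain ⟨w₀, m₀, q₀, h7, h1⟩ := swapQ hF hE
  obtain ⟨w₀', m₀', i₀⟩ := exists_isoOn m₀ q₀
  obtain ⟨u, hu, hn⟩ := exists_norm (F := F) dQ i₀ fun t ρ hd => by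
    obtain ⟨u, hu, t', ρ', hd', e⟩ := stabQ hF hS hE.1 (m₀.comp ((hd.mono le_top).comp m₀' i₀.maps') fun x hx => dQ _ _ _ (i₀.maps' x hx))
      (fun x hx => q₀ _ (dQ _ _ _ (i₀.maps' x hx))) (fun x hx => h1 _ (d1 _ _ _ (swap_inv i₀ l7 l1 h7 h1 x hx)))
      fun x hx => h7 _ (d7 _ _ _ (swap_inv i₀ l1 l7 h1 h7 x hx))
    exact ⟨u, hu, t', ρ', hd', fun g hg => by simpa only [Function.comp, i₀.left g hg] using e _ (q₀ g hg)⟩
  have m := m₀.cj_comp (s := u) trivial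
  have i := (i₀.trans (isoOn_cj u)).trans isoOn_w8
  have q := (i₀.trans (isoOn_cj u)).maps
  obtain ⟨t₀, ρ₀, e₀⟩ := autQ_form i (fun x hx => by
      have k := h7 x hx
      simp only [Function.comp, cj]; generalize w₀ x = y at *; msimp at k ⊢; usimp; simp only [k, hu.1, hu.2, map_zero]; grind)
    fun x hx => by
      have k : cj u (w₀ x) ∈ sA7 := Normal.conj_mem inferInstance _ (h1 x hx) u
      simp only [Function.comp]; generalize cj u (w₀ x) = y at *; msimp at k ⊢; simp [k]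
  replace hn : ∀ t ρ, Mor F ⊤ (dd t ρ) → ∃ t' ρ', Mor F ⊤ (dd t' ρ') ∧ ∀ g ∈ Q, (cj u ∘ w₀) (dd t ρ g) = dd t' ρ' ((cj u ∘ w₀) g) := hn
  generalize cj u ∘ w₀ = w at *
  have key : ∀ t, Mor F ⊤ (tor t) → Mor F ⊤ (tor (σu σ (rt ρ₀ t).2 * (rt ρ₀ t).1⁻¹, (rt ρ₀ t).2)) ∧
      ∀ g ∈ Q, w8 (w (tor t g)) = tor (rt ρ₀ t) (w8 (w g)) := fun t ht => by
    obtain ⟨t', ρ', hd, e⟩ := hn t 1 (by rwa [dd_one])
    replace e : ∀ g ∈ Q, w8 (w (dd t 1 g)) = dd (σu σ t'.2 * t'.1⁻¹, t'.2) ρ' (w8 (w g)) := fun g hg => by rw [e g hg, w8_dd]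
    obtain ⟨e1, e2⟩ := dd_eq_of_Q (σ := σ) (t := t₀ * rt ρ₀ t) (ρ := ρ₀ * 1) (t' := (σu σ t'.2 * t'.1⁻¹, t'.2) * rt ρ' t₀) (ρ' := ρ' * ρ₀)
      fun g hg => by
        have k1 := e₀ _ (dQ t 1 g hg)
        have k2 := e₀ g hg
        rw [← dd_mul, ← dd_mul, MulAut.mul_apply, MulAut.mul_apply, ← k1.1, ← k1.2, Function.comp, e g hg]
        simp only [Function.comp] at k2
        generalize dd t₀ ρ₀ g = y at *
        simp only [dd_apply, tr_a1, tr_b2, frf_a1, frf_b2, k2, and_self]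
    obtain rfl : ρ' = 1 := by simpa using e2.symm
    rw [show rt 1 t₀ = t₀ from rfl, mul_comm, mul_left_inj] at e1
    rw [dd_one] at hd
    simp only [dd_one] at e
    rw [e1]
    exact ⟨by simpa using hd, e⟩
  have surj : ∀ t, ∃ t', rt ρ₀ t' = t := fun t =>
    ⟨rt ρ₀⁻¹ t, Prod.ext (Units.ext (ρ₀.apply_symm_apply _)) (Units.ext (ρ₀.apply_symm_apply _))⟩
  have ht : ∀ t, Mor F ⊤ (tor t) := fun t => by
    obtain ⟨b, hb⟩ := Tits.surj σ (t.1 : K)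
    have hb' : b ≠ 0 := fun e => t.1.ne_zero (by rw [← hb, e, map_zero])
    have k := (key _ (tor2_mem hF hS hE' (ru ρ₀⁻¹ (Units.mk0 b hb')))).1
    rw [show rt ρ₀ (1, ru ρ₀⁻¹ (Units.mk0 b hb')) = (1, Units.mk0 b hb') from Prod.ext (map_one _) (Units.ext (ρ₀.apply_symm_apply _))] at k
    refine (k.comp (tor2_mem hF hS hE' ((Units.mk0 b hb')⁻¹ * t.2)) fun _ _ => trivial).congr fun g _ => ?_
    rw [Function.comp, ← MulAut.mul_apply, ← map_mul]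
    congr 2
    exact Prod.ext (Units.ext (by simp [hb])) (by simp)
  refine ⟨ht, ?_⟩
  obtain ⟨_, t₁, ρ₁, rfl, hd⟩ : ∃ δ : MulAut (U σ), ∃ t ρ, δ = dd t ρ ∧ (dd t₀ ρ₀)⁻¹ = δ :=
    let ⟨t, ρ, e⟩ := (D0 σ).inv_mem ⟨t₀, ρ₀, rfl⟩; ⟨_, t, ρ, rfl, e⟩
  have dd1 : ∀ g, dd (σ := σ) t₀ ρ₀ (dd t₁ ρ₁ g) = g := fun g => by rw [← hd]; exact MulAut.apply_inv_self _ _ _
  have dd2 : ∀ g, dd (σ := σ) t₁ ρ₁ (dd t₀ ρ₀ g) = g := fun g => by rw [← hd]; exact MulAut.inv_apply_self _ _ _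
  have hε := rigidQ hq ((w8 ∘ w) ∘ dd t₁ ρ₁) (i.hom.comp (fun x _ y _ => map_mul _ x y) (dQ _ _)) (fun t g hg => by
      obtain ⟨t, rfl⟩ := surj t
      simp only [Function.comp]
      rw [← (key t (ht t)).2 _ (dQ _ _ g hg)]
      congr 2
      rw [← dd2 (tor t _)]
      congr 1
      rw [dd, MulAut.mul_apply, fr_tor]
      refine Eq.trans (congrArg _ (dd1 g).symm) ?_
      simp only [dd, MulAut.mul_apply, tor_apply, tr_tr, mul_comm])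
    fun g hg => by simpa only [dd1, Function.comp] using e₀ _ (dQ t₁ ρ₁ g hg)
  have fQ : ∀ ρ, ∀ g ∈ Q, fr (σ := σ) ρ g ∈ Q := fun ρ => one_dd (σ := σ) ρ ▸ dQ 1 ρ
  have m1 : Mor F Q (w8 ∘ fr ρ₀) := ((ht (σu σ t₀.2 * t₀.1⁻¹, t₀.2)⁻¹).comp m fun _ _ => trivial).congr fun g hg => by
    have k := congrArg w8 (hε _ (dQ t₀ ρ₀ g hg))
    simp only [Function.comp, dd2, isoOn_w8.left _ (q g hg), w8_dd] at k
    rw [Function.comp, k, dd, MulAut.mul_apply, map_inv, MulAut.inv_apply_self, Function.comp, fr_w8]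
  obtain ⟨k, hk⟩ := odd_ringAut σ
  have m2 : ∀ j, Mor F Q (fr (ρ₀ ^ (2 * j))) := fun j => by
    induction j with
    | zero => exact (mor_id F le_top).congr fun g _ => by simp
    | succ j ih =>
      refine (ih.comp (m1.comp m1 fun _ _ => ⟨rfl, rfl⟩) fun _ _ => ⟨rfl, rfl⟩).congr fun g hg => ?_
      simp only [Function.comp, fr_w8, isoOn_w8.left _ (fQ _ _ (fQ _ _ hg)), mul_add, mul_one, pow_add, pow_two, map_mul, MulAut.mul_apply]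
  refine (m1.comp (m2 k) (fQ _)).congr fun g _ => ?_
  rw [Function.comp, Function.comp, ← MulAut.mul_apply, ← map_mul, ← pow_succ', ← hk, pow_card_eq_one', map_one, MulAut.one_apply]

theorem w1_mem (hq : 2 < Nat.card K) (hF : F.IsSaturated 2) (hS : Std F) (hE' : F.IsEssential 2 Q') (ht : ∀ t, Mor F ⊤ (tor t)) :
    Mor F Q' w1 := by
  have dQ : ∀ t ρ, ∀ g ∈ Q', dd (σ := σ) t ρ g ∈ Q' := fun t ρ g hg => by rw [mem_Q'] at *; simp [dd_apply, hg]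
  obtain ⟨w₀, m₀, q₀, e₀⟩ := exists_ns hF hE' 1
  simp only [Units.val_one, div_one, one_mul] at e₀
  obtain ⟨w₀', m₀', i₀⟩ := exists_isoOn m₀ q₀
  have e₀' : ∀ x y, w₀' (vv x y) = vv y x := fun x y => by rw [← e₀, i₀.left _ rfl]
  obtain ⟨u, hu, hn⟩ := exists_norm (F := F) dQ i₀ fun t ρ hd => by
    obtain ⟨u, hu, t', ρ', hd', e⟩ := stabQ' hF hS hE'.1 (m₀.comp ((hd.mono le_top).comp m₀' i₀.maps') fun x hx => dQ _ _ _ (i₀.maps' x hx))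
      (fun x hx => q₀ _ (dQ _ _ _ (i₀.maps' x hx)))
      (fun x hx => by rw [eq_vv_of_sZ hx]; simp only [Function.comp, e₀, e₀', dd_vv, vv_mem_sZ, map_zero, mul_zero])
      fun x hx => by rw [eq_vv_of_sV6 hx]; simp only [Function.comp, e₀, e₀', dd_vv, vv_mem_sV6, map_zero, mul_zero]
    exact ⟨u, hu, t', ρ', hd', fun g hg => by simpa only [Function.comp, i₀.left g hg] using e _ (q₀ g hg)⟩
  have q : ∀ g ∈ Q', cj u (w₀ g) ∈ Q' := fun g hg => cj_mem hu (q₀ g hg)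
  refine (m₀.cj_comp (s := u) trivial).congr fun g hg => ?_
  refine (isoOn_w1.left _ (q g hg)).symm.trans (congrArg w1 (N1.eq_of_comm hq (w1 ∘ cj u ∘ w₀)
    (fun x y hx hy => (isoOn_w1.hom.comp (m₀.cj_comp (s := u) trivial).isHomOn q) hx hy) (fun t x hx => ?_) (fun c a => ?_) hg))
  · obtain ⟨t', ρ', -, e⟩ := hn t 1 (dd_one (σ := σ) t ▸ ht t)
    obtain ⟨rfl, rfl⟩ := dd_eq_of_V (σ := σ) (t := t') (ρ := ρ') (t' := (t.1, t.1 * σu σ t.1 * t.2⁻¹)) (ρ' := 1) fun c a => by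
      have := e (vv a c) rfl
      rw [dd_vv, e₀, e₀, cj_vv hu, cj_vv hu] at this
      rw [← this, dd_vv, vv_inj]
      simp only [Units.val_mul, σu_val, Units.val_inv_eq_inv_val, RingAut.one_apply]
      constructor <;> field_simp
    simp only [dd_one] at e
    rw [Function.comp, Function.comp, Function.comp, Function.comp, e x hx, tor_apply, tor_apply, w1_tr (by simp) (by simp)]
    congr 1
    simp only [Units.val_mul, σu_val, Units.val_inv_eq_inv_val]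
    field_simp
  · rw [Function.comp, Function.comp, e₀, cj_vv hu]; vsimp

end CL.RF4
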