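/-
S5262: realisation by `²F₄(q)` extended by field automorphisms.
-/
import Cfsg.Agent.FUS.RF4.Std
import Cfsg.Agent.FUS.RF4.Ext
import Cfsg.Agent.INV.RF.Am
import Cfsg.Agent.INV.RF.Bas
import Cfsg.Agent.FUS.Realized
import Cfsg.Agent.FUS.GroupFusion

set_option autoImplicit false
set_option linter.unusedSimpArgs false
set_option linter.unusedSectionVars false

namespace CL.RF4

open CL.Fus CL.RF CL.RF.U Subgroup Cfsg Cfsg.FusionSystem
open scoped commutatorElement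

variable {K : Type*} [Field K] [Finite K] {σ : K →+* K} [T : Tits σ] {F F' : FusionSystem (⊤ : Subgroup (U σ))}

variable {r : R8 K} {G : Type*} [Group G] [Finite G]

theorem uniq8 (P : PC σ r G) {a a' b b' : K × K} {n n' : Kˣ} {c : K} (h : P.u (y8 a.1 a.2) * P.h1 n * P.n8 * P.u (y8 b.1 b.2) =
    P.u (y8 a'.1 a'.2) * P.h1 n' * P.n8 * P.u (y8 b'.1 b'.2) * P.u (y4 0 c)) : a = a' ∧ n = n' ∧ b = b' := by
  have := T.char
  have hC : P.u (y8 a'.1 a'.2) * P.h1 n' * P.n8 * P.u (y8 b'.1 b'.2) ∈ P.C :=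
    mul_mem (mul_mem (mul_mem (P.u_mem_C _) (P.h1_mem_C _)) P.n8_mem_C) (P.u_mem_C _)
  rw [PC.comm_Z hC] at h
  have e : (y8 b'.1 b'.2 * (y8 b.1 b.2)⁻¹ : U σ) = y8 (b'.1 + b.1) (b'.2 + b.2 + b.1 * σ b.1 + σ b.1 * b'.1) := by usimp; grind
  have e1 : P.n8 * P.u (y8 b'.1 b'.2 * (y8 b.1 b.2)⁻¹) * P.n8 =
      (P.u (y4 0 c) * P.u (y8 a'.1 a'.2) * P.h1 n')⁻¹ * (P.u (y8 a.1 a.2) * P.h1 n) := by
    rw [eq_inv_mul_iff_mul_eq, map_mul, map_inv, ← mul_assoc, ← mul_assoc, ← mul_assoc, ← eq_mul_inv_iff_mul_eq, mul_inv_eq_iff_eq_mul,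
      P.n8_inv, h]
    simp only [mul_assoc]
  have uB := fun g => P.S_le_B1 (P.u_mem_S g)
  obtain ⟨k1, k2⟩ := PC.eq_zero_of_n8 (P := P) (by
    rw [← e, e1]; exact mul_mem (inv_mem (mul_mem (mul_mem (uB _) (uB _)) (P.h1_mem_B1 _))) (mul_mem (uB _) (P.h1_mem_B1 _)))
  obtain rfl : b = b' := Prod.ext (by grind) (by rw [show b'.1 = b.1 by grind] at k2; grind)
  simp only [← mul_assoc, mul_left_inj] at h
  have e2 : P.h1 (n * n'⁻¹) = P.u ((y8 a.1 a.2)⁻¹ * (y4 0 c * y8 a'.1 a'.2)) := by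
    rw [map_mul, map_mul, map_mul, map_inv, map_inv, mul_inv_eq_iff_eq_mul, mul_assoc, ← h, inv_mul_cancel_left]
  obtain rfl : n = n' := mul_inv_eq_one.1 (PC.eq_one_of_h1_mem (e2 ▸ P.u_mem_S _))
  rw [mul_left_inj, ← map_mul] at h
  have e3 := P.inj h
  usimp at e3
  exact ⟨Prod.ext (by grind) (by grind), rfl, rfl⟩

theorem act8 (P : PC σ r G) (a b : K × K) (n : Kˣ) {g : U σ} (hg : g ∈ Q) :
    P.u (y8 a.1 a.2) * P.h1 n * P.n8 * P.u (y8 b.1 b.2) * P.u g * (P.u (y8 a.1 a.2) * P.h1 n * P.n8 * P.u (y8 b.1 b.2))⁻¹ =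
      P.u (cj (y8 a.1 a.2) (tor (n, 1) (w8 (cj (y8 b.1 b.2) g)))) := by
  have hq : cj (y8 b.1 b.2) g ∈ Q := Normal.conj_mem inferInstance g hg _
  rw [cj, map_mul, map_mul, ← P.h1u, ← P.n8u _ hq.1 hq.2]
  simp only [cj, map_mul, map_inv, mul_inv_rev, P.n8_inv, mul_assoc]

theorem act8' (P : PC σ r G) (a : K × K) {g : U σ} (hg : g ∈ Q) :
    P.n8 * P.u (y8 a.1 a.2) * P.n8 * P.u g * (P.n8 * P.u (y8 a.1 a.2) * P.n8)⁻¹ = P.u (w8 (cj (y8 a.1 a.2) (w8 g))) := by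
  have hq : cj (y8 a.1 a.2) (w8 g) ∈ Q := Normal.conj_mem inferInstance _ (isoOn_w8.maps g hg) _
  rw [← P.n8u _ hq.1 hq.2, cj, map_mul, map_mul, ← P.n8u _ hg.1 hg.2]
  simp only [map_inv, mul_inv_rev, P.n8_inv, mul_assoc]

theorem r_map (P : PC σ r G) (ρ : RingAut K) {p : K × K} (hp : p ≠ 0) :
    r (ρ p.1, ρ p.2) = ((ρ (r p).1.1, ρ (r p).1.2), ru ρ (r p).2.1, (ρ (r p).2.2.1, ρ (r p).2.2.2)) := by
  have hp' : (ρ p.1, ρ p.2) ≠ 0 := fun e => hp (by simpa [Prod.ext_iff] using e)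
  have y : ∀ b c, fr ρ (y8 b c : U σ) = y8 (ρ b) (ρ c) := fun b c => by rw [fr_apply]; fsimp
  have mC : ∀ (a b : K × K) n, P.u (y8 a.1 a.2) * P.h1 n * P.n8 * P.u (y8 b.1 b.2) ∈ P.C := fun a b n =>
    mul_mem (mul_mem (mul_mem (P.u_mem_C _) (P.h1_mem_C _)) P.n8_mem_C) (P.u_mem_C _)
  obtain ⟨c, hc⟩ := PC.mem_Z.1 (PC.mem_Z_of_comm_Q (mul_mem (inv_mem (mC (r (ρ p.1, ρ p.2)).1 (r (ρ p.1, ρ p.2)).2.2 (r (ρ p.1, ρ p.2)).2.1))
    (mC (ρ (r p).1.1, ρ (r p).1.2) (ρ (r p).2.2.1, ρ (r p).2.2.2) (ru ρ (r p).2.1))) (by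
      rintro _ ⟨g', hg', rfl⟩
      obtain ⟨g, rfl⟩ := (fr ρ).surjective g'
      have hg : g ∈ Q := by simpa [mem_Q] using hg'
      have e1 := act8' P p hg
      rw [P.r8 p hp, act8 P _ _ _ hg] at e1
      have e2 := congrArg (fr ρ) (P.inj e1)
      have e3 := act8' P (ρ p.1, ρ p.2) hg'
      have e4 := act8 P (ρ (r p).1.1, ρ (r p).1.2) (ρ (r p).2.2.1, ρ (r p).2.2.2) (ru ρ (r p).2.1) hg'
      simp only [cj, map_mul, map_inv, fr_w8, fr_tor, y, rt, map_one] at e2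
      simp only [cj] at e3 e4
      simp only [map_mul (tor _), map_inv (tor _), e2, ← e3, P.r8 _ hp'] at e4
      rw [mul_assoc, mul_inv_eq_iff_eq_mul.1 e4]
      generalize P.u (y8 (r _).1.1 _) * _ * _ * _ = a
      simp only [mul_assoc, inv_mul_cancel_left]))
  obtain ⟨e1, e2, e3⟩ := uniq8 P (inv_mul_eq_iff_eq_mul.1 hc)
  exact Prod.ext e1.symm (Prod.ext e2.symm e3.symm)

theorem exists_frob (A : OS σ r G) (hA : A.grp = ⊤) (ρ : RingAut K) :
    ∃ φ : MulAut G, (∀ g, φ (A.u g) = A.u (fr ρ g)) ∧ φ A.n1 = A.n1 ∧ φ A.n8 = A.n8 ∧ ∀ t, φ (A.h t) = A.h (rt ρ t) := by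
  have y : ∀ b c, fr ρ (y8 b c : U σ) = y8 (ρ b) (ρ c) := fun b c => by rw [fr_apply]; fsimp
  have x : ∀ b, fr ρ (x1 b : U σ) = x1 (ρ b) := fun b => by rw [fr_apply]; fsimp
  have s : ∀ s, ru ρ (σu σ s) = σu σ (ru ρ s) := fun s => Units.ext (map_σ ρ _)
  let A' : OS σ r G :=
    { u := A.u.comp (fr ρ).toMonoidHom
      h1 := A.h1.comp (ru ρ)
      h2 := A.h2.comp (ru ρ)
      n1 := A.n1
      n8 := A.n8
      inj := A.inj.comp (fr ρ).injective
      h1u := fun n g => (A.h1u _ _).trans (congrArg A.u (by rw [MulEquiv.coe_toMonoidHom, fr_tor, rt, map_one]))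
      n8n8 := A.n8n8
      n8u := fun g h h' => (A.n8u _ (by simp [h]) (by simp [h'])).trans (congrArg A.u (fr_w8 ρ g).symm)
      n8h1 := fun n => (A.n8h1 _).trans (by simp)
      r8 := fun p hp => by
        have := A.r8 (ρ p.1, ρ p.2) fun e => hp (by simpa [Prod.ext_iff] using e)
        rw [r_map A.toPC ρ hp] at this
        simpa only [MonoidHom.comp_apply, MulEquiv.coe_toMonoidHom, y] using this
      h12 := fun n s => A.h12 _ _
      h2u := fun n g => (A.h2u _ _).trans (congrArg A.u (by rw [MulEquiv.coe_toMonoidHom, fr_tor, rt, map_one]))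
      n8h2 := fun n => (A.n8h2 _).trans (by simp [s])
      n1n1 := A.n1n1
      n1u := fun g h => (A.n1u _ (by simp [h])).trans (congrArg A.u (fr_w1 ρ g).symm)
      n1h1 := fun n => (A.n1h1 _).trans (by simp [s])
      n1h2 := fun n => (A.n1h2 _).trans (by simp)
      r1 := fun t => by
        simpa only [MonoidHom.comp_apply, MulEquiv.coe_toMonoidHom, x, ← map_inv (ru ρ), ru_val] using A.r1 (ru ρ t)
      braid := A.braid }
  have ru' : (ru ρ).range = ⊤ := MonoidHom.range_eq_top.2 fun s => ⟨ru ρ.symm s, Units.ext (ρ.apply_symm_apply _)⟩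
  have hA' : A'.grp = ⊤ := by
    rw [← hA]
    simp only [P81.grp, PC.C, PC.S, A', MonoidHom.range_comp, ru', MonoidHom.range_eq_top_of_surjective (fr (σ := σ) ρ).toMonoidHom (fr ρ).surjective, ← MonoidHom.range_eq_map]
  obtain ⟨φ, e1, e2, e3, e4⟩ := A.exists_equiv A'
  let i := (MulEquiv.subgroupCongr hA).trans topEquiv
  let j := (MulEquiv.subgroupCongr hA').trans topEquiv
  exact ⟨i.symm.trans (φ.trans j), fun g => e1 g _ rfl, e3 _ rfl, e4 _ rfl, fun t => e2 t _ rfl⟩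

theorem normalizer_S (A : OS σ r G) (hA : A.grp = ⊤) {x : G} (hx : x ∈ normalizer (A.S : Set G)) : ∃ g t, x = A.u g * A.h t := by
  obtain ⟨b, hb, e, j, g, hj, rfl⟩ := Am.cell_of_mem (hA ▸ mem_top x : x ∈ A.grp)
  rw [mul_mem_cancel_right (le_normalizer (A.u_mem_S g)), mul_mem_cancel_left (Am.B_le_normalizer _ hb)] at hx
  rcases j with _ | j
  · exact Am.mem_B.1 (by simpa [Am.al] using mul_mem hb (Am.u_mem_B _ g))
  · exact absurd hx (Am.al_not_mem e (by omega))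

theorem exists_frob_hom (A : OS σ r G) (hA : A.grp = ⊤) : ∃ φ : RingAut K →* MulAut G, ∀ ρ g, φ ρ (A.u g) = A.u (fr ρ g) := by
  choose φ e1 e2 e3 e4 using exists_frob A hA
  refine ⟨MonoidHom.mk' φ fun ρ ρ' => MulEquiv.ext fun x => ?_, e1⟩
  have hh : ∀ t, φ (ρ * ρ') (A.h t) = (φ ρ * φ ρ') (A.h t) := fun t => by rw [MulAut.mul_apply, e4, e4, e4]; rfl
  suffices h : A.grp ≤ (φ (ρ * ρ')).toMonoidHom.eqLocus (φ ρ * φ ρ').toMonoidHom from h (hA.ge (mem_top x))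
  refine sup_le (sup_le (A.C_le (fun g => ?_) (fun n => ?_) ?_) ?_) (zpowers_le.2 ?_)
  · show φ _ _ = φ ρ (φ ρ' _)
    rw [e1, e1, e1]; rfl
  · exact Br.h_fst A.toP8 n ▸ hh (n, 1)
  · show φ _ _ = φ ρ (φ ρ' _)
    rw [e3, e3, e3]
  · rintro _ ⟨n, rfl⟩
    exact Br.h_snd A.toP8 n ▸ hh (1, n)
  · show φ _ _ = φ ρ (φ ρ' _)
    rw [e2, e2, e2]

theorem realizable (A : OS σ r G) (hA : A.grp = ⊤) (ho : Odd A.S.index) (hF : F.IsSaturated 2) (hS : Std F)
    (ht : ∀ t, Mor F ⊤ (tor t)) (h8 : Mor F Q w8) (h1 : Mor F Q' w1) : F.IsRealizable 2 := by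
  obtain ⟨φ, hφ⟩ := exists_frob_hom A hA
  let Ψ : Subgroup (RingAut K) := ((F.autGroup ⊤).map (MulAut.congr topEquiv).toMonoidHom).comap (fr (σ := σ))
  have hΨ : ∀ ρ, ρ ∈ Ψ ↔ Mor F ⊤ (fr ρ) := fun ρ => ⟨fun ⟨α, hα, e⟩ => (mor_autFun le_rfl hα).congr fun g hg => by
      rw [← e]; exact autFun_coe α ⟨g, hg⟩, fun h => by
    obtain ⟨α, hα, e⟩ := h.exists_aut (h.img_eq_self fun _ _ => trivial)
    exact ⟨α, hα, MulEquiv.ext fun g => (autFun_coe α ⟨g, trivial⟩).symm.trans (e trivial)⟩⟩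
  let H := G ⋊[φ.comp Ψ.subtype] Ψ
  have : Finite (RingAut K) := Finite.of_injective _ DFunLike.coe_injective
  have : Finite H := Finite.of_equiv _ SemidirectProduct.equivProd.symm
  let ι : U σ →* H := SemidirectProduct.inl.comp A.u
  have hι : Function.Injective ι := SemidirectProduct.inl_injective.comp A.inj
  let κ : (⊤ : Subgroup (U σ)) →* H := ι.comp (⊤ : Subgroup (U σ)).subtype
  have hκ : Function.Injective κ := hι.comp (subtype_injective _)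
  obtain ⟨e', he⟩ := exists_isoOn_of_injective κ hκ
  obtain ⟨E, hE⟩ := he.symm.exists_corr (groupFusionSystem κ.range)
  have hr : E.IsRealizedBy κ := hE.symm.isRealizedBy fun x => (homFn_coe κ x).symm
  have hm : ∀ P f, Mor E P f ↔ ∃ g : H, ∀ x ∈ P, ι (f x) = cj g (ι x) := fun P f =>
    ((isRealizedBy_iff (e := ι) fun _ => rfl).1 hr).2 P f le_top fun _ _ => trivial
  have hκr : κ.range = A.S.map SemidirectProduct.inl := by
    rw [MonoidHom.range_comp, range_subtype, ← MonoidHom.range_eq_map, MonoidHom.range_comp]; rfl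
  have hR : E.IsRealizable 2 := isRealizable_of_isRealizedBy hr ⟨IsPGroup.toSylow (P := κ.range) (hκr ▸ A.isPGroup_S.map _)
    (Odd.not_two_dvd_nat (by
      rw [hκr, index_map_of_injective _ SemidirectProduct.inl_injective, SemidirectProduct.range_inl_eq_ker_rightHom, index_ker]
      exact ho.mul ((odd_ringAut σ).of_dvd_nat ((card_subgroup_dvd_card _).trans (card_subgroup_dvd_card _))))), rfl⟩
  have hin : ∀ {P f} (x : G), (∀ g ∈ P, x * A.u g * x⁻¹ = A.u (f g)) → Mor E P f := fun x h =>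
    (hm _ _).2 ⟨.inl x, fun g hg => by simp only [ι, cj, MonoidHom.comp_apply, ← h g hg, map_mul, map_inv]⟩
  have E8 : Mor E Q w8 := hin A.n8 fun g hg => by rw [A.n8_inv, A.n8u g hg.1 hg.2]
  have E1 : Mor E Q' w1 := hin A.n1 fun g hg => by rw [inv_eq_of_mul_eq_one_right A.n1n1, A.n1u g hg]
  have hr' : ∀ (ψ : Ψ) g, cj (SemidirectProduct.inr ψ : H) (ι g) = ι (fr ψ.1 g) := fun ψ g => by
    simp only [ι, cj, MonoidHom.comp_apply, ← hφ, ← map_inv]
    exact (SemidirectProduct.inl_aut ψ _).symm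
  rwa [FusionSystem_ext (F := F) (E := E) fun P => (le_of_gen hF (fun f hf => ?_) h8 E8 h1 E1 P).antisymm
    (le_of_gen (isSaturated_of_isRealizable hR) (fun f hf => ?_) E8 h8 E1 h1 P)]
  · obtain ⟨u, t, ρ, e⟩ := hS f hf
    have hρ : ρ ∈ Ψ := (hΨ ρ).2 (((ht t⁻¹).comp (hf.cj_comp (s := u⁻¹) trivial) fun _ _ => trivial).congr fun g _ => by
      simp only [Function.comp, e, cj_inv_cj, dd, MulAut.mul_apply, map_inv, MulAut.inv_apply_self])
    refine (hm _ _).2 ⟨.inl (A.u u * A.h t) * .inr ⟨ρ, hρ⟩, fun g _ => ?_⟩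
    rw [cj_mul, hr', e]
    simp only [ι, cj, dd, MulAut.mul_apply, MonoidHom.comp_apply, map_mul, map_inv, ← A.hu, mul_inv_rev, mul_assoc]
  · obtain ⟨y, hy⟩ := (hm _ _).1 hf
    have e : ∀ g, A.u (f g) = y.left * A.u (fr y.right.1 g) * y.left⁻¹ := fun g => SemidirectProduct.inl_injective (φ := φ.comp Ψ.subtype) (by
      have := hy g trivial
      rw [← y.inl_left_mul_inr_right, cj_mul, hr'] at this
      simpa only [ι, cj, MonoidHom.comp_apply, map_mul, map_inv] using this)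
    obtain ⟨u, t, hx⟩ := normalizer_S A hA (x := y.left) (Ba.norm_of (by
      rintro _ ⟨g, rfl⟩
      obtain ⟨g, rfl⟩ := (fr y.right.1).surjective g
      exact ⟨_, e g⟩))
    refine (((ht t).comp ((hΨ _).1 y.right.2) fun _ _ => trivial).cj_comp (s := u) trivial).congr fun g _ => A.inj ?_
    simp only [e, hx, Function.comp, cj, map_mul, map_inv, ← A.hu, mul_inv_rev, mul_assoc]

end CL.RF4
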