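/-
S5262, `q = 2`: the automorphisms of `Q` generating `Sz(2)` with `y₈` modulo inner automorphisms (bit-sliced search).
-/
import Cfsg.Agent.INV.RF.TwA3
import Cfsg.Agent.FUS.RF4.Sub
import Cfsg.Agent.FUS.Basic

set_option autoImplicit false
set_option linter.unusedSimpArgs false
set_option linter.unusedSectionVars false

namespace CL.RF4.TQ

open CL.Fus CL.RF CL.RF.U CL.RF.TA

/-- images of `x1, y2, y4, y6, x7` -/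
structure T5 (X : Type*) where
  p1 : X
  p2 : X
  p4 : X
  p6 : X
  p7 : X

section

variable {X Y R R' : Type*}

def T5.map (f : X → Y) (I : T5 X) : T5 Y := ⟨f I.p1, f I.p2, f I.p4, f I.p6, f I.p7⟩

variable [Mul X] [Inv X] [Mul Y] [Inv Y]

def evQ (pw : R → X → X) (I : T5 X) (a : R) (J : Im R) : X :=
  pw a I.p1 * pw J.b2 I.p2 * pw J.c2 (I.p2 * I.p2) * pw J.a3 (cm I.p4 I.p2) * pw J.b4 I.p4 * pw J.c4 (I.p4 * I.p4) *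
    pw J.a5 (cm I.p6 I.p4) * pw J.b6 I.p6 * pw J.c6 (I.p6 * I.p6) * pw J.a7 I.p7

theorem map_evQ {f : X → Y} {φ : R → R'} {pw : R → X → X} {pw' : R' → Y → Y} (h1 : ∀ x y, f (x * y) = f x * f y)
    (h3 : ∀ x, f x⁻¹ = (f x)⁻¹) (h2 : ∀ t x, f (pw t x) = pw' (φ t) (f x)) (I : T5 X) (a : R) (J : Im R) :
    f (evQ pw I a J) = evQ pw' (I.map f) (φ a) (J.map φ) := by
  simp only [evQ, T5.map, Im.map, cm, h1, h2, h3]

end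

/-- where the families differ modulo the centre -/
def neZ (g h : BV) : ℕ := BV.ne { g with c4 := 0 } { h with c4 := 0 }

def u0B (d e : BV) : BV := ⟨d.c2, d.a3, 0, 0, e.c2.xor d.a5, 0, 0, d.a5, 0, d.c6, 0, 0⟩

/-- where the tuples are not conjugate -/
def innB (P Q : T5 BV) : ℕ :=
  let u := u0B (P.p4 * Q.p4⁻¹) (P.p1 * Q.p1⁻¹)
  (neZ P.p1 (u * Q.p1 * u⁻¹)).lor <| (neZ P.p2 (u * Q.p2 * u⁻¹)).lor <| (BV.ne P.p4 (u * Q.p4 * u⁻¹)).lor <|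
    (neZ P.p6 (u * Q.p6 * u⁻¹)).lor (neZ P.p7 (u * Q.p7 * u⁻¹))

def im (o : ℕ) : T5 BV :=
  ⟨⟨0, 0, 0, vr 0 19, 0, 0, vr 1 19, 0, vr 2 19, o, 0, 0⟩, ⟨0, 0, vr 3 19, vr 4 19, 0, 0, vr 5 19, o, vr 6 19, 0, 0, 0⟩,
    ⟨0, 0, vr 7 19, vr 8 19, o, vr 9 19, vr 10 19, 0, vr 11 19, 0, 0, 0⟩,
    ⟨0, o, vr 12 19, vr 13 19, 0, 0, vr 14 19, 0, vr 15 19, 0, 0, 0⟩, ⟨o, 0, vr 16 19, vr 17 19, 0, 0, vr 18 19, 0, 0, 0, 0, 0⟩⟩

def EB (o : ℕ) (g : BV) : BV := evQ BV.pw (im o) g.a1 g.co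

def cjB (o n : ℕ) (g : BV) : BV := .cst o n * g * (BV.cst o n)⁻¹

def pre : T5 ℕ := ⟨1, 3, 16, 151, 765⟩

theorem st : let o := ones 19
    ((((BV.ne ((im o).p2 * (im o).p1) ((im o).p1 * (im o).p2)).lor
      (innB (pre.map fun n => EB o (cjB o 1024 (EB o (.cst o n)))) (pre.map fun n => cjB o 1024 (EB o (cjB o 2048 (.cst o n)))))).xor o).land
      (innB ((⟨512, 128, 16, 2, 1⟩ : T5 ℕ).map fun n => EB o (.cst o n)) ((⟨1, 2, 16, 128, 512⟩ : T5 ℕ).map (.cst o)))).land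
      (innB ((⟨512, 128, 272, 66, 9⟩ : T5 ℕ).map fun n => EB o (.cst o n)) ((⟨9, 66, 272, 128, 512⟩ : T5 ℕ).map (.cst o))) = 0 := by
  decide +kernel

/-- all elements of `Q` -/
def allQ : BV := { all with b8 := 0, c8 := 0 }

theorem st2 : BV.ne (evQ BV.pw ((⟨1, 2, 16, 128, 512⟩ : T5 ℕ).map (.cst (ones 12))) allQ.a1 allQ.co) allQ = 0 := by
  decide +kernel

variable {K : Type*} [Field K] {σ : K →+* K} [T : Tits σ]

def u0 (d e : U σ) : U σ := ⟨d.c2, d.a3, 0, 0, e.c2 + d.a5, 0, 0, d.a5, 0, d.c6, 0, 0⟩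

/-- the test for conjugacy -/
def Inn (P Q : T5 (U σ)) : Prop :=
  let u := u0 (P.p4 * Q.p4⁻¹) (P.p1 * Q.p1⁻¹)
  P.p1 * (cj u Q.p1)⁻¹ ∈ sZ ∧ P.p2 * (cj u Q.p2)⁻¹ ∈ sZ ∧ P.p4 = cj u Q.p4 ∧ P.p6 * (cj u Q.p6)⁻¹ ∈ sZ ∧ P.p7 * (cj u Q.p7)⁻¹ ∈ sZ

theorem neZ_bit {i : ℕ} {g h : BV} : (neZ g h).testBit i = false ↔ pr σ i g * (pr σ i h)⁻¹ ∈ sZ := by
  rw [neZ, ne_bit (σ := σ), div_mem_sZ]; simp [pr]

theorem pr_u0 (i : ℕ) (d e : BV) : pr σ i (u0B d e) = u0 (pr σ i d) (pr σ i e) := by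
  have := T.char
  simp only [pr, u0B, u0, bt_zero, bt_xor]

theorem inn_bit {i : ℕ} {P Q : T5 BV} : (innB P Q).testBit i = false ↔ Inn (P.map (pr σ i)) (Q.map (pr σ i)) := by
  simp only [innB, Inn, lor_bit, neZ_bit (σ := σ), ne_bit (σ := σ), pr_mul, pr_inv, pr_u0, T5.map, cj]

/-- the generators modulo `W` -/
structure Up (Q : T5 (U σ)) : Prop where
  p1 : Q.p1 * (x1 1)⁻¹ ∈ sW
  p2 : Q.p2 * (y2 1 0)⁻¹ ∈ sW
  p4 : Q.p4 * (y4 1 0)⁻¹ ∈ sW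
  p6 : Q.p6 * (y6 1 0)⁻¹ ∈ sW
  p7 : Q.p7 * (x7 1)⁻¹ ∈ sW

theorem cj_W {v g : U σ} (hv : v ∈ sW) (hg : g ∈ Q) :
    cj v g = { g with c4 := g.c4 + (v.c2 * g.a7 + v.a3 * g.b6 + v.a5 * g.b2 + v.c6 * g.a1) } := by
  have := T.char
  rw [cj, mul_inv_eq_iff_eq_mul]
  msimp at hv hg
  usimp; simp only [hv, hg, map_zero]; and_intros <;> grind

theorem cj_up {u g g' : U σ} (hu : u ∈ Q) (hg' : g' ∈ Q) (h : g * g'⁻¹ ∈ sW) : cj u g * g'⁻¹ ∈ sW ∧ cj u g ∈ Q := by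
  have := T.char
  rw [div_mem_sW] at h ⊢
  msimp at hu hg' ⊢
  rw [cj]; usimp; simp only [h, hu, hg', map_zero]; and_intros <;> grind

theorem u0_mem (d e : U σ) : u0 d e ∈ Q := ⟨rfl, rfl⟩

theorem inn_of {u : U σ} (hu : u ∈ Q) {Q : T5 (U σ)} (h : Up Q) : Inn (Q.map (cj u)) Q := by
  have := T.char
  have hv : u * (u0 (cj u Q.p4 * Q.p4⁻¹) (cj u Q.p1 * Q.p1⁻¹))⁻¹ ∈ sW := by
    have h1 := div_mem_sW.1 h.p1
    have h4 := div_mem_sW.1 h.p4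
    msimp at hu
    usimp at h1 h4
    rw [div_mem_sW, u0, cj, cj]; usimp; simp only [h1, h4, hu, map_zero, map_one]; and_intros <;> grind
  simp only [Inn, T5.map]
  have hw := u0_mem (cj u Q.p4 * Q.p4⁻¹) (cj u Q.p1 * Q.p1⁻¹)
  generalize u0 (cj u Q.p4 * Q.p4⁻¹) (cj u Q.p1 * Q.p1⁻¹) = w at hv hw
  obtain ⟨v, rfl⟩ : ∃ v, u = v * w := ⟨u * w⁻¹, by simp⟩
  rw [mul_inv_cancel_right] at hv
  have k : ∀ {g g' : U σ}, g' ∈ U.Q → g * g'⁻¹ ∈ sW → cj (v * w) g * (cj w g)⁻¹ ∈ sZ := fun h1 h2 => by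
    rw [cj_mul, cj_W hv (cj_up hw h1 h2).2, div_mem_sZ]; simp
  refine ⟨k ⟨rfl, rfl⟩ h.p1, k ⟨rfl, rfl⟩ h.p2, ?_, k ⟨rfl, rfl⟩ h.p6, k ⟨rfl, rfl⟩ h.p7⟩
  obtain ⟨h1, h2⟩ := cj_up hw ⟨rfl, rfl⟩ h.p4
  rw [div_mem_sW] at h1
  rw [cj_mul, cj_W hv h2]; ext <;> simp [h1]

/-- adjusting the central coordinates -/
theorem exists_W {Q : T5 (U σ)} (h : Up Q) (a b c d : K) : ∃ v ∈ sW, cj v Q.p1 = { Q.p1 with c4 := a } ∧
    cj v Q.p2 = { Q.p2 with c4 := b } ∧ cj v Q.p4 = Q.p4 ∧ cj v Q.p6 = { Q.p6 with c4 := c } ∧ cj v Q.p7 = { Q.p7 with c4 := d } := by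
  have := T.char
  obtain ⟨h1, h2, h4, h6, h7⟩ := h
  rw [div_mem_sW] at h1 h2 h4 h6 h7
  have hv : (⟨0, 0, Q.p7.c4 + d, Q.p6.c4 + c, 0, 0, Q.p2.c4 + b, 0, Q.p1.c4 + a, 0, 0, 0⟩ : U σ) ∈ sW := by msimp; simp
  refine ⟨_, hv, ?_, ?_, ?_, ?_, ?_⟩ <;> rw [cj_W hv (by msimp; simp [*])] <;> ext <;> simp [*] <;> grind

theorem of_inn {P Q : T5 (U σ)} (h : Up Q) (e : Inn P Q) : ∃ u ∈ U.Q, P = Q.map (cj u) := by
  simp only [Inn] at e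
  have hw := u0_mem (P.p4 * Q.p4⁻¹) (P.p1 * Q.p1⁻¹)
  generalize u0 (P.p4 * Q.p4⁻¹) (P.p1 * Q.p1⁻¹) = w at e hw
  obtain ⟨v, hv, h1, h2, h4, h6, h7⟩ := exists_W (Q := Q.map (cj w)) ⟨(cj_up hw ⟨rfl, rfl⟩ h.p1).1, (cj_up hw ⟨rfl, rfl⟩ h.p2).1,
    (cj_up hw ⟨rfl, rfl⟩ h.p4).1, (cj_up hw ⟨rfl, rfl⟩ h.p6).1, (cj_up hw ⟨rfl, rfl⟩ h.p7).1⟩ P.p1.c4 P.p2.c4 P.p6.c4 P.p7.c4
  refine ⟨v * w, mul_mem ⟨hv.2.2.2.2.2.1, hv.2.2.2.2.2.2⟩ hw, ?_⟩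
  simp only [T5.map, div_mem_sZ] at *
  obtain ⟨p1, p2, p4, p6, p7⟩ := P
  simp only [cj_mul, h1, h2, h4, h6, h7, T5.mk.injEq] at e ⊢
  refine ⟨?_, ?_, e.2.2.1, ?_, ?_⟩ <;> ext <;> simp [e]

/-- the generators -/
def gens (σ : K →+* K) : T5 (U σ) := ⟨x1 1, y2 1 0, y4 1 0, y6 1 0, x7 1⟩

theorem evQ_self (hq : Nat.card K = 2) {g : U σ} (hg : g ∈ Q) : evQ pw (gens σ) g.a1 (co g) = g := by
  obtain ⟨i, hi, rfl⟩ := exists_all hq g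
  have e := eq_of_ne (σ := σ) st2 i
  rw [map_evQ (φ := (bt K · i)) (pr_mul i) (pr_inv i) (pr_pw i)] at e
  simp only [T5.map, pr_cst hi] at e
  have e' : pr σ i allQ = pr σ i all := by
    simp only [pr, bt_zero, allQ, mem_Q] at hg ⊢
    rw [hg.1, hg.2]
  rw [← e']
  generalize allQ = x at e
  exact e

theorem hom_eq (hq : Nat.card K = 2) {X : Type*} [Group X] {w : U σ → X} (hw : IsHomOn Q w) {g : U σ} (hg : g ∈ Q) :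
    w g = evQ pw ((gens σ).map w) g.a1 (co g) := by
  let I : T5 (Q (σ := σ)) := ⟨⟨x1 1, rfl, rfl⟩, ⟨y2 1 0, rfl, rfl⟩, ⟨y4 1 0, rfl, rfl⟩, ⟨y6 1 0, rfl, rfl⟩, ⟨x7 1, rfl, rfl⟩⟩
  have e : evQ pw I g.a1 (co g) = ⟨g, hg⟩ := Subtype.ext
    ((map_evQ (φ := id) (f := (Q (σ := σ)).subtype) (map_mul _) (map_inv _) (map_pw _) I _ _).trans (evQ_self hq hg))
  exact (congrArg hw.toHom e).symm.trans (map_evQ (φ := id) (f := hw.toHom) (map_mul _) (map_inv _) (map_pw _) I _ _)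

theorem eqOn_Q (hq : Nat.card K = 2) {X : Type*} [Group X] {w w' : U σ → X} (hw : IsHomOn Q w) (hw' : IsHomOn Q w')
    (e : (gens σ).map w = (gens σ).map w') {g : U σ} (hg : g ∈ Q) : w g = w' g := by
  rw [hom_eq hq hw hg, hom_eq hq hw' hg, e]

/-- an outer automorphism -/
@[simps] def be (g : U σ) : U σ := { g with a3 := g.a3 + g.a1, c4 := g.c4 + g.c2, a5 := g.a5 + g.b2, c6 := g.c6 + g.b4 }

theorem classify (hq : Nat.card K = 2) {w : U σ → U σ} (hw : IsHomOn Q w) (hm : ∀ g ∈ Q, w g * (w8 g)⁻¹ ∈ sW)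
    (h1 : (w (x1 1)).c4 = 0) (h2 : (w (y2 1 0)).c4 = 0) (h6 : (w (y6 1 0)).c4 = 0) (h7 : (w (x7 1)).c4 = 0) {u : U σ} (hu : u ∈ Q)
    (hr : ∀ g ∈ Q, w (cj (y8 1 0) (w g)) = cj u (cj (y8 1 0) (w (cj (y8 0 1) g)))) :
    ∃ v ∈ Q, (gens σ).map (fun g => w (w8 g)) = (gens σ).map (cj v) ∨
      (gens σ).map (fun g => w (be (w8 g))) = (gens σ).map fun g => cj v (be g) := by
  have := T.char
  have m1 := div_mem_sW.1 (hm (x1 1) ⟨rfl, rfl⟩)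
  have m2 := div_mem_sW.1 (hm (y2 1 0) ⟨rfl, rfl⟩)
  have m4 := div_mem_sW.1 (hm (y4 1 0) ⟨rfl, rfl⟩)
  have m6 := div_mem_sW.1 (hm (y6 1 0) ⟨rfl, rfl⟩)
  have m7 := div_mem_sW.1 (hm (x7 1) ⟨rfl, rfl⟩)
  usimp at m1 m2 m4 m6 m7
  have s1 : (w (x1 1)).c2 = 0 := by
    have e := congrArg U.c4 (hw.map_mul (x := x1 1) (y := x1 1) ⟨rfl, rfl⟩ ⟨rfl, rfl⟩)
    rw [show (x1 1 * x1 1 : U σ) = 1 by usimp; grind, hw.map_one] at e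
    usimp at e; simp only [m1, map_zero] at e; grind
  have s7 : (w (x7 1)).c6 = 0 := by
    have e := congrArg U.c4 (hw.map_mul (x := x7 1) (y := x7 1) ⟨rfl, rfl⟩ ⟨rfl, rfl⟩)
    rw [show (x7 1 * x7 1 : U σ) = 1 by usimp; grind, hw.map_one] at e
    usimp at e; simp only [m7, map_zero] at e; grind
  obtain ⟨i, hi, ei⟩ := exists_lane hq [(w (x1 1)).a3, (w (x1 1)).a5, (w (x1 1)).c6,
    (w (y2 1 0)).c2, (w (y2 1 0)).a3, (w (y2 1 0)).a5, (w (y2 1 0)).c6,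
    (w (y4 1 0)).c2, (w (y4 1 0)).a3, (w (y4 1 0)).c4, (w (y4 1 0)).a5, (w (y4 1 0)).c6,
    (w (y6 1 0)).c2, (w (y6 1 0)).a3, (w (y6 1 0)).a5, (w (y6 1 0)).c6, (w (x7 1)).c2, (w (x7 1)).a3, (w (x7 1)).a5]
  change i < 2 ^ 19 at hi
  simp only [List.length_cons, List.length_nil, Nat.reduceAdd] at ei
  have ho : bt K (ones 19) i = 1 := by rw [bt, ones_bit, decide_eq_true hi, if_pos rfl]
  have eI : (im (ones 19)).map (pr σ i) = (gens σ).map w := by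
    simp only [T5.map, im, gens, T5.mk.injEq]
    refine ⟨?_, ?_, ?_, ?_, ?_⟩ <;> ext <;> simp [bt_vr _ hi, ei, bt_zero, ho, *]
  have hQ : ∀ g ∈ Q, w g ∈ Q := fun g hg => by
    have := div_mem_sW.1 (hm g hg)
    exact ⟨this.2.2.2.2.2.1, this.2.2.2.2.2.2⟩
  have hE : ∀ g : BV, pr σ i g ∈ Q → pr σ i (EB (ones 19) g) = w (pr σ i g) := fun g hg => by
    rw [EB, map_evQ (φ := (bt K · i)) (pr_mul i) (pr_inv i) (pr_pw i), eI, hom_eq hq hw hg]; rfl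
  have hc : ∀ n g, pr σ i (cjB (ones 19) n g) = cj (cd σ n) (pr σ i g) := fun n g => by
    rw [cjB, pr_mul, pr_mul, pr_inv, pr_cst hi, cj]
  have hcQ : ∀ s : U σ, ∀ g ∈ Q, cj s g ∈ Q := fun s g hg => Subgroup.Normal.conj_mem inferInstance g hg s
  have k0 : ∀ n, cd σ n ∈ Q → pr σ i (EB (ones 19) (.cst (ones 19) n)) = w (cd σ n) := fun n hn => by
    rw [hE _ (by rwa [pr_cst hi]), pr_cst hi]
  have k1 : ∀ n, cd σ n ∈ Q → pr σ i (EB (ones 19) (cjB (ones 19) 1024 (EB (ones 19) (.cst (ones 19) n)))) =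
      w (cj (y8 1 0) (w (cd σ n))) := fun n hn => by
    rw [hE _ (by rw [hc, k0 n hn]; exact hcQ _ _ (hQ _ hn)), hc, k0 n hn]; rfl
  have k2 : ∀ n, cd σ n ∈ Q → pr σ i (cjB (ones 19) 1024 (EB (ones 19) (cjB (ones 19) 2048 (.cst (ones 19) n)))) =
      cj (y8 1 0) (w (cj (y8 0 1) (cd σ n))) := fun n hn => by
    rw [hc, hE _ (by rw [hc, pr_cst hi]; exact hcQ _ _ hn), hc, pr_cst hi]; rfl
  have k3 : ∀ g ∈ Q, ∀ g' : U σ, cj (y8 1 0) (w8 (cj (y8 0 1) g)) = g' → cj (y8 1 0) (w (cj (y8 0 1) g)) * g'⁻¹ ∈ sW := by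
    rintro g hg _ rfl
    simpa [cj, mul_assoc] using Subgroup.Normal.conj_mem inferInstance _ (hm _ (hcQ (y8 0 1) g hg)) (y8 1 0)
  have b1 : (BV.ne ((im (ones 19)).p2 * (im (ones 19)).p1) ((im (ones 19)).p1 * (im (ones 19)).p2)).testBit i = false := by
    have e1 : pr σ i (im (ones 19)).p1 = w (x1 1) := congrArg T5.p1 eI
    have e2 : pr σ i (im (ones 19)).p2 = w (y2 1 0) := congrArg T5.p2 eI
    rw [ne_bit (σ := σ), pr_mul, pr_mul, e1, e2, ← hw ⟨rfl, rfl⟩ ⟨rfl, rfl⟩, ← hw ⟨rfl, rfl⟩ ⟨rfl, rfl⟩]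
    congr 1; usimp
  have b2 : (innB (pre.map fun n => EB (ones 19) (cjB (ones 19) 1024 (EB (ones 19) (.cst (ones 19) n))))
      (pre.map fun n => cjB (ones 19) 1024 (EB (ones 19) (cjB (ones 19) 2048 (.cst (ones 19) n))))).testBit i = false := by
    rw [inn_bit (σ := σ)]
    simp (disch := exact mem_Q.2 ⟨rfl, rfl⟩) only [T5.map, pre, k1, k2, hr]
    refine inn_of hu (Q := ⟨_, _, _, _, _⟩) ⟨k3 _ ⟨rfl, rfl⟩ _ ?_, k3 _ ⟨rfl, rfl⟩ _ ?_, k3 _ ⟨rfl, rfl⟩ _ ?_, k3 _ ⟨rfl, rfl⟩ _ ?_,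
      k3 _ ⟨rfl, rfl⟩ _ ?_⟩ <;> simp only [cj, cd, bt] <;> usimp <;> simp <;> grind
  have e := (congrArg (·.testBit i) st).trans (Nat.zero_testBit i)
  simp only [show ∀ x y : ℕ, x.land y = x &&& y from fun _ _ => rfl, Nat.testBit_and, Bool.and_eq_false_iff,
    show ∀ x y : ℕ, x.xor y = x ^^^ y from fun _ _ => rfl, Nat.testBit_xor, (lor_bit ..).2 ⟨b1, b2⟩, ones_bit, decide_eq_true hi,
    inn_bit (σ := σ)] at e
  simp (disch := exact mem_Q.2 ⟨rfl, rfl⟩) only [T5.map, k0, pr_cst hi] at e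
  rcases e with (e | e) | e
  · cases e
  · obtain ⟨v, hv, e⟩ := of_inn (by constructor <;> rw [div_mem_sW] <;> and_intros <;> rfl) e
    refine ⟨v, hv, Or.inl ?_⟩
    convert e using 1 <;> simp only [T5.map, gens] <;> congr 2 <;> simp only [cd, bt] <;> usimp <;> simp <;> decide
  · obtain ⟨v, hv, e⟩ := of_inn (by constructor <;> rw [div_mem_sW] <;> and_intros <;> rfl) e
    refine ⟨v, hv, Or.inr ?_⟩
    convert e using 1 <;> simp only [T5.map, gens] <;> congr 2 <;> simp only [cd, bt, be] <;> usimp <;> simp <;> decide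

end CL.RF4.TQ
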