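/-
S5262, `q = 2`.
-/
import Cfsg.Agent.FUS.RF4.Std
import Cfsg.Agent.FUS.RF4.Ext
import Cfsg.Agent.FUS.RF4.TwoA

set_option autoImplicit false
set_option linter.unusedSimpArgs false
set_option linter.unusedSectionVars false

namespace CL.RF4

open CL.Fus CL.RF CL.RF.U Subgroup Cfsg Cfsg.FusionSystem
open scoped commutatorElement

variable {K : Type*} [Field K] [Finite K] {σ : K →+* K} [T : Tits σ] {F F' : FusionSystem (⊤ : Subgroup (U σ))}

namespace TQ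

open CL.RF.TA

theorem z1 (hq : Nat.card K = 2) (c : K) : c = 0 ∨ c = 1 := by
  obtain ⟨y, -, hy⟩ := (Nat.card_eq_two_iff' (0 : K)).1 hq
  by_cases h : c = 0
  · exact .inl h
  · exact .inr ((hy c h).trans (hy 1 one_ne_zero).symm)

theorem be_mul (hq : Nat.card K = 2) (g h : U σ) : be (g * h) = be g * be h := by
  have := T.char
  have e : ∀ c, σ c = c := fun c => by rcases z1 hq c with rfl | rfl <;> simp
  have e2 : ∀ c : K, c ^ 2 = c := fun c => by rcases z1 hq c with rfl | rfl <;> simp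
  have e3 : ∀ c : K, c ^ 3 = c := fun c => by rcases z1 hq c with rfl | rfl <;> simp
  simp only [be]; usimp; simp only [e, e2, e3]
  rcases z1 hq h.a1 with h1 | h1 <;> rcases z1 hq h.b2 with h2 | h2 <;> rcases z1 hq g.b8 with h3 | h3 <;>
    simp only [h1, h2, h3] <;> and_intros <;> grind

theorem be_be (g : U σ) : be (be g) = g := by
  have := T.char
  ext <;> simp only [be] <;> grind

/-- the outer automorphism -/
def beA (hq : Nat.card K = 2) : MulAut (U σ) := ⟨⟨be, be, be_be, be_be⟩, be_mul hq⟩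

theorem up (hq : Nat.card K = 2) {w w' : U σ → U σ} (h : IsoOn Q Q w w') (h7 : ∀ x ∈ sA7, w x ∈ sA1) (h1 : ∀ x ∈ sA1, w x ∈ sA7) :
    ∀ g ∈ Q, w g * (w8 g)⁻¹ ∈ sW := by
  have := T.char
  obtain ⟨iZ, iW, iR⟩ := ivQ (au_pair h)
  have nW : ∀ g ∈ Q, w g ∈ sW → g ∈ sW := fun g hg e => h.left g hg ▸ iW w' (Or.inr rfl) _ (h.maps g hg) e
  have o : ∀ c : K, c ≠ 0 → c = 1 := fun c hc => (z1 hq c).resolve_left hc
  have a := h1 (x1 1) (by msimp; usimp)
  have e := h7 (x7 1) (by msimp; usimp)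
  have c : w (y4 1 0) ∈ sR := iR w (Or.inl rfl) _ ⟨rfl, rfl⟩ (by msimp; usimp)
  have aW : w (x1 1) ∉ sW := fun k => by simpa using (nW _ ⟨rfl, rfl⟩ k).1
  have eW : w (x7 1) ∉ sW := fun k => by simpa using (nW _ ⟨rfl, rfl⟩ k).2.2.2.2.1
  have cW : w (y4 1 0) ∉ sW := fun k => by simpa using (nW _ ⟨rfl, rfl⟩ k).2.2.1
  have n7 := map_point h.symm (Or.inr rfl) (Or.inl rfl) a aW (by rw [h.left _ ⟨rfl, rfl⟩]; msimp; usimp)
  have n1 := map_point h.symm (Or.inl rfl) (Or.inr rfl) e eW (by rw [h.left _ ⟨rfl, rfl⟩]; msimp; usimp)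
  have bA : w (y2 1 0) ∉ sA7 := fun k => by simpa [h.left (y2 1 0) ⟨rfl, rfl⟩] using (n7 _ k).1
  have dA : w (y6 1 0) ∉ sA1 := fun k => by simpa [h.left (y6 1 0) ⟨rfl, rfl⟩] using (n1 _ k).2.2.2.1
  have cm : ∀ {x y : U σ}, x ∈ Q → y ∈ Q → ⁅x, y⁆ ∈ sZ → ⁅w x, w y⁆ ∈ sZ := fun hx hy k => by
    rw [← h.hom.map_commutator hx hy]
    exact iZ w (Or.inl rfl) _ (mul_mem (mul_mem (mul_mem hx hy) (inv_mem hx)) (inv_mem hy)) k
  have ab := cm (x := x1 1) (y := y2 1 0) ⟨rfl, rfl⟩ ⟨rfl, rfl⟩ (by msimp; usimp; grind)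
  have ed := cm (x := x7 1) (y := y6 1 0) ⟨rfl, rfl⟩ ⟨rfl, rfl⟩ (by msimp; usimp; grind)
  have bd := cm (x := y2 1 0) (y := y6 1 0) ⟨rfl, rfl⟩ ⟨rfl, rfl⟩ (by msimp; usimp; grind)
  have bQ := h.maps (y2 1 0) ⟨rfl, rfl⟩
  have dQ := h.maps (y6 1 0) ⟨rfl, rfl⟩
  have k : (gens σ).map ((QuotientGroup.mk' sW : U σ → _) ∘ w) = (gens σ).map ((QuotientGroup.mk' sW : U σ → _) ∘ w8) := by
    simp only [T5.map, gens, T5.mk.injEq, Function.comp, QuotientGroup.mk'_apply, QuotientGroup.eq_iff_div_mem, div_eq_mul_inv,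
      div_mem_sW]
    generalize w (x1 1) = A, w (y2 1 0) = B, w (y4 1 0) = C, w (y6 1 0) = D, w (x7 1) = E at *
    msimp at a e c aW eW cW bA dA ab ed bd bQ dQ
    have a7 : A.a7 = 1 := o _ fun k => aW (by simp [*])
    have e1 : E.a1 = 1 := o _ fun k => eW (by simp [*])
    have c4 : C.b4 = 1 := o _ fun k => cW (by simp [*])
    usimp at ab ed
    simp only [a, e, a7, e1, bQ, dQ, map_zero, map_one] at ab ed
    have b1 : B.a1 = 0 := (map_eq_zero σ).1 (by grind)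
    have b2 : B.b2 = 0 := (map_eq_zero σ).1 (by simp only [b1] at ab; grind)
    have b4 : B.b4 = 0 := by simp only [b1, b2, map_zero] at ab; grind
    have d7 : D.a7 = 0 := (map_eq_zero σ).1 (by grind)
    have d6 : D.b6 = 0 := (map_eq_zero σ).1 (by simp only [d7] at ed; grind)
    have d4 : D.b4 = 0 := by simp only [d7, d6, map_zero] at ed; grind
    have b6 : B.b6 = 1 := o _ fun k => bA (by simp [*])
    have d2 : D.b2 = 1 := o _ fun k => dA (by simp [*])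
    usimp at bd
    simp only [b1, b2, b4, b6, d7, d6, d4, d2, bQ, dQ, map_zero, map_one] at bd
    have d1 : D.a1 = 0 := (map_eq_zero σ).1 (by grind)
    have b7 : B.a7 = 0 := by simp only [d1, map_zero] at bd; grind
    usimp; simp [*]
  intro g hg
  have := eqOn_Q hq (fun x hx y hy => by simp only [Function.comp, h.hom hx hy, map_mul])
    (fun x hx y hy => by simp only [Function.comp, isoOn_w8.hom hx hy, map_mul]) k hg
  simpa only [Function.comp, QuotientGroup.mk'_apply, QuotientGroup.eq_iff_div_mem, div_eq_mul_inv] using this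

theorem innerQ (hq : Nat.card K = 2) (hF : F.IsSaturated 2) (hc : F.IsCentric Q) {f : U σ → U σ} (hf : Mor F Q f)
    (h : ∀ g ∈ Q, f g * g⁻¹ ∈ sW) : ∃ u ∈ Q, ∀ g ∈ Q, f g = cj u g := by
  have := T.char
  obtain ⟨k, hk, e⟩ := extQ hF hc hf (fun x hx => by have := div_mem_sW.1 (h x hx); msimp at *; simp [*])
    fun x hx => by have := div_mem_sW.1 (h x ⟨hx.2.2.2.2.1, hx.2.2.2.2.2⟩); msimp at *; simp [*]
  obtain ⟨u, hu⟩ := std_two hq hF hk
  refine ⟨u, ?_, fun g hg => by rw [← e hg, hu]⟩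
  have e1 := h (x1 1) ⟨rfl, rfl⟩
  rw [← e ⟨rfl, rfl⟩, hu, div_mem_sW, cj] at e1
  usimp at e1
  constructor <;> grind

theorem innerQ' (hq : Nat.card K = 2) (hF : F.IsSaturated 2) (hc : F.IsCentric Q') {f : U σ → U σ} (hf : Mor F Q' f)
    (h : ∀ g ∈ Q', f g ∈ Q') (h4 : f (y4 0 1) = y4 0 1) (h6 : f (y6 0 1) = y6 0 1) : ∃ u ∈ Q', ∀ g ∈ Q', f g = cj u g := by
  have := T.char
  obtain ⟨k, hk, e⟩ := extQ' hF hc hf h fun x hx => by
    rw [sZ_eq] at hx ⊢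
    obtain ⟨c, rfl⟩ := hx
    rcases z1 hq c with rfl | rfl
    exacts [⟨0, hf.map_one⟩, ⟨1, h4⟩]
  obtain ⟨u, hu⟩ := std_two hq hF hk
  refine ⟨u, ?_, fun g hg => by rw [← e hg, hu]⟩
  rw [← e (show y6 0 1 ∈ Q' from rfl), hu, cj_eq_self_iff] at h6
  have e1 := congrArg U.c4 h6
  usimp at e1
  rw [mem_Q']; grind

theorem img_eq {P : Subgroup (U σ)} (β : MulAut (U σ)) (h : ∀ g ∈ P, β g ∈ P) : img β.symm P = P := by
  have e : img β P = P := eq_of_le_of_card_ge (img_le_iff.2 h)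
    (IsHomOn.card_img (fun x _ y _ => map_mul β x y) β.injective.injOn).ge
  refine le_antisymm (img_le_iff.2 fun g hg => ?_) fun g hg => by simpa using mem_img_of_mem β.symm (h g hg)
  obtain ⟨x, hx, rfl⟩ := (IsHomOn.mem_img fun x _ y _ => map_mul β x y).1 (e.ge hg)
  simpa using hx

theorem isoOn_aut (β : MulAut (U σ)) : IsoOn ⊤ ⊤ β.symm β :=
  ⟨fun x _ y _ => map_mul β.symm x y, fun _ _ => trivial, fun _ _ => trivial, fun x _ => by simp, fun x _ => by simp⟩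

theorem mor_of {P : Subgroup (U σ)} {β : MulAut (U σ)} (hc : Corr β.symm β F F') (h : ∀ g ∈ P, β g ∈ P) {f f' : U σ → U σ}
    (hf : Mor F P f) (e : ∀ g ∈ P, f (β g) = β (f' g)) : Mor F' P f' := by
  have e1 := img_eq β h
  have := hc.mor_of hf (f' := f') fun x hx => by
    have := e _ (e1 ▸ mem_img_of_mem β.symm hx : β.symm x ∈ P)
    rw [MulEquiv.apply_symm_apply] at this
    rw [this, MulEquiv.symm_apply_apply]
  rwa [e1] at this

theorem stepQ (hq : Nat.card K = 2) (hF : F.IsSaturated 2) (hE : F.IsEssential 2 Q) : ∃ (β : MulAut (U σ))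
    (F' : FusionSystem (⊤ : Subgroup (U σ))), (∀ g ∈ Q', β g ∈ Q') ∧ Corr β.symm β F F' ∧ Mor F' Q w8 := by
  have := T.char
  have hcQ : ∀ s : U σ, ∀ g ∈ Q, cj s g ∈ Q := fun s g hg => Normal.conj_mem inferInstance g hg s
  have mc : ∀ s : U σ, Mor F Q (cj s) := fun s => mor_cj F le_top trivial
  obtain ⟨w₀, m₀, q₀, h7, h1⟩ := swapQ hF hE
  obtain ⟨w₀', -, i₀⟩ := exists_isoOn m₀ q₀
  have u₀ := up hq i₀ h7 h1
  obtain ⟨v, hv, e7, e6, -, e2, e1⟩ := exists_W (Q := ⟨w₀ (x7 1), w₀ (y6 1 0), w₀ (y4 1 0), w₀ (y2 1 0), w₀ (x1 1)⟩)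
    (by constructor <;> refine (congrArg (fun x => _ * x⁻¹ ∈ sW) ?_).mp (u₀ _ ⟨rfl, rfl⟩) <;> usimp) 0 0 0 0
  have m : Mor F Q (cj v ∘ w₀) := m₀.cj_comp trivial
  have hm : ∀ g ∈ Q, (cj v ∘ w₀) g * (w8 g)⁻¹ ∈ sW := fun g hg =>
    (cj_up ⟨hv.2.2.2.2.2.1, hv.2.2.2.2.2.2⟩ ⟨rfl, rfl⟩ (u₀ g hg)).1
  replace e1 : ((cj v ∘ w₀) (x1 1)).c4 = 0 := congrArg U.c4 e1
  replace e2 : ((cj v ∘ w₀) (y2 1 0)).c4 = 0 := congrArg U.c4 e2
  replace e6 : ((cj v ∘ w₀) (y6 1 0)).c4 = 0 := congrArg U.c4 e6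
  replace e7 : ((cj v ∘ w₀) (x7 1)).c4 = 0 := congrArg U.c4 e7
  have q : ∀ g ∈ Q, (cj v ∘ w₀) g ∈ Q := fun g hg => hcQ _ _ (q₀ g hg)
  generalize cj v ∘ w₀ = w at *
  have m1 : Mor F Q (cj (y8 1 0) ∘ w ∘ cj (y8 0 1)) := (m.comp (mc _) (hcQ _)).cj_comp trivial
  obtain ⟨k, mk, ik⟩ := exists_isoOn m1 fun g hg => hcQ _ _ (q _ (hcQ _ g hg))
  obtain ⟨u, hu, eu⟩ := innerQ hq hF hE.1 (f := w ∘ cj (y8 1 0) ∘ w ∘ k)
    (m.comp ((m.comp mk ik.maps').cj_comp trivial) fun g hg => hcQ _ _ (q _ (ik.maps' g hg))) fun g hg => by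
      have hk := ik.maps' g hg
      have k1 := div_mem_sW.1 (hm _ (hcQ (y8 1 0) _ (q _ hk)))
      have k2 := div_mem_sW.1 (hm _ hk)
      have k3 := div_mem_sW.1 (hm _ (hcQ (y8 0 1) _ hk))
      have k4 := ik.right g hg
      simp only [Function.comp] at k4 ⊢
      generalize k g = x at *
      subst k4
      rw [div_mem_sW]
      simp only [k1]
      simp only [cj] at k3 ⊢; usimp; simp only [k2, k3, cj]; usimp
      have := hk.1; have := hk.2; and_intros <;> grind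
  obtain ⟨s, hs, e | e⟩ := classify hq m.isHomOn hm e1 e2 e6 e7 hu fun g hg => by
    have := eu _ (ik.maps g hg)
    rwa [Function.comp, Function.comp, Function.comp, ik.left g hg] at this
  · refine ⟨1, F, fun _ h => h, Corr.refl F, (m.cj_comp (s := s⁻¹) trivial).congr fun g hg => ?_⟩
    have := eqOn_Q hq (m.isHomOn.comp isoOn_w8.hom isoOn_w8.maps) (isHomOn_cj _ s) e (isoOn_w8.maps g hg)
    rw [Function.comp, isoOn_w8.left g hg] at this
    rw [Function.comp, this, cj_inv_cj]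
  · obtain ⟨F', hc⟩ := (isoOn_aut (beA hq)).exists_corr F
    have hb : IsHomOn (Q (σ := σ)) be := fun x _ y _ => be_mul hq x y
    have hk : be (be s) = s := be_be s
    refine ⟨_, F', fun _ h => h, hc, ((mor_of hc (fun _ h => h) m (f' := cj (be s) ∘ w8) fun g hg => ?_).cj_comp (s := (be s)⁻¹)
      trivial).congr fun g _ => cj_inv_cj _ _⟩
    have := eqOn_Q hq ((m.isHomOn.comp hb fun _ h => h).comp isoOn_w8.hom isoOn_w8.maps) ((isHomOn_cj Q s).comp hb fun _ h => h) e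
      (isoOn_w8.maps g hg)
    simp only [Function.comp, isoOn_w8.left g hg] at this
    simp only [Function.comp, cj, map_mul, map_inv]
    exact this.trans (by show _ = be (be s) * be _ * (be (be s))⁻¹; rw [be_be]; rfl)

theorem dih {G : Type*} [Group G] {c d : G} (hc : c * c = 1) (hd : d * d = 1) {n : ℕ} (h : ((c * d) ^ 3) ^ n = 1) :
    (c * d) ^ n * c * ((c * d) ^ n * c) = 1 ∧ (c * d) ^ n * c * c * ((c * d) ^ n * c) = c * ((c * d) ^ n * c) * c := by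
  have e1 : c * (c * d) * c⁻¹ = (c * d)⁻¹ := by
    rw [← mul_assoc, hc, one_mul, mul_inv_rev, inv_eq_of_mul_eq_one_right hd]
  have e2 : c * (c * d) ^ n * c⁻¹ = ((c * d) ^ n)⁻¹ := by rw [← conj_pow, e1, inv_pow]
  rw [pow_right_comm] at h
  generalize (c * d) ^ n = e at *
  rw [inv_eq_of_mul_eq_one_right hc] at e2
  refine ⟨by rw [mul_assoc, ← mul_assoc c, e2, mul_inv_cancel], ?_⟩
  rw [mul_assoc e c c, hc, mul_one, ← mul_assoc c, e2, ← mul_assoc, mul_left_inj, eq_inv_iff_mul_eq_one, ← h, pow_three']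

theorem exists_w (hq : Nat.card K = 2) (hF : F.IsSaturated 2) (hE : F.IsEssential 2 Q') : ∃ w, Mor F Q' w ∧ (∀ g ∈ Q', w g ∈ Q') ∧
    (∀ g ∈ Q', w (w g) = g) ∧ (∀ g ∈ Q', w (c1 (w g)) = c1 (w (c1 g))) ∧ w (y4 0 1) = y6 0 1 ∧ w (y6 0 1) = y4 0 1 := by
  have := T.char
  obtain ⟨w₀, m₀, q₀, h4, h6⟩ := swapQ' hF hE
  obtain ⟨ω, hω, eω⟩ := m₀.exists_aut (m₀.img_eq_self q₀)
  let A : Q' (σ := σ) := ⟨y4 0 1, rfl⟩
  let B : Q' (σ := σ) := ⟨y6 0 1, rfl⟩
  have hn : ∀ s : U σ, s ∈ normalizer (Q' (σ := σ) : Set (U σ)) := fun s => le_normalizer_of_normal (H := Q') (K := ⊤) trivial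
  have ne : ∀ x : Q' (σ := σ), x ≠ 1 → w₀ x ≠ 1 := fun x hx e => hx (Subtype.ext ((m₀.eq_one_iff x.2).1 e))
  have ωA : ω A = B := Subtype.ext (by
    rw [← autFun_coe, eω A.2]
    have k := h4 A (by msimp; simp [A])
    have k' := ne A fun e => by simpa [A] using congrArg (fun x : Q' (σ := σ) => x.1.c4) e
    msimp at k
    rcases z1 hq (w₀ A).c6 with e | e
    · exact absurd (by usimp; simp [*]) k'
    · simp only [B]; usimp; simp [*])
  have ωB : ω B = A := Subtype.ext (by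
    rw [← autFun_coe, eω B.2]
    have k := h6 B (by msimp; simp [B])
    have k' := ne B fun e => by simpa [B] using congrArg (fun x : Q' (σ := σ) => x.1.c6) e
    msimp at k
    rcases z1 hq (w₀ B).c4 with e | e
    · exact absurd (by usimp; simp [*]) k'
    · simp only [A]; usimp; simp [*])
  set c := cjAut Q' (x1 1 : U σ) (hn _) with hcd
  have hcF : c ∈ F.autGroup Q' := cjAut_mem_autGroup F le_top trivial _
  have xx : (x1 1 * x1 1 : U σ) = 1 := by usimp; grind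
  have cc : c * c = 1 := MulEquiv.ext fun x => Subtype.ext (by
    show cj _ (cj _ x.1) = x.1
    rw [← cj_mul, xx, cj_one])
  have cA : c A = A := Subtype.ext (by show cj _ _ = _; simp only [cj, A]; usimp; grind)
  have cB : c B = A * B := Subtype.ext (by show cj _ _ = A.1 * B.1; simp only [cj, A, B]; usimp; grind)
  have r1 : A * B * A = B := Subtype.ext (by show A.1 * B.1 * A.1 = _; simp only [A, B]; usimp; grind)
  have r2 : B * (A * B) = A := Subtype.ext (by show B.1 * (A.1 * B.1) = _; simp only [A, B]; usimp; grind)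
  have iA : ω⁻¹ A = B := by rw [← ωB]; exact ω.symm_apply_apply _
  have iB : ω⁻¹ B = A := by rw [← ωA]; exact ω.symm_apply_apply _
  have dd : ω * c * ω⁻¹ * (ω * c * ω⁻¹) = 1 := by rw [conj_mul, cc, mul_one, mul_inv_cancel]
  have hρ : c * (ω * c * ω⁻¹) ∈ F.autGroup Q' := mul_mem hcF (mul_mem (mul_mem hω hcF) (inv_mem hω))
  have ρA : (c * (ω * c * ω⁻¹)) A = B := by simp only [MulAut.mul_apply, iA, cB, map_mul, ωA, ωB, cA, r1]
  have ρB : (c * (ω * c * ω⁻¹)) B = A * B := by simp only [MulAut.mul_apply, iB, cB, ωA, cA]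
  have key := fun h => dih (n := 4096) cc dd h
  generalize c * (ω * c * ω⁻¹) = ρ at *
  have tA : (ρ ^ 3) A = A := by simp only [pow_three', MulAut.mul_apply, ρA, ρB, map_mul, r2]
  have tB : (ρ ^ 3) B = B := by simp only [pow_three', MulAut.mul_apply, ρA, ρB, map_mul, r2, r1]
  obtain ⟨u, -, eu⟩ := innerQ' hq hF hE.1 (mor_autFun le_top (pow_mem hρ 3)) (fun g hg => autFun_mem _ hg)
    ((autFun_coe _ A).trans (congrArg _ tA)) ((autFun_coe _ B).trans (congrArg _ tB))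
  obtain ⟨k1, k2⟩ := key (by
    rw [show ρ ^ 3 = cjAut Q' u (hn u) from mulAut_ext_autFun fun x hx => (eu x hx).trans (autFun_cjAut _ hx).symm, cjAut, ← map_pow,
      show (⟨u, hn u⟩ : normalizer (Q' (σ := σ) : Set (U σ))) ^ 4096 = 1 from Subtype.ext
        (by simpa [card_eq, hq] using pow_card_eq_one' (x := u)), map_one])
  have fx : ∀ x, (ρ ^ 3) x = x → (ρ ^ 4096) x = ρ x := fun x hx => by
    rw [show 4096 = 1 + 3 * 1365 from rfl, pow_add, pow_one, pow_mul, MulAut.mul_apply,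
      show ((ρ ^ 3) ^ 1365) x = x from pow_mem (show ρ ^ 3 ∈ MulAction.stabilizer _ x from hx) 1365]
  have hc1 : ∀ g ∈ Q', c1 g = autFun c g := fun g hg => by
    rw [hcd, autFun_cjAut _ hg, cj, inv_eq_of_mul_eq_one_right xx]; rfl
  refine ⟨autFun (ρ ^ 4096 * c), mor_autFun le_top (mul_mem (pow_mem hρ _) hcF), fun g hg => autFun_mem _ hg,
    fun g hg => by rw [← autFun_mul _ _ hg, k1, autFun_one hg], fun g hg => ?_, (autFun_coe _ A).trans ?_, (autFun_coe _ B).trans ?_⟩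
  · rw [hc1 g hg, hc1 _ (autFun_mem _ hg), hc1 _ (autFun_mem _ (autFun_mem _ hg)), ← autFun_mul _ _ hg, ← autFun_mul _ _ hg,
      ← autFun_mul _ _ hg, ← autFun_mul _ _ hg, ← mul_assoc, k2, mul_assoc]
  · rw [MulAut.mul_apply, cA, fx A tA, ρA]
  · rw [MulAut.mul_apply, cB, map_mul, fx A tA, fx B tB, ρA, ρB, r2]

theorem hom_eq' (hq : Nat.card K = 2) {w : U σ → U σ} (hw : IsHomOn Q' w) {g : U σ} (hg : g ∈ Q') :
    w g = ev pw (imgs (w (y2 1 0)) (w (y4 1 0)) (w (y8 1 0)) (w (y4 0 1)) (w (y6 0 1))) (co g) := by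
  have e : ev pw (imgs (X := Q' (σ := σ)) ⟨y2 1 0, rfl⟩ ⟨y4 1 0, rfl⟩ ⟨y8 1 0, rfl⟩ ⟨y4 0 1, rfl⟩ ⟨y6 0 1, rfl⟩) (co g) = ⟨g, hg⟩ :=
    Subtype.ext ((map_ev (φ := id) (f := (Q' (σ := σ)).subtype) (map_mul _) (map_pw _) _ _).trans (by
      rw [map_imgs (map_mul _) (map_inv _)]; exact ev_self hq hg))
  refine (congrArg hw.toHom e).symm.trans ((map_ev (φ := id) (f := hw.toHom) (map_mul _) (map_pw _) _ _).trans ?_)
  rw [map_imgs (map_mul _) (map_inv _)]; rfl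

theorem stepQ' (hq : Nat.card K = 2) (hF : F.IsSaturated 2) (hE : F.IsEssential 2 Q') (h8 : Mor F Q w8) : ∃ (β : MulAut (U σ))
    (F' : FusionSystem (⊤ : Subgroup (U σ))), Corr β.symm β F F' ∧ Mor F' Q w8 ∧ Mor F' Q' w1 := by
  have := T.char
  obtain ⟨w, m, q, ww, br, w4, w6⟩ := exists_w hq hF hE
  have hcQ : ∀ s : U σ, ∀ g ∈ Q', cj s g ∈ Q' := fun s g hg => Normal.conj_mem inferInstance g hg s
  have c1Q : ∀ g ∈ Q', c1 g ∈ Q' (σ := σ) := fun g hg => by rw [mem_Q'] at *; rw [c1, cd_1]; usimp; grind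
  have hE : ∀ g ∈ Q', EE (w (y2 1 0)) (w (y4 1 0)) (w (y8 1 0)) g = w g := fun g hg => by
    rw [hom_eq' hq m.isHomOn hg, w4, w6]; rfl
  have q2 := q (y2 1 0) rfl
  have q4 := q (y4 1 0) rfl
  have q8 := q (y8 1 0) rfl
  obtain ⟨t, ht, s, -, e2, e4, e8⟩ := TA.classify hq q2 q4 q8
    (by rw [← m.map_mul rfl rfl, show (y4 1 0 * y4 1 0 : U σ) = y4 0 1 by usimp; grind, w4, cd_256])
    (by rw [hE _ q2, ww _ rfl, cd_2]) (by rw [hE _ q4, ww _ rfl, cd_16]) (by rw [hE _ q8, ww _ rfl, cd_1024])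
    (by rw [hE _ (c1Q _ q2), br _ rfl]; congr 2; rw [c1, cd_1]; usimp; grind)
    (by rw [hE _ (c1Q _ q4), br _ rfl, ← c1_16, hE _ (c1Q _ rfl), cd_16])
    (by rw [hE _ (c1Q _ q8), br _ rfl, ← c1_1024, hE _ (c1Q _ rfl), cd_1024])
  obtain ⟨α, hα⟩ := exists_good (σ := σ) hq ht
  let β : MulAut (U σ) := MulEquiv.ofBijective α (Finite.injective_iff_bijective.1 hα.inj)
  have βQ : ∀ g ∈ Q', α g ∈ Q' := fun g hg => (hα.a1 g).trans hg
  obtain ⟨F', hc⟩ := (isoOn_aut β).exists_corr F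
  have m' : Mor F Q' (cj s ∘ w ∘ cj s⁻¹) := (m.comp (mor_cj F le_top trivial) (hcQ _)).cj_comp trivial
  refine ⟨β, F', hc, mor_of (P := Q) hc (fun g hg => (hα.q g hg.1 hg.2).1) h8 fun g hg => (hα.q g hg.1 hg.2).2.symm,
    mor_of (P := Q') hc βQ m' fun g hg => ?_⟩
  have k : ∀ g ∈ Q', s * EE (w (y2 1 0)) (w (y4 1 0)) (w (y8 1 0)) (s⁻¹ * α g * s) * s⁻¹ = (cj s ∘ w ∘ cj s⁻¹) (α g) := fun g hg => by
    rw [hE _ (by simpa [cj] using hcQ s⁻¹ _ (βQ g hg))]; simp [cj]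
  rw [← hα.gen 1 (by omega), ← hα.gen 10 (by omega)] at e2 e8
  rw [← hα.gen 4 (by omega), ← hα.gen 7 (by omega)] at e4
  rw [k _ rfl] at e2 e4 e8
  have ww' : ∀ g ∈ Q', (cj s ∘ w ∘ cj s⁻¹) ((cj s ∘ w ∘ cj s⁻¹) g) = g := fun g hg => by
    simp only [Function.comp, cj_inv_cj, ww _ (hcQ _ g hg), cj_cj_inv]
  generalize cj s ∘ w ∘ cj s⁻¹ = ψ at *
  have hψ : IsHomOn Q' (ψ ∘ α) := m'.isHomOn.comp (fun x _ y _ => map_mul α x y) βQ
  have f4 : ψ (α (y4 0 1)) = α (y6 0 1) := by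
    have := hψ (x := y4 1 0) rfl (y := y4 1 0) rfl
    rw [show (y4 1 0 * y4 1 0 : U σ) = y4 0 1 by usimp; grind, show (ψ ∘ α) (y4 1 0) = α (y6 1 0) from e4, ← map_mul,
      show (y6 1 0 * y6 1 0 : U σ) = y6 0 1 by usimp; grind] at this
    exact this
  have f6 : ψ (α (y6 0 1)) = α (y4 0 1) := by rw [← f4, ww' _ (βQ _ rfl)]
  refine (hom_eq' hq hψ hg).trans (Eq.trans ?_ (hom_eq' hq (w := α ∘ w1) (fun x hx y hy => by
    simp only [Function.comp, w1_mul hx hy, map_mul]) hg).symm)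
  congr 2 <;> simp only [Function.comp]
  · exact e2.trans (congrArg α (by rw [show cd σ (2 ^ 10) = y8 1 0 from rfl]; usimp))
  · exact e4.trans (congrArg α (by rw [show cd σ (2 ^ 7) = y6 1 0 from rfl]; usimp))
  · exact e8.trans (congrArg α (by rw [show cd σ (2 ^ 1) = y2 1 0 from rfl]; usimp))
  · exact f4.trans (congrArg α (by usimp))
  · exact f6.trans (congrArg α (by usimp))

end TQ

theorem two (hq : Nat.card K = 2) (hF : F.IsSaturated 2) (hE : F.IsEssential 2 Q) (hE' : F.IsEssential 2 Q') :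
    ∃ (β : MulAut (U σ)) (F' : FusionSystem (⊤ : Subgroup (U σ))), Corr β β.symm F F' ∧ Mor F' Q w8 ∧ Mor F' Q' w1 := by
  obtain ⟨β, F₁, hβ, hc, h8⟩ := TQ.stepQ hq hF hE
  obtain ⟨γ, F₂, hc', h8', h1⟩ := TQ.stepQ' hq (hc.isSaturated hF) (TQ.img_eq β hβ ▸ hc.isEssential hE') h8
  exact ⟨(β * γ).symm, F₂, hc.trans hc', h8', h1⟩

end CL.RF4
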