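/-
S5262: assembly.
-/
import Cfsg.Agent.FUS.RF4.Big
import Cfsg.Agent.FUS.RF4.Real
import Cfsg.Agent.FUS.RF4.Two
import Cfsg.Agent.FUS.S4.Tools

set_option autoImplicit false
set_option linter.unusedSimpArgs false
set_option linter.unusedSectionVars false

namespace CL.RF4

open CL.Fus CL.RF CL.RF.U Subgroup Cfsg Cfsg.FusionSystem
open scoped commutatorElement

variable {K : Type*} [Field K] [Finite K] {σ : K →+* K} [T : Tits σ] {F F' : FusionSystem (⊤ : Subgroup (U σ))}

theorem main {r : R8 K} {G : Type*} [Group G] [Finite G] (A : OS σ r G) (hA : A.grp = ⊤) (ho : Odd A.S.index)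
    (hF : F.IsSaturated 2) : F.IsRealizable 2 := by
  obtain ⟨β, F₁, hc, hS⟩ := exists_std hF
  replace hF := hc.isSaturated hF
  refine hc.symm.isRealizable ?_
  by_cases h : F₁.IsEssential 2 Q ∧ F₁.IsEssential 2 Q'
  swap
  · refine S4F.realizable_of_constrained isPGroup_top (S4F.constrained_of_unique isPGroup_top hF fun R R' hR hR' => ?_)
    rcases ess_cases hF hR with rfl | rfl <;> rcases ess_cases hF hR' with rfl | rfl
    exacts [rfl, absurd ⟨hR, hR'⟩ h, absurd ⟨hR', hR⟩ h, rfl]
  rcases (show Nat.card K = 2 ∨ 2 < Nat.card K by have := Finite.one_lt_card (α := K); omega) with hq | hq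
  · obtain ⟨β, F₂, hc, h8, h1⟩ := two hq hF h.1 h.2
    replace hF := hc.isSaturated hF
    have e : ∀ s : Kˣ, s = 1 := fun s => by
      have : Nat.card Kˣ = 1 := by rw [Nat.card_units, hq]
      exact (Nat.card_eq_one_iff_unique.1 this).1.allEq _ _
    refine hc.symm.isRealizable (realizable A hA ho hF (fun f hf => ?_) (fun t => ?_) h8 h1)
    · obtain ⟨u, hu⟩ := std_two hq hF hf
      exact ⟨u, 1, 1, fun g => by rw [hu, dd_one, map_one]; rfl⟩
    · rw [show t = 1 from Prod.ext (e _) (e _), map_one]; exact mor_id _ le_rfl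
  · obtain ⟨ht, h8⟩ := w8_mem hq hF hS h.1 h.2
    exact realizable A hA ho hF hS ht h8 (w1_mem hq hF hS h.2 ht)

end CL.RF4
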